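import Cfsg.Agent.Lib.PGroups.Omega
import Cfsg.Agent.Lib.G2Fusion23.Transfer

/-!
# Generalities for the 2-groups without normal elementary subgroup of order eight (S3102, helper59)
-/

set_option autoImplicit false
set_option linter.unusedSectionVars false
set_option linter.style.haveILetI false

namespace Cfsg.Agent.Lib.NoEight59

open Subgroup

/-- Conjugation. -/
abbrev cj {X : Type*} [Group X] (g : X) : X ≃* X := MulAut.conj g

section
variable {X : Type*} [Group X]

theorem cj_apply (g x : X) : cj g x = g * x * g⁻¹ := rfl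

theorem cj_mul (g g' x : X) : cj (g * g') x = cj g (cj g' x) := by
  rw [cj_apply, cj_apply, cj_apply]; group

theorem cj_one (x : X) : cj 1 x = x := by simp [cj_apply]

theorem cj_inv_cancel (g x : X) : cj g⁻¹ (cj g x) = x := by rw [← cj_mul, inv_mul_cancel, cj_one]

theorem cj_cancel_inv (g x : X) : cj g (cj g⁻¹ x) = x := by rw [← cj_mul, mul_inv_cancel, cj_one]

theorem cj_eq_self {g x : X} : cj g x = x ↔ g * x = x * g := by
  rw [cj_apply, mul_inv_eq_iff_eq_mul]

theorem pow_two_cases {x : X} (h : x * x = 1) : x⁻¹ = x := inv_eq_of_mul_eq_one_right h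

/-- An element killed by 2 and by a power of 3 is trivial. -/
theorem eq_one_of_three {u : X} {k : ℕ} (h2 : u * u = 1) (h3 : u ^ 3 ^ k = 1) : u = 1 := by
  have e : u ^ Nat.gcd 2 (3 ^ k) = 1 := pow_gcd_eq_one.2 ⟨by rw [pow_two, h2], h3⟩
  rwa [Nat.Coprime.gcd_eq_one ((by norm_num : Nat.Coprime 2 3).pow_right k), pow_one] at e

variable [Finite X]

/-- Two subgroups of a 2-group `S`, both normalised by it: a fixed point between them. -/
theorem exists_fixed_mod (S A D : Subgroup X) (hS : IsPGroup 2 S) (hAD : A ≤ D) (hDS : D ≤ S)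
    (hne : ¬ D ≤ A) (hA : ∀ t ∈ S, ∀ a ∈ A, cj t a ∈ A) (hD : ∀ t ∈ S, ∀ a ∈ D, cj t a ∈ D) :
    ∃ b ∈ D, b ∉ A ∧ b * b ∈ A ∧ ∀ t ∈ S, cj t b * b⁻¹ ∈ A := by
  haveI : Fact (Nat.Prime 2) := ⟨Nat.prime_two⟩
  haveI hAn : (A.subgroupOf S).Normal :=
    ⟨fun n hn g => mem_subgroupOf.2 (hA g g.2 n hn)⟩
  haveI hDn : (D.subgroupOf S).Normal :=
    ⟨fun n hn g => mem_subgroupOf.2 (hD g g.2 n hn)⟩
  let f := QuotientGroup.mk' (A.subgroupOf S)
  haveI : ((D.subgroupOf S).map f).Normal := hDn.map f (QuotientGroup.mk'_surjective _)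
  have hne' : (D.subgroupOf S).map f ≠ ⊥ := by
    rw [Ne, Subgroup.map_eq_bot_iff, QuotientGroup.ker_mk']
    exact fun h => hne fun d hd => h (show (⟨d, hDS hd⟩ : S) ∈ D.subgroupOf S from hd)
  obtain ⟨Z, hZD, hZc, -, hZ2⟩ :=
    PGroups.exists_central_card_prime (hS.to_quotient _) ((D.subgroupOf S).map f) hne'
  haveI : Nontrivial Z := Finite.one_lt_card_iff_nontrivial.1 (by rw [hZ2]; norm_num)
  obtain ⟨w, hw⟩ := exists_ne (1 : Z)
  obtain ⟨b, hb, hbw⟩ := hZD w.2
  refine ⟨b, hb, fun h => hw (Subtype.ext ?_), ?_, fun t ht => ?_⟩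
  · rw [← hbw]; exact (QuotientGroup.eq_one_iff b).2 h
  · have h2 : w ^ 2 = 1 := hZ2 ▸ pow_card_eq_one'
    have h3 : f (b * b) = 1 := by
      rw [map_mul, hbw, ← Subgroup.coe_mul, ← pow_two, h2]; rfl
    exact (QuotientGroup.eq_one_iff (b * b)).1 h3
  · have hc := Subgroup.mem_center_iff.1 (hZc w.2) (f ⟨t, ht⟩)
    have h3 : f (⟨t, ht⟩ * b * ⟨t, ht⟩⁻¹ * b⁻¹) = 1 := by
      rw [map_mul, map_mul, map_mul, map_inv, map_inv, hbw, hc]; group
    have h4 := (QuotientGroup.eq_one_iff _).1 h3
    exact h4

/-- An element of order four whose square moves every point. -/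
theorem exists_index_two_of_four {α : Type*} [Finite α] [MulAction X α] (hα : Nat.card α % 8 = 4)
    (s : X) (h4 : s ^ 4 = 1) (hfree : ∀ a : α, (s * s) • a ≠ a) :
    ∃ N : Subgroup X, N.index = 2 := by
  classical
  have := Fintype.ofFinite α
  let χ : X →* ℤˣ := Equiv.Perm.sign.comp (MulAction.toPermHom X α)
  set σ := MulAction.toPermHom X α s with hσ
  have hne : ∀ a, σ a ≠ a := fun a h => hfree a (by
    rw [mul_smul]; exact (congrArg (s • ·) h).trans h)
  have hn : ∀ n ∈ σ.cycleType, n = 4 := by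
    intro n hn
    have h2 := Equiv.Perm.two_le_of_mem_cycleType hn
    have hd : n ∣ 2 ^ 2 := (Equiv.Perm.dvd_of_mem_cycleType hn).trans
      (orderOf_dvd_of_pow_eq_one (by rw [hσ, ← map_pow, show 2 ^ 2 = 4 from rfl, h4, map_one]))
    obtain ⟨i, hi, rfl⟩ := (Nat.dvd_prime_pow Nat.prime_two).1 hd
    obtain rfl | rfl : i = 1 ∨ i = 2 := by interval_cases i <;> simp_all
    · obtain ⟨c, τ, hcτ, hdisj, hc, hcard⟩ := Equiv.Perm.mem_cycleType_iff.1 hn
      obtain ⟨a, ha, -⟩ := hc
      have hτ : τ a = a := (hdisj a).resolve_left ha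
      have hca : σ a = c a := by rw [hcτ, Equiv.Perm.mul_apply, hτ]
      have hτc : τ (c a) = c a :=
        (hdisj (c a)).resolve_left fun h => ha (c.injective h)
      have hc2 : c ^ 2 = 1 := by
        obtain ⟨x, y, hxy, rfl⟩ := Equiv.Perm.card_support_eq_two.1 hcard
        rw [pow_two, Equiv.swap_mul_self]
      refine absurd ?_ (hfree a)
      rw [mul_smul]
      show σ (σ a) = a
      rw [hca, hcτ, Equiv.Perm.mul_apply, hτc, ← Equiv.Perm.mul_apply, ← pow_two, hc2,
        Equiv.Perm.one_apply]
    · rfl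
  have hrep := Multiset.eq_replicate_card.2 hn
  have hfix : Fintype.card (Function.fixedPoints σ) = 0 :=
    Fintype.card_eq_zero_iff.2 ⟨fun ⟨a, ha⟩ => hne a ha⟩
  have hsign : χ s = -1 := by
    show Equiv.Perm.sign σ = -1
    rw [Equiv.Perm.sign_of_cycleType_eq_replicate (by norm_num) hrep, hfix, if_neg (by decide)]
    rw [Nat.card_eq_fintype_card] at hα
    exact Odd.neg_one_pow (Nat.odd_iff.2 (by omega))
  refine ⟨χ.ker, ?_⟩
  rw [Subgroup.index_ker, MonoidHom.range_eq_top.2 ?_, Subgroup.card_top,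
    Nat.card_eq_fintype_card, Fintype.card_units_int]
  intro x
  rcases Int.units_eq_one_or x with rfl | rfl
  · exact ⟨1, map_one χ⟩
  · exact ⟨s, hsign⟩

/-- A 2-subgroup of `H` is conjugate in `H` into a Sylow subgroup contained in `H`. -/
theorem exists_conj_into (S : Sylow 2 X) {H R : Subgroup X} (hSH : (S : Subgroup X) ≤ H)
    (hRH : R ≤ H) (hR : IsPGroup 2 R) : ∃ k ∈ H, ∀ r ∈ R, cj k r ∈ (S : Subgroup X) := by
  haveI : Fact (Nat.Prime 2) := ⟨Nat.prime_two⟩
  obtain ⟨P, hP⟩ := (hR.comap_of_injective H.subtype H.subtype_injective).exists_le_sylow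
  obtain ⟨k, hk⟩ := MulAction.exists_smul_eq H P (S.subtype hSH)
  refine ⟨k, k.2, fun r hr => ?_⟩
  have h2 : (k * ⟨r, hRH hr⟩ * k⁻¹ : H) ∈ (S.subtype hSH : Subgroup H) := by
    rw [← hk]
    exact Subgroup.smul_mem_pointwise_smul _ (MulAut.conj k) (P : Subgroup H) (hP hr)
  exact h2

end

section Deg
variable {W : Type*} [Group W]

/-- Finite difference. -/
def dif (a : W) (f : W → ZMod 2) : W → ZMod 2 := fun x => f (x * a) + f x

/-- Polynomial degree at most `k`. -/
def Deg : ℕ → (W → ZMod 2) → Prop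
  | 0, f => ∀ x y, f x = f y
  | k + 1, f => ∀ a, Deg k (dif a f)

theorem Deg.succ : ∀ {k : ℕ} {f : W → ZMod 2}, Deg k f → Deg (k + 1) f
  | 0, f, h => fun a x y => by simp only [dif]; rw [h (x * a) (y * a), h x y]
  | _ + 1, _, h => fun a => Deg.succ (h a)

theorem Deg.add : ∀ {k : ℕ} {f g : W → ZMod 2}, Deg k f → Deg k g → Deg k (f + g)
  | 0, f, g, hf, hg => fun x y => by simp only [Pi.add_apply]; rw [hf x y, hg x y]
  | k + 1, f, g, hf, hg => fun a => by
    have e : dif a (f + g) = dif a f + dif a g := by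
      funext x; simp only [dif, Pi.add_apply]; ring
    rw [e]; exact Deg.add (hf a) (hg a)

theorem Deg.shift : ∀ {k : ℕ} {f : W → ZMod 2}, Deg k f → ∀ a, Deg k fun x => f (x * a)
  | 0, f, h, a => fun x y => h _ _
  | k + 1, f, h, a => fun b => by
    have e : (dif b fun x => f (x * a)) = fun x => dif (a⁻¹ * b * a) f (x * a) := by
      funext x
      simp only [dif, mul_assoc, mul_inv_cancel_left]
    rw [e]
    exact Deg.shift (h _) a

theorem Deg.mul : ∀ (n : ℕ) {i j : ℕ} {f g : W → ZMod 2}, i + j = n → Deg i f → Deg j g →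
    Deg n (f * g)
  | 0, i, j, f, g, e, hf, hg => by
    obtain ⟨rfl, rfl⟩ : i = 0 ∧ j = 0 := by omega
    exact fun x y => by simp only [Pi.mul_apply]; rw [hf x y, hg x y]
  | n + 1, i, j, f, g, e, hf, hg => fun a => by
    have ed : dif a (f * g) = dif a f * (fun x => g (x * a)) + f * dif a g := by
      funext x
      simp only [dif, Pi.add_apply, Pi.mul_apply]
      linear_combination -(CharTwo.add_self_eq_zero (R := ZMod 2) (f x * g (x * a)))
    rw [ed]
    cases i with
    | zero =>
      have h0 : dif a f = 0 := by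
        funext x; simp only [dif, Pi.zero_apply]; rw [hf (x * a) x, CharTwo.add_self_eq_zero]
      obtain rfl : j = n + 1 := by omega
      rw [h0, zero_mul, zero_add]
      exact Deg.mul n (by omega) hf (hg a)
    | succ i =>
      refine (Deg.mul n (i := i) (j := j) (by omega) (hf a) (hg.shift a)).add ?_
      cases j with
      | zero =>
        have h0 : dif a g = 0 := by
          funext x; simp only [dif, Pi.zero_apply]; rw [hg (x * a) x, CharTwo.add_self_eq_zero]
        rw [h0, mul_zero]
        have hz : ∀ k, Deg k (0 : W → ZMod 2) := fun k => by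
          induction k with
          | zero => exact fun _ _ => rfl
          | succ k ih =>
            intro b
            have : dif b (0 : W → ZMod 2) = 0 := by funext x; simp [dif]
            rw [this]; exact ih
        exact hz n
      | succ j => exact Deg.mul n (by omega) hf (hg a)

variable [Finite W]

open Classical in
/-- A group whose indicator of a large enough subgroup has bounded degree is small. -/
theorem card_le_of_deg : ∀ (k : ℕ) (H : Subgroup W), (∀ x : W, x * x ∈ H) →
    Deg k (fun x => if x ∈ H then 1 else 0) → Nat.card W ≤ Nat.card H * 2 ^ k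
  | 0, H, _, h => by
    have : H = ⊤ := top_le_iff.1 fun x _ => by
      have := h x 1
      simp only [H.one_mem, if_true] at this
      by_contra hx
      rw [if_neg hx] at this
      exact zero_ne_one this
    rw [this, Subgroup.card_top]; simp
  | k + 1, H, hsq, h => by
    by_cases hH : H = ⊤
    · rw [hH, Subgroup.card_top]; exact Nat.le_mul_of_pos_right _ (by positivity)
    obtain ⟨v, -, hv⟩ := SetLike.exists_of_lt (lt_top_iff_ne_top.2 hH)
    have hcomm : ∀ x, x ∈ H → v * x * v⁻¹ ∈ H := fun x hx => by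
      have e : v * x * v⁻¹ = (v * x) * (v * x) * x⁻¹ * (v⁻¹ * v⁻¹) := by group
      rw [e]
      exact H.mul_mem (H.mul_mem (hsq _) (H.inv_mem hx)) (hsq _)
    have hvi : ∀ x, x ∈ H → v⁻¹ * x * v ∈ H := fun x hx => by
      have e : v⁻¹ * x * v = (v⁻¹ * v⁻¹) * (v * x * v⁻¹) * (v * v) := by group
      rw [e]
      exact H.mul_mem (H.mul_mem (hsq _) (hcomm x hx)) (hsq _)
    let H' : Subgroup W :=
      { carrier := {x | x ∈ H ∨ x * v ∈ H}
        one_mem' := Or.inl H.one_mem
        mul_mem' := by
          rintro x y (hx | hx) (hy | hy)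
          · exact Or.inl (H.mul_mem hx hy)
          · exact Or.inr (by rw [mul_assoc]; exact H.mul_mem hx hy)
          · exact Or.inr (by
              rw [show x * y * v = x * v * (v⁻¹ * y * v) by group]; exact H.mul_mem hx (hvi y hy))
          · exact Or.inl (by
              rw [show x * y = x * v * ((v⁻¹ * (y * v) * v) * (v⁻¹ * v⁻¹)) by group]
              exact H.mul_mem hx (H.mul_mem (hvi _ hy) (hsq _)))
        inv_mem' := by
          rintro x (hx | hx)
          · exact Or.inl (H.inv_mem hx)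
          · exact Or.inr (by
              rw [show x⁻¹ * v = v * (x * v)⁻¹ * v⁻¹ * (v * v) by group]
              exact H.mul_mem (hcomm _ (H.inv_mem hx)) (hsq _)) }
    have hle : H ≤ H' := fun x hx => Or.inl hx
    have hv' : Nat.card H' ≤ 2 * Nat.card H := by
      have : Nat.card H' ≤ Nat.card (H × Bool) := by
        refine Nat.card_le_card_of_injective
          (fun x => if hx : (x : W) ∈ H then (⟨x, hx⟩, false) else (⟨(x : W) * v, x.2.resolve_left hx⟩, true)) ?_
        intro x y hxy
        dsimp only at hxy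
        split_ifs at hxy <;> simp only [Prod.mk.injEq, Subtype.mk.injEq, Bool.false_eq_true,
          and_false, mul_left_inj, and_true] at hxy
        all_goals first | exact Subtype.ext hxy | simp at hxy
      rw [Nat.card_prod, Nat.card_eq_fintype_card (α := Bool), Fintype.card_bool] at this
      rwa [mul_comm]
    have hd : Deg k (fun x => if x ∈ H' then 1 else 0) := by
      have e : dif v (fun x => if x ∈ H then (1 : ZMod 2) else 0) =
          fun x => if x ∈ H' then 1 else 0 := by
        funext x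
        have hiff : x ∈ H' ↔ x ∈ H ∨ x * v ∈ H := Iff.rfl
        by_cases hx : x ∈ H
        · have : ¬ x * v ∈ H := fun h' => hv ((H.mul_mem_cancel_left hx).1 h')
          simp [dif, hiff, hx, this]
        · by_cases hxv : x * v ∈ H <;> simp [dif, hiff, hx, hxv]
      rw [← e]; exact h v
    have := card_le_of_deg k H' (fun x => hle (hsq x)) hd
    rw [pow_succ]
    calc Nat.card W ≤ Nat.card H' * 2 ^ k := this
      _ ≤ 2 * Nat.card H * 2 ^ k := Nat.mul_le_mul_right _ hv'
      _ = _ := by ring

end Deg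

/-- An automorphism of 3-power order of a 2-group with at most 16 elements has order dividing 3. -/
theorem pow_three_eq {V : Type*} [Group V] [Finite V] {m : ℕ} (hV : Nat.card V = 2 ^ m) (hm : m ≤ 4)
    (σ : MulAut V) {k : ℕ} (hσ : σ ^ 3 ^ k = 1) (v : V) : σ (σ (σ v)) = v := by
  classical
  have := Fintype.ofFinite V
  set g : V → V := ⇑σ with hg
  have hit : ∀ (n : ℕ) (x : V), g^[n] x = (σ ^ n) x := fun n => by
    induction n with
    | zero => simp
    | succ n ih => intro x; rw [Function.iterate_succ', Function.comp_apply, ih, pow_succ', MulAut.mul_apply]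
  have hper : ∀ x, ∃ i, Function.minimalPeriod g x = 3 ^ i := fun x => by
    have h := Function.IsPeriodicPt.minimalPeriod_dvd (f := g) (n := 3 ^ k) (x := x)
      (show g^[3 ^ k] x = x by rw [hit, hσ, MulAut.one_apply])
    obtain ⟨i, -, hi⟩ := (Nat.dvd_prime_pow Nat.prime_three).1 h
    exact ⟨i, hi⟩
  have hcard : Fintype.card V ≤ 16 := by
    rw [← Nat.card_eq_fintype_card, hV]; exact (Nat.pow_le_pow_right (by norm_num) hm).trans (by norm_num)
  let F : Subgroup V :=
    { carrier := {x | σ (σ (σ x)) = x}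
      one_mem' := by simp
      mul_mem' := fun {a b} (ha : σ (σ (σ a)) = a) (hb : σ (σ (σ b)) = b) => by
        simp only [Set.mem_ofPred_eq, map_mul, ha, hb]
      inv_mem' := fun {a} (ha : σ (σ (σ a)) = a) => by simp only [Set.mem_ofPred_eq, map_inv, ha] }
  by_contra hv
  have horb : ∀ x, x ∉ F →
      ∃ O : Finset V, O.card = 9 ∧ x ∈ O ∧
      ∀ y ∈ O, y ∉ F ∧ (∀ n, g^[n] y ∈ O) ∧ ∃ n, g^[n] y = x := by
    intro x hx
    obtain ⟨i, hi⟩ := hper x
    have hp : Function.IsPeriodicPt g (3 ^ i) x := hi ▸ Function.isPeriodicPt_minimalPeriod g x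
    have hinj : Set.InjOn (fun j => g^[j] x) (Finset.range (3 ^ i) : Finset ℕ) := fun a ha b hb hab =>
      Function.iterate_injOn_Iio_minimalPeriod
        (by rw [hi]; exact Finset.mem_range.1 ha) (by rw [hi]; exact Finset.mem_range.1 hb) hab
    have hlt : 3 ^ i < 27 := by
      have h := Finset.card_le_univ ((Finset.range (3 ^ i)).image fun j => g^[j] x)
      rw [Finset.card_image_of_injOn hinj, Finset.card_range] at h
      omega
    have hi2 : i = 2 := by
      have h3 : i < 3 := (Nat.pow_lt_pow_iff_right (by norm_num)).1 (show 3 ^ i < 3 ^ 3 by omega)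
      rcases (show i = 0 ∨ i = 1 ∨ i = 2 by omega) with rfl | rfl | rfl
      · exact absurd (hp.trans_dvd (show 3 ^ 0 ∣ 3 by norm_num)) hx
      · exact absurd hp hx
      · rfl
    subst hi2
    rw [show (3 : ℕ) ^ 2 = 9 by norm_num] at hp hinj
    refine ⟨(Finset.range 9).image fun j => g^[j] x, ?_, Finset.mem_image.2 ⟨0, by simp, rfl⟩, ?_⟩
    · rw [Finset.card_image_of_injOn hinj, Finset.card_range]
    · intro y hy
      obtain ⟨j, -, rfl⟩ := Finset.mem_image.1 hy
      refine ⟨fun hF => hx ?_, fun n => Finset.mem_image.2 ⟨(n + j) % 9, by simp [Nat.mod_lt], ?_⟩,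
        8 * j, ?_⟩
      · have hF' : g^[3] (g^[j] x) = g^[j] x := hF
        rw [← Function.iterate_add_apply, add_comm, Function.iterate_add_apply] at hF'
        exact (σ.injective.iterate j) hF'
      · show g^[(n + j) % 9] x = g^[n] (g^[j] x)
        rw [hp.iterate_mod_apply, Function.iterate_add_apply]
      · rw [← Function.iterate_add_apply, show 8 * j + j = 9 * j by ring]
        exact hp.mul_const j
  obtain ⟨O, hO, hxO, hOF⟩ := horb v hv
  have hall : ∀ x, x ∉ F → x ∈ O := by
    intro x hx
    by_contra hxn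
    obtain ⟨O', hO', hxO', hOF'⟩ := horb x hx
    have hdis : Disjoint O O' := by
      rw [Finset.disjoint_left]
      intro y hy hy'
      obtain ⟨n, hn⟩ := (hOF' y hy').2.2
      exact hxn (hn ▸ (hOF y hy).2.1 n)
    have h2 : (1 : V) ∉ O ∪ O' := by
      intro h
      rcases Finset.mem_union.1 h with h | h
      · exact (hOF 1 h).1 F.one_mem
      · exact (hOF' 1 h).1 F.one_mem
    have h3 := Finset.card_lt_univ_of_notMem h2
    rw [Finset.card_union_of_disjoint hdis] at h3
    omega
  have hF : Fintype.card F + 9 = Fintype.card V := by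
    have e : (Finset.univ.filter fun x => x ∈ F) = Oᶜ := by
      ext x
      simp only [Finset.mem_filter, Finset.mem_univ, true_and, Finset.mem_compl]
      exact ⟨fun h h' => (hOF x h').1 h, fun h => not_not.1 fun h' => h (hall x h')⟩
    rw [Fintype.card_subtype, e, Finset.card_compl, hO]
    have := Finset.card_le_univ O
    omega
  have hdvd : Fintype.card F ∣ Fintype.card V := by
    simpa [Nat.card_eq_fintype_card] using F.card_subgroup_dvd_card
  rw [Nat.card_eq_fintype_card] at hV
  interval_cases m <;> simp only [hV] at hF hdvd <;> norm_num at hF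
  all_goals
    have : Fintype.card F = 7 := by omega
    rw [this] at hdvd
    norm_num at hdvd

end Cfsg.Agent.Lib.NoEight59
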