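import Cfsg.Agent.Lib.NoEight59.Setup

/-!
# An element of 3-power order inverted outside `C` (S3102, helper59)
-/

set_option autoImplicit false
set_option linter.unusedSectionVars false
set_option linter.style.haveILetI false

namespace Cfsg.Agent.Lib.NoEight59

open Subgroup

/-- `h` is a three-cycle on `U` of 3-power order normalising `C`. -/
structure Core {X : Type*} [Group X] [Finite X] (S : Sylow 2 X) (U : Subgroup X) (h : X) : Prop where
  base : Hyp S U
  hC : ∀ c ∈ cen S U, cj h c ∈ cen S U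
  h3 : ∃ k, h ^ 3 ^ k = 1
  cyc : ∀ u ∈ U, u ≠ 1 → cj h u ≠ u
  swap : (S : Subgroup X) ≤ cen S U ∨
    ∃ s ∈ (S : Subgroup X), s ∉ cen S U ∧ s * h * s⁻¹ = h⁻¹

variable {X : Type*} [Group X] [Finite X] {S : Sylow 2 X} {U : Subgroup X}

theorem cj_pow_mem {K : Subgroup X} {g : X} (hg : ∀ c ∈ K, cj g c ∈ K) :
    ∀ (i : ℕ), ∀ c ∈ K, cj (g ^ i) c ∈ K
  | 0, c, hc => by rw [pow_zero, cj_one]; exact hc
  | i + 1, c, hc => by rw [pow_succ, cj_mul]; exact cj_pow_mem hg i _ (hg c hc)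

theorem cj_inv_mem {K : Subgroup X} {g : X} (hg : ∀ c ∈ K, cj g c ∈ K) :
    ∀ c ∈ K, cj g⁻¹ c ∈ K := by
  have h : g⁻¹ = g ^ (orderOf g - 1) := by
    refine inv_eq_of_mul_eq_one_right ?_
    rw [← pow_succ', Nat.sub_add_cancel (orderOf_pos g), pow_orderOf_eq_one]
  rw [h]
  exact cj_pow_mem hg _

theorem Hyp.two_fixed (H : Hyp S U) {z w : X} (hz : z ∈ U) (hw : w ∈ U) (hz1 : z ≠ 1) (hw1 : w ≠ 1)
    (hzw : z ≠ w) {g : X} (h1 : cj g z = z) (h2 : cj g w = w) {u : X} (hu : u ∈ U) :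
    cj g u = u := by
  rcases H.cases hz hw hz1 hw1 hzw hu with rfl | rfl | rfl | rfl
  · exact map_one _
  · exact h1
  · exact h2
  · rw [map_mul, h1, h2]

theorem Hyp.exists_core (H : Hyp S U) : ∃ h, Core S U h := by
  classical
  haveI : Fact (Nat.Prime 2) := ⟨Nat.prime_two⟩
  haveI : Fact (Nat.Prime 3) := ⟨Nat.prime_three⟩
  obtain ⟨n, hn, hcyc⟩ := H.exists_cycle
  obtain ⟨z, w, hz, hw, hz1, hw1, hzw, hzc⟩ := H.exists_basis
  have hzwU := U.mul_mem hz hw
  have hzw1 : z * w ≠ 1 := fun e => hzw ((eq_inv_of_mul_eq_one_left e).trans (pow_two_cases (H.sq w hw)))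
  have hn2 : ∀ u ∈ U, u ≠ 1 → cj (n * n) u ≠ u := by
    intro u hu hu1 e
    have hnu := H.map_U hn hu
    have h1 : cj n u ≠ 1 := fun e1 => hu1 (by rw [← cj_inv_cancel n u, e1, map_one])
    rcases H.cases hu hnu hu1 h1 (Ne.symm (hcyc u hu hu1)) (H.map_U hn (U.mul_mem hu hnu))
      with e' | e' | e' | e'
    · exact (fun e2 : u * cj n u ≠ 1 => e2 (by rw [← cj_inv_cancel n (u * cj n u), e', map_one]))
        fun e2 => hcyc u hu hu1 ((eq_inv_of_mul_eq_one_left e2).trans (pow_two_cases (H.sq _ hnu))).symm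
    · rw [cj_mul] at e
      rw [map_mul, e] at e'
      exact h1 (mul_eq_right.1 e')
    · rw [cj_mul] at e
      rw [map_mul, e] at e'
      exact hu1 (mul_eq_left.1 e')
    · refine hcyc _ (U.mul_mem hu hnu) (fun e2 => hcyc u hu hu1
        ((eq_inv_of_mul_eq_one_left e2).trans (pow_two_cases (H.sq _ hnu))).symm) e'
  have hn3 : ∀ u ∈ U, cj (n ^ 3) u = u := by
    intro u hu
    by_cases hu1 : u = 1
    · rw [hu1, map_one]
    have hnu := H.map_U hn hu
    have h1 : cj n u ≠ 1 := fun e1 => hu1 (by rw [← cj_inv_cancel n u, e1, map_one])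
    have h2 : cj n (cj n u) = u * cj n u := by
      rcases H.cases hu hnu hu1 h1 (Ne.symm (hcyc u hu hu1)) (H.map_U hn hnu) with e | e | e | e
      · exact absurd (by rw [← cj_inv_cancel n (cj n u), e, map_one]) h1
      · exact absurd ((cj_mul n n u).trans e) (hn2 u hu hu1)
      · exact absurd e (hcyc _ hnu h1)
      · exact e
    rw [pow_succ, pow_two, cj_mul, cj_mul, h2, map_mul, h2, ← mul_assoc,
      H.comm hnu hu, mul_assoc, H.sq _ hnu, mul_one]
  rcases em ((S : Subgroup X) ≤ cen S U) with hSC | hSC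
  · obtain ⟨a, m, hm, ho⟩ := Nat.exists_eq_pow_mul_and_not_dvd (orderOf_pos n).ne' 3 (by norm_num)
    refine ⟨n ^ m, H, cj_pow_mem hn m, ⟨a, ?_⟩, fun u hu hu1 e => ?_, Or.inl hSC⟩
    · rw [← pow_mul, mul_comm, ← ho, pow_orderOf_eq_one]
    · have hq : ∀ i, cj (n ^ (3 * i)) u = u := fun i => by
        induction i with
        | zero => rw [mul_zero, pow_zero, cj_one]
        | succ i ih => rw [Nat.mul_succ, pow_add, cj_mul, hn3 u hu, ih]
      rw [← Nat.div_add_mod m 3, add_comm, pow_add, cj_mul, hq] at e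
      rcases (show m % 3 = 1 ∨ m % 3 = 2 by omega) with e1 | e1 <;> rw [e1] at e
      · exact hcyc u hu hu1 (by rwa [pow_one] at e)
      · exact hn2 u hu hu1 (by rwa [pow_two] at e)
  -- the subgroup inducing even permutations on `U`
  obtain ⟨t₀, ht₀, ht₀C⟩ := SetLike.not_le_iff_exists.1 hSC
  let N : Subgroup X :=
    { carrier := {g | (∀ c ∈ cen S U, cj g c ∈ cen S U) ∧ ∀ c ∈ cen S U, cj g⁻¹ c ∈ cen S U}
      one_mem' := ⟨fun c hc => by rwa [cj_one], fun c hc => by rwa [inv_one, cj_one]⟩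
      mul_mem' := fun {a b} ha hb =>
        ⟨fun c hc => by rw [cj_mul]; exact ha.1 _ (hb.1 c hc),
         fun c hc => by rw [mul_inv_rev, cj_mul]; exact hb.2 _ (ha.2 c hc)⟩
      inv_mem' := fun {a} ha => ⟨ha.2, by rw [inv_inv]; exact ha.1⟩ }
  have hNU : ∀ g ∈ N, ∀ u ∈ U, cj g u ∈ U := fun g hg u hu => H.map_U hg.1 hu
  have hSN : (S : Subgroup X) ≤ N := fun t ht =>
    ⟨fun c hc => H.cen_normal ht hc, fun c hc => H.cen_normal (inv_mem ht) hc⟩
  have hnN : n ∈ N := ⟨hn, cj_inv_mem hn⟩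
  -- permutations of the three involutions
  let T := {u : U // u ≠ 1}
  letI act : MulAction N T :=
    { smul := fun g u => ⟨⟨cj (g : X) u.1, hNU g g.2 u.1 u.1.2⟩, fun e => u.2 (Subtype.ext (by
        have e' : cj (g : X) (u.1 : X) = 1 := congrArg Subtype.val e
        rw [← cj_inv_cancel (g : X) (u.1 : X), e', map_one]; rfl))⟩
      one_smul := fun u => Subtype.ext (Subtype.ext (cj_one (u.1 : X)))
      mul_smul := fun g g' u => Subtype.ext (Subtype.ext (cj_mul (g : X) (g' : X) (u.1 : X))) }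
  have := Fintype.ofFinite T
  let ρ := MulAction.toPermHom N T
  have hρ : ∀ (g : N) (u : T), ((ρ g u).1 : X) = cj (g : X) (u.1 : X) := fun g u => rfl
  let χ : N →* ℤˣ := Equiv.Perm.sign.comp ρ
  let tz : T := ⟨⟨z, hz⟩, fun e => hz1 (congrArg Subtype.val e)⟩
  let tw : T := ⟨⟨w, hw⟩, fun e => hw1 (congrArg Subtype.val e)⟩
  have htw0 : cj t₀ w ≠ w := fun e => ht₀C (mem_cen.2 ⟨ht₀,
    fun u hu => H.two_fixed hz hw hz1 hw1 hzw (hzc t₀ ht₀) e hu⟩)
  have hT : Fintype.card T = 3 := by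
    rw [← Nat.card_eq_fintype_card]
    have h := Nat.card_congr (Equiv.sumCompl fun u : U => u = 1)
    rw [Nat.card_sum, H.card, Nat.card_unique] at h
    change 1 + Nat.card T = 4 at h
    omega
  have hodd : χ ⟨t₀, hSN ht₀⟩ = -1 := by
    let τ := ρ ⟨t₀, hSN ht₀⟩
    have e1 : τ tw ≠ tw := fun e => htw0 (by
      have := congrArg (fun u : T => ((u.1 : U) : X)) e; exact this)
    have e2 : τ tz = tz := Subtype.ext (Subtype.ext (hzc t₀ ht₀))
    have hsupp : τ.support.card = 2 := by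
      have h2 : 2 ≤ τ.support.card := Equiv.Perm.two_le_card_support_of_ne_one fun e => e1 (by rw [e]; rfl)
      have h3 : τ.support.card ≤ 2 := by
        have : tz ∉ τ.support := by rw [Equiv.Perm.notMem_support]; exact e2
        have := Finset.card_lt_univ_of_notMem this
        omega
      omega
    show Equiv.Perm.sign τ = -1
    exact (Equiv.Perm.card_support_eq_two.1 hsupp).sign_eq
  set N0 := χ.ker with hN0
  obtain ⟨P⟩ := (inferInstance : Nonempty (Sylow 3 N0))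
  have hsup := Sylow.normalizer_sup_eq_top P
  set P' := (P : Subgroup N0).map N0.subtype with hP'
  obtain ⟨m, hm, n0, hn0, hmn⟩ : ∃ m ∈ normalizer (P' : Set N), ∃ n0 ∈ N0, m * n0 = ⟨t₀, hSN ht₀⟩ :=
    (Subgroup.mem_sup_of_normal_right (t := N0)).1 (by rw [hsup]; exact Subgroup.mem_top _)
  have hmodd : χ m = -1 := by rw [← hodd, ← hmn, map_mul, MonoidHom.mem_ker.1 hn0, mul_one]
  obtain ⟨e, q, hq, ho⟩ := Nat.exists_eq_pow_mul_and_not_dvd (orderOf_pos m).ne' 2 (by norm_num)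
  set m2 := m ^ q with hm2
  have hm2odd : χ m2 = -1 := by
    rw [hm2, map_pow, hmodd]; exact Odd.neg_one_pow (Nat.odd_iff.2 (by omega))
  have hp : IsPGroup 2 (Subgroup.zpowers (m2 : X)) := by
    have h1 : (m2 : X) ^ 2 ^ e = 1 := by
      rw [← Subgroup.coe_pow, hm2, ← pow_mul, mul_comm, ← ho, pow_orderOf_eq_one]; rfl
    obtain ⟨i, -, hi⟩ := (Nat.dvd_prime_pow Nat.prime_two).1 (orderOf_dvd_of_pow_eq_one h1)
    exact IsPGroup.of_card (n := i) (by rw [Nat.card_zpowers, hi])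
  obtain ⟨k, hk, hkS⟩ := exists_conj_into S hSN (Subgroup.zpowers_le.2 m2.2) hp
  set s := cj k (m2 : X) with hs
  have hsS : s ∈ (S : Subgroup X) := hkS _ (Subgroup.mem_zpowers _)
  let kN : N := ⟨k, hk⟩
  let sN : N := kN * m2 * kN⁻¹
  have hsN : (sN : X) = s := rfl
  have hsodd : χ sN = -1 := by simp [sN, hm2odd]
  have hsC : s ∉ cen S U := by
    intro hc
    have h1 : ρ sN = 1 := by
      refine Equiv.ext fun u => Subtype.ext (Subtype.ext ?_)
      rw [hρ, hsN, (mem_cen.1 hc).2 _ u.1.2]; rfl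
    rw [show χ sN = Equiv.Perm.sign (ρ sN) from rfl, h1, map_one] at hsodd
    exact absurd hsodd (by decide)
  -- the conjugated Sylow subgroup
  let P'' : Subgroup N := P'.map (MulAut.conj kN).toMonoidHom
  have hsP : ∀ p ∈ P'', sN * p * sN⁻¹ ∈ P'' := by
    rintro _ ⟨p, hp, rfl⟩
    refine ⟨m2 * p * m2⁻¹,
      ((Subgroup.mem_normalizer_iff.1 (Subgroup.pow_mem _ hm q)) p).1 hp, ?_⟩
    simp only [MulEquiv.coe_toMonoidHom, MulAut.conj_apply, sN]; group
  have hP''0 : P'' ≤ N0 := by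
    rintro _ ⟨p, hp, rfl⟩
    exact (inferInstance : N0.Normal).conj_mem _ (Subgroup.map_subtype_le _ hp) kN
  have hP''p : IsPGroup 3 P'' := (P.2.map _).map _
  -- an element of 3-power order moving `U`
  obtain ⟨p, hpP, hpne⟩ : ∃ p ∈ P'', ρ p ≠ 1 := by
    by_contra hcon
    push Not at hcon
    have hPle : (P : Subgroup N0) ≤ (ρ.comp N0.subtype).ker := fun x hx => by
      have h1 := hcon _ ⟨x, ⟨x, hx, rfl⟩, rfl⟩
      rw [MonoidHom.mem_ker, MonoidHom.comp_apply]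
      simpa using h1
    have hdiv : (ρ.comp N0.subtype).ker.index ∣ (P : Subgroup N0).index := Subgroup.index_dvd_of_le hPle
    have hnN0 : (⟨n, hnN⟩ : N) ∈ N0 := by
      rw [hN0, MonoidHom.mem_ker]
      show Equiv.Perm.sign (ρ ⟨n, hnN⟩) = 1
      have hfree : (ρ ⟨n, hnN⟩).support = Finset.univ := by
        refine Finset.eq_univ_of_forall fun u => Equiv.Perm.mem_support.2 fun e => ?_
        exact hcyc _ u.1.2 (fun e1 => u.2 (Subtype.ext e1)) (by
          rw [← hρ ⟨n, hnN⟩ u, e])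
      exact (Equiv.Perm.IsThreeCycle.sign (card_support_eq_three_iff.1 (by rw [hfree, Finset.card_univ, hT])))
    have h3 : 3 ∣ (ρ.comp N0.subtype).ker.index := by
      rw [Subgroup.index_ker]
      have hmem : ρ ⟨n, hnN⟩ ∈ (ρ.comp N0.subtype).range := ⟨⟨⟨n, hnN⟩, hnN0⟩, rfl⟩
      refine dvd_trans (dvd_of_eq ?_) (Subgroup.orderOf_dvd_natCard _ hmem)
      refine (orderOf_eq_prime ?_ fun e => ?_).symm
      · refine Equiv.ext fun u => Subtype.ext (Subtype.ext ?_)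
        rw [← map_pow, hρ, Subgroup.coe_pow]; exact hn3 _ u.1.2
      · refine hcyc z hz hz1 ?_
        have := hρ ⟨n, hnN⟩ tz
        rw [e] at this; exact this.symm
    exact P.not_dvd_index (h3.trans hdiv)
  -- inverted by `s`
  let h : N := p * (sN * p⁻¹ * sN⁻¹)
  have hhP : h ∈ P'' := mul_mem hpP (hsP _ (inv_mem hpP))
  obtain ⟨i, hi⟩ : ∃ i, (p : N) ^ 3 ^ i = 1 := (hP''p ⟨p, hpP⟩).imp fun i hi => congrArg Subtype.val hi
  obtain ⟨j, hj⟩ : ∃ j, (h : N) ^ 3 ^ j = 1 := (hP''p ⟨h, hhP⟩).imp fun i hi => congrArg Subtype.val hi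
  have hs2 : (s * s : X) ∈ cen S U := H.mul_mem_cen hsS hsC hsS hsC
  have hcen3 : ∀ x ∈ P'', (sN * sN) * x = x * (sN * sN) := by
    intro x hx
    have hd : (sN * sN) * x * (sN * sN)⁻¹ * x⁻¹ ∈ P'' := by
      have := mul_mem (hsP _ (hsP x hx)) (inv_mem hx)
      convert this using 1; group
    have hdC : (((sN * sN) * x * (sN * sN)⁻¹ * x⁻¹ : N) : X) ∈ cen S U := by
      simp only [Subgroup.coe_mul, Subgroup.coe_inv, hsN]
      have e : s * s * (x : X) * (s * s)⁻¹ * (x : X)⁻¹ = s * s * cj (x : X) (s * s)⁻¹ := by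
        rw [cj_apply]; group
      rw [e]; exact mul_mem hs2 (x.2.1 _ (inv_mem hs2))
    have e1 : (((sN * sN) * x * (sN * sN)⁻¹ * x⁻¹ : N) : X) = 1 := by
      obtain ⟨a, ha⟩ := hP''p ⟨_, hd⟩
      obtain ⟨b, hb⟩ := (isPGroup_cen (S := S) (U := U)) ⟨_, hdC⟩
      have ha' := congrArg (fun y : P'' => ((y : N) : X)) ha
      have hb' := congrArg (fun y : cen S U => (y : X)) hb
      simp only [Subgroup.coe_pow, Subgroup.coe_one] at ha' hb'
      have := pow_gcd_eq_one.2 ⟨hb', ha'⟩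
      rwa [Nat.Coprime.gcd_eq_one ((by norm_num : Nat.Coprime 2 3).pow b a), pow_one] at this
    have := congrArg (fun y : N => y * x * (sN * sN)) (Subtype.ext e1 : (sN * sN) * x * (sN * sN)⁻¹ * x⁻¹ = (1 : N))
    simpa [mul_assoc] using this
  have hinv : sN * h * sN⁻¹ = h⁻¹ := by
    have := hcen3 _ (inv_mem hpP)
    calc sN * h * sN⁻¹ = (sN * p * sN⁻¹) * (sN * sN * p⁻¹ * (sN * sN)⁻¹) := by simp only [h]; group
      _ = (sN * p * sN⁻¹) * p⁻¹ := by rw [this, mul_inv_cancel_right]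
      _ = h⁻¹ := by simp only [h]; group
  have hfree : ∀ u : T, ρ h u ≠ u := by
    let σ := ρ p
    have hσ3 : σ ^ 3 = 1 := by
      have h6 : orderOf σ ∣ 6 := by
        have := orderOf_dvd_natCard σ
        rwa [Nat.card_perm, Nat.card_eq_fintype_card, hT] at this
      have h1 : orderOf σ ∣ 3 ^ i := orderOf_dvd_of_pow_eq_one (by rw [← map_pow, hi, map_one])
      refine orderOf_dvd_iff_pow_eq_one.1 ((Nat.dvd_gcd h6 h1).trans ?_)
      have : Nat.gcd 6 (3 ^ i) ∣ 3 := by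
        rw [show (6 : ℕ) = 2 * 3 by norm_num,
          Nat.Coprime.gcd_mul_left_cancel _ ((by norm_num : Nat.Coprime 2 3).pow_right i)]
        exact Nat.gcd_dvd_left _ _
      exact this
    let τ := ρ sN
    have hτ : Equiv.Perm.sign τ = -1 := hsodd
    have hσ : σ * (τ * σ⁻¹ * τ⁻¹) = ρ h := by simp [σ, τ, h]
    intro u
    rw [← hσ]
    have key : ∀ (σ τ : Equiv.Perm (Fin 3)), σ ^ 3 = 1 → σ ≠ 1 → Equiv.Perm.sign τ = -1 →
        ∀ u, (σ * (τ * σ⁻¹ * τ⁻¹)) u ≠ u := by decide +kernel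
    let e := Fintype.equivFinOfCardEq hT
    intro hu
    refine key (e.permCongrHom σ) (e.permCongrHom τ) (by rw [← map_pow, hσ3, map_one]) (fun e1 => hpne ?_)
      (by rw [show e.permCongrHom τ = e.permCongr τ from rfl, Equiv.Perm.sign_permCongr]; exact hτ)
      (e u) ?_
    · exact e.permCongrHom.injective (e1.trans (map_one _).symm)
    · rw [show e.permCongrHom σ * (e.permCongrHom τ * (e.permCongrHom σ)⁻¹ * (e.permCongrHom τ)⁻¹) =
        e.permCongrHom (σ * (τ * σ⁻¹ * τ⁻¹)) by simp only [map_mul, map_inv]]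
      show e.permCongr _ (e u) = e u
      rw [Equiv.permCongr_apply, e.symm_apply_apply, hu]
  refine ⟨(h : X), H, h.2.1, ⟨j, ?_⟩, fun u hu hu1 e => ?_, Or.inr ⟨s, hsS, hsC, ?_⟩⟩
  · rw [← Subgroup.coe_pow, hj]; rfl
  · exact hfree ⟨⟨u, hu⟩, fun e1 => hu1 (congrArg Subtype.val e1)⟩ (Subtype.ext (Subtype.ext e))
  · exact congrArg Subtype.val hinv

end Cfsg.Agent.Lib.NoEight59
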