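import Cfsg.Agent.Lib.NoEight59.Trick

/-!
# Elementary groups of order eight over `U` (S3102, helper59)
-/

set_option autoImplicit false
set_option linter.unusedSectionVars false
set_option linter.style.haveILetI false

namespace Cfsg.Agent.Lib.NoEight59

open Subgroup

variable {X : Type*} [Group X] [Finite X] {S : Sylow 2 X} {U : Subgroup X}

/-- `U⟨v⟩`. -/
def eight (U : Subgroup X) (v : X) : Subgroup X := Subgroup.closure ((U : Set X) ∪ {v})

theorem le_eight (v : X) : U ≤ eight U v := fun _ hu => Subgroup.subset_closure (Or.inl hu)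

theorem self_mem_eight (v : X) : v ∈ eight U v := Subgroup.subset_closure (Or.inr rfl)

namespace Hyp

variable (H : Hyp S U)
include H

theorem cen_comm {v u : X} (hv : v ∈ cen S U) (hu : u ∈ U) : v * u = u * v :=
  cj_eq_self.1 ((mem_cen.1 hv).2 u hu)

theorem mem_eight {v y : X} (hv : v ∈ cen S U) (hv2 : v * v = 1) :
    y ∈ eight U v ↔ y ∈ U ∨ v * y ∈ U := by
  constructor
  · intro hy
    induction hy using Subgroup.closure_induction with
    | mem y hy =>
      rcases hy with hy | rfl
      · exact Or.inl hy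
      · exact Or.inr (by rw [hv2]; exact U.one_mem)
    | one => exact Or.inl U.one_mem
    | mul a b _ _ ha hb =>
      rcases ha with ha | ha <;> rcases hb with hb | hb
      · exact Or.inl (mul_mem ha hb)
      · refine Or.inr ?_
        rw [← mul_assoc, H.cen_comm hv ha, mul_assoc]; exact mul_mem ha hb
      · exact Or.inr (by rw [← mul_assoc]; exact mul_mem ha hb)
      · refine Or.inl ?_
        have e : a * b = (v * a) * (v * b) := by
          calc a * b = v * (v * a) * (v * (v * b)) := by rw [← mul_assoc v v a, hv2, ← mul_assoc v v b, hv2, one_mul, one_mul]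
            _ = v * ((v * a) * v) * (v * b) := by group
            _ = v * (v * (v * a)) * (v * b) := by rw [H.cen_comm hv ha]
            _ = (v * v) * (v * a) * (v * b) := by group
            _ = _ := by rw [hv2, one_mul]
        rw [e]; exact mul_mem ha hb
    | inv a _ ha =>
      rcases ha with ha | ha
      · exact Or.inl (inv_mem ha)
      · refine Or.inr ?_
        have e : v * a⁻¹ = v * ((v * a)⁻¹ * v) := by group
        rw [e, ← H.cen_comm hv (inv_mem ha), ← mul_assoc, hv2, one_mul]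
        exact inv_mem ha
  · rintro (hy | hy)
    · exact le_eight v hy
    · have := mul_mem (inv_mem (self_mem_eight (U := U) v)) (le_eight v hy)
      rwa [inv_mul_cancel_left] at this

theorem eight_le {v : X} (hv : v ∈ cen S U) : eight U v ≤ cen S U :=
  (Subgroup.closure_le _).2 fun y hy => hy.elim (fun hy => H.le_cen hy) (fun hy => hy ▸ hv)

theorem eight_comm {v : X} (hv : v ∈ cen S U) :
    ∀ a ∈ eight U v, ∀ b ∈ eight U v, a * b = b * a := by
  have h1 : eight U v ≤ centralizer ((U : Set X) ∪ {v}) := by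
    rw [eight, Subgroup.closure_le]
    rintro g (hg | rfl) g' (hg' | rfl)
    exacts [H.comm hg' hg, H.cen_comm hv hg, (H.cen_comm hv hg').symm, rfl]
  intro a ha c hc
  have h2 : eight U v ≤ centralizer ({a} : Set X) := by
    rw [eight, Subgroup.closure_le]
    exact fun g hg => mem_centralizer_singleton_iff.2 (h1 ha g hg)
  exact (mem_centralizer_singleton_iff.1 (h2 hc)).symm

theorem eight_card {v : X} (hv : v ∈ cen S U) (hv2 : v * v = 1) (hvU : v ∉ U) :
    Nat.card (eight U v) = 8 := by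
  classical
  let f : eight U v → U × Bool := fun y =>
    if hy : (y : X) ∈ U then (⟨y, hy⟩, false)
    else (⟨v * y, ((H.mem_eight hv hv2).1 y.2).resolve_left hy⟩, true)
  have hb : Function.Bijective f := by
    constructor
    · intro a b e
      simp only [f] at e
      split_ifs at e <;>
        simp only [Prod.mk.injEq, Subtype.mk.injEq, Bool.false_eq_true, Bool.true_eq_false, and_false,
          and_true, mul_right_inj] at e <;> exact Subtype.ext e
    · rintro ⟨⟨u, hu⟩, b⟩
      cases b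
      · exact ⟨⟨u, le_eight v hu⟩, dif_pos hu⟩
      · refine ⟨⟨v * u, mul_mem (self_mem_eight v) (le_eight v hu)⟩, ?_⟩
        have hn : v * u ∉ U := fun e => hvU ((U.mul_mem_cancel_right hu).1 e)
        simp only [f, dif_neg hn]
        simp only [← mul_assoc, hv2, one_mul]
  rw [Nat.card_eq_of_bijective f hb, Nat.card_prod, H.card, Nat.card_eq_fintype_card (α := Bool),
    Fintype.card_bool]

/-- A fused subgroup moved into `S` with `x` going into `U`. -/
theorem fuse (T : Subgroup X) (hT : IsPGroup 2 T) {x v : X} (hx : ∀ y ∈ T, x * y = y * x)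
    (hv : v ∈ U) (hv1 : v ≠ 1) (hxv : IsConj x v) :
    ∃ g : X, cj g x ∈ U ∧ (∀ t ∈ (S : Subgroup X), cj t (cj g x) = cj g x) ∧ cj g x ≠ 1 ∧
      ∀ y ∈ T, cj g y ∈ (S : Subgroup X) := by
  obtain ⟨z, w, hz, hw, hz1, -, -, hzc⟩ := H.exists_basis
  obtain ⟨g0, hg0⟩ := isConj_iff.1 (hxv.trans (H.fus v hv z hz hv1 hz1))
  have hSz : (S : Subgroup X) ≤ centralizer {z} := fun t ht =>
    mem_centralizer_singleton_iff.2 (cj_eq_self.1 (hzc t ht))
  have hTz : T.map (cj g0).toMonoidHom ≤ centralizer {z} := by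
    rintro _ ⟨y, hy, rfl⟩
    rw [mem_centralizer_singleton_iff, ← hg0, ← cj_apply]
    show cj g0 y * cj g0 x = cj g0 x * cj g0 y
    rw [← map_mul, ← map_mul, hx y hy]
  obtain ⟨k, hk, hkS⟩ := exists_conj_into S hSz hTz (hT.map _)
  have e : cj (k * g0) x = z := by
    rw [cj_mul, cj_apply g0 x, hg0, cj_eq_self]
    exact mem_centralizer_singleton_iff.1 hk
  refine ⟨k * g0, by rw [e]; exact hz, fun t ht => by rw [e]; exact hzc t ht, by rw [e]; exact hz1,
    fun y hy => ?_⟩
  rw [cj_mul]
  exact hkS _ ⟨y, hy, rfl⟩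

/-- An elementary group of order eight in `C` is some `U⟨v⟩`, if `A ∩ Ω₁ = U` has index two in `C`. -/
theorem eq_eight {E' : Subgroup X} (hE : E' ≤ cen S U) (h2 : ∀ a ∈ E', a * a = 1)
    (hE8 : Nat.card E' = 8) {A : Subgroup X} (homega : ∀ a ∈ A, a * a = 1 → a ∈ U)
    (hsplit : ∀ a ∈ E', ∀ b ∈ E', a ∉ A → b ∉ A → a * b ∈ A) :
    ∃ v ∈ E', v ∉ A ∧ E' = eight U v := by
  classical
  obtain ⟨v, hv, hvA⟩ : ∃ v ∈ E', v ∉ A := by
    by_contra hcon
    push Not at hcon
    have := Subgroup.card_le_of_le (H := E') (K := U) fun a ha => homega a (hcon a ha) (h2 a ha)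
    rw [hE8, H.card] at this
    omega
  refine ⟨v, hv, hvA, Subgroup.eq_of_le_of_card_ge (fun y hy => ?_) ?_⟩
  · rw [H.mem_eight (hE hv) (h2 v hv)]
    by_cases hyA : y ∈ A
    · exact Or.inl (homega y hyA (h2 y hy))
    · exact Or.inr (homega _ (hsplit v hv y hy hvA hyA) (h2 _ (mul_mem hv hy)))
  · rw [hE8]
    by_cases hvU : v ∈ U
    · have : eight U v ≤ U := (Subgroup.closure_le _).2 fun y hy => hy.elim id (fun hy => hy ▸ hvU)
      have := Subgroup.card_le_of_le this
      rw [H.card] at this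
      omega
    · rw [H.eight_card (hE hv) (h2 v hv) hvU]

/-- Bounding the normaliser of `E'` through representatives of `S/A`. -/
theorem card_nor_le {κ : Type*} {A T E E' : Subgroup X} (cls : X → κ) (r : κ → X)
    (hcls : ∀ t₁ ∈ (S : Subgroup X), ∀ t₂ ∈ (S : Subgroup X), cls t₁ = cls t₂ → t₁⁻¹ * t₂ ∈ A)
    (hr : ∀ k a, a ∈ A → cls (r k * a) = k) (hrE : ∀ k, r k ∈ nor S E)
    (hTE : T ≤ nor S E) (hT' : ∀ a ∈ A, a ∈ nor S E' → a ∈ T) (hTA : T ≤ A) :
    Nat.card (nor S E') ≤ Nat.card (nor S E) := by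
  classical
  let t0 : κ → X := fun k => if hk : ∃ t ∈ nor S E', cls t = k then hk.choose else 1
  have ht0 : ∀ t ∈ nor S E', t0 (cls t) ∈ nor S E' ∧ cls (t0 (cls t)) = cls t := fun t ht => by
    have hk : ∃ t' ∈ nor S E', cls t' = cls t := ⟨t, ht, rfl⟩
    simp only [t0, dif_pos hk]; exact hk.choose_spec
  have hmem : ∀ t ∈ nor S E', (t0 (cls t))⁻¹ * t ∈ T := fun t ht =>
    hT' _ (hcls _ (ht0 t ht).1.1 t ht.1 (ht0 t ht).2) (mul_mem (inv_mem (ht0 t ht).1) ht)
  refine Nat.card_le_card_of_injective (fun t => ⟨r (cls t) * ((t0 (cls (t : X)))⁻¹ * t),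
    mul_mem (hrE _) (hTE (hmem t t.2))⟩) fun a b e => ?_
  have e' : r (cls (a : X)) * ((t0 (cls (a : X)))⁻¹ * a) = r (cls (b : X)) * ((t0 (cls (b : X)))⁻¹ * b) :=
    congrArg Subtype.val e
  have hk : cls (a : X) = cls (b : X) := by
    rw [← hr (cls (a : X)) _ (hTA (hmem a a.2)), e', hr _ _ (hTA (hmem b b.2))]
  rw [hk] at e'
  exact Subtype.ext (mul_left_cancel (mul_left_cancel e'))

end Hyp

end Cfsg.Agent.Lib.NoEight59
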