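import Cfsg.Agent.Lib.NoEight59.LargeS

/-!
# The inversion is exact for `n ≥ 3` (S3102, helper59)

If `x` inverted `A` only up to `Ω₁`, the centraliser of an outer involution would carry a quaternion
group whose three cyclic subgroups of order four are fused in the centraliser of a conjugate of `U`.
-/

set_option autoImplicit false
set_option linter.unusedSectionVars false
set_option linter.style.haveILetI false

namespace Cfsg.Agent.Lib.NoEight59

open Subgroup

variable {X : Type*} [Group X] [Finite X] {S : Sylow 2 X} {U : Subgroup X} {h : X} {A : Subgroup X}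
  {n : ℕ} {x : X}

/-- An outer involution and a basis it exchanges. -/
structure Outer (S : Sylow 2 X) (U : Subgroup X) (h : X) (A : Subgroup X) (n : ℕ) (x s a : X) :
    Prop where
  big : Big S U h A n x
  hs : s ∈ (S : Subgroup X)
  notC : s ∉ cen S U
  ss : s * s = 1
  sx : cj s x = x
  inv : s * h * s⁻¹ = h⁻¹
  ha : a ∈ A
  moved : cj s (a ^ 2 ^ (n - 1)) ≠ a ^ 2 ^ (n - 1)

namespace Big

variable (B : Big S U h A n x)
include B

theorem exists_outer : ∃ s a, Outer S U h A n x s a := by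
  obtain ⟨s, hs, hsC, hsh, hsx, hss⟩ := B.exists_s
  obtain ⟨u, hu, hmove⟩ : ∃ u ∈ U, cj s u ≠ u := by
    by_contra hcon
    push Not at hcon
    exact hsC (mem_cen.2 ⟨hs, hcon⟩)
  obtain ⟨a, ha, rfl⟩ := B.frame.top u hu
  exact ⟨s, a, B, hs, hsC, hss, hsx, hsh, ha, hmove⟩

/-- An element of order at least eight lies in `A`. -/
theorem mem_of_top {v : X} (hv : v ∈ cen S U) (htop : v ^ 2 ^ (n - 1) ≠ 1) : v ∈ A := by
  by_contra hvA
  refine htop ?_
  have hxv := B.split' hv hvA
  have h2 : v * v ∈ U := by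
    have e : v = x * (x * v) := by rw [← mul_assoc, B.sq, one_mul]
    have e2 : v * v = cj x (x * v) * (x * v) := by
      rw [cj_apply, pow_two_cases B.sq, ← mul_assoc x x v, B.sq, one_mul]
      calc v * v = v * 1 * v := by group
        _ = v * (x * x) * v := by rw [B.sq]
        _ = _ := by group
    rw [e2]; exact B.eps _ hxv
  have := B.three_le
  rw [show n - 1 = 1 + 1 + (n - 3) by omega, pow_add, pow_mul, pow_add, pow_one, pow_mul, pow_two v,
    pow_two, B.frame.core.base.sq _ h2, one_pow]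

/-- A sign separating `A` from the rest of `C` in the centraliser of `U`. -/
theorem fusion_sign (hSC : ¬ (S : Subgroup X) ≤ cen S U) {γ c d : X} (hγ : ∀ u ∈ U, cj γ u = u)
    (hc : c ∈ cen S U) (hd : d ∈ cen S U) (e : cj γ c = d) : c ∈ A ↔ d ∈ A := by
  classical
  haveI : Fact (Nat.Prime 2) := ⟨Nat.prime_two⟩
  have H := B.frame.core.base
  let K : Subgroup X := centralizer (U : Set X)
  have hCK : cen S U ≤ K := inf_le_right
  have memK : ∀ {g : X}, (∀ u ∈ U, cj g u = u) → g ∈ K := fun {g} hg u hu => (cj_eq_self.1 (hg u hu)).symm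
  -- `C` is a Sylow subgroup of `K`
  have hbound : ∀ R : Subgroup X, IsPGroup 2 R → R ≤ K → Nat.card R ≤ Nat.card (cen S U) := by
    intro R hR hRK
    obtain ⟨k, -, hk⟩ := exists_conj_into (H := (⊤ : Subgroup X)) S le_top le_top
      (R := R ⊔ U) (hR.to_sup_of_normal_right' ((S.2.to_le H.le) : IsPGroup 2 U) (fun r hr =>
        mem_normalizer_iff.2 fun u => ⟨fun hu => by
          have h1 : r * u = u * r := (hRK hr u hu).symm
          rw [h1, mul_inv_cancel_right]; exact hu,
        fun hu => by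
          have h1 := hRK hr _ hu
          have : r * u * r⁻¹ = u := mul_left_cancel (a := r) (by rw [← h1]; group)
          rwa [this] at hu⟩))
    let R' := R.map (cj k).toMonoidHom
    have hR'S : R' ≤ (S : Subgroup X) := by
      rintro _ ⟨r, hr, rfl⟩; exact hk r (mem_sup_left hr)
    have hcard : Nat.card R' = Nat.card R :=
      Subgroup.card_map_of_injective (f := (cj k).toMonoidHom) (cj k).injective
    obtain ⟨s, hs, hsC⟩ := SetLike.not_le_iff_exists.1 hSC
    by_cases hall : ∀ t ∈ (S : Subgroup X), ∀ u ∈ U, cj t (cj k u) = cj k u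
    · exfalso
      have hmem : ∀ u ∈ U, cj k u ∈ U := fun u hu =>
        H.mem_of_central (mem_cen.2 ⟨hk u (mem_sup_right hu), fun u' hu' => cj_eq_self.2
          (cj_eq_self.1 (hall u' (H.le hu') u hu)).symm⟩) (by rw [← map_mul, H.sq u hu, map_one])
          fun c hc => hall c hc.1 u hu
      let f : U → U := fun u => ⟨cj k u, hmem u u.2⟩
      refine hsC (mem_cen.2 ⟨hs, fun u hu => ?_⟩)
      obtain ⟨y, hy⟩ := ((Finite.injective_iff_surjective (f := f)).1
        fun a b e => Subtype.ext ((cj k).injective (congrArg Subtype.val e))) ⟨u, hu⟩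
      have e : cj k (y : X) = u := congrArg Subtype.val hy
      rw [← e]; exact hall s hs y y.2
    · push Not at hall
      obtain ⟨t, ht, u, hu, htu⟩ := hall
      have hne : R' < (S : Subgroup X) := lt_of_le_of_ne hR'S fun e => by
        obtain ⟨r, hr, rfl⟩ : t ∈ R' := e ▸ ht
        refine htu ?_
        show cj (cj k r) (cj k u) = cj k u
        rw [show cj (cj k r) (cj k u) = cj k (cj r u) by simp only [cj_apply]; group,
          cj_eq_self.2 (hRK hr u hu).symm]
      rw [← hcard]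
      obtain ⟨i, hi⟩ := IsPGroup.iff_card.1 (S.2.to_le hR'S)
      obtain ⟨j, hj⟩ := IsPGroup.iff_card.1 S.2
      obtain ⟨l, hl⟩ := IsPGroup.iff_card.1 (isPGroup_cen (S := S) (U := U))
      have h1 : Nat.card R' < Nat.card (S : Subgroup X) :=
        lt_of_le_of_ne (Subgroup.card_le_of_le hR'S) fun e => hne.ne (eq_of_le_of_card_ge hR'S e.ge)
      have h2 : Nat.card (S : Subgroup X) ≤ Nat.card (cen S U) * 2 := by
        let f : ↥(S : Subgroup X) → cen S U × Bool := fun y =>
          if hy : (y : X) ∈ cen S U then (⟨y, hy⟩, false)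
          else (⟨s * y, H.mul_mem_cen hs hsC y.2 hy⟩, true)
        have hinj : Function.Injective f := fun a b e => by
          simp only [f] at e
          split_ifs at e <;>
            simp only [Prod.mk.injEq, Subtype.mk.injEq, Bool.false_eq_true, Bool.true_eq_false, and_false,
              and_true, mul_right_inj] at e <;> exact Subtype.ext e
        have := Nat.card_le_card_of_injective f hinj
        rwa [Nat.card_prod, Nat.card_eq_fintype_card (α := Bool), Fintype.card_bool] at this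
      rw [hi, hl]
      rw [hi, hj] at h1
      rw [hj, hl, ← pow_succ] at h2
      have a1 := (Nat.pow_lt_pow_iff_right (le_refl 2)).1 h1
      have a2 := (Nat.pow_le_pow_iff_right (le_refl 2)).1 h2
      exact Nat.pow_le_pow_right (by norm_num) (by omega)
  have hodd : ¬ 2 ∣ (cen S U).relIndex K := by
    obtain ⟨P, hP⟩ := ((isPGroup_cen (S := S) (U := U)).comap_of_injective K.subtype
      K.subtype_injective).exists_le_sylow
    have hle := hbound ((P : Subgroup K).map K.subtype) (P.2.map _) (Subgroup.map_subtype_le _)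
    rw [Subgroup.card_map_of_injective K.subtype_injective] at hle
    have heq : (cen S U).subgroupOf K = (P : Subgroup K) := Subgroup.eq_of_le_of_card_ge hP
      (by rw [Nat.card_congr (Subgroup.subgroupOfEquivOfLe hCK).toEquiv]; exact hle)
    rw [Subgroup.relIndex, heq]
    exact P.not_dvd_index
  -- the action on the cosets of `A`
  let α := K ⧸ A.subgroupOf K
  have hα : Nat.card α % 4 = 2 := by
    show (A.subgroupOf K).index % 4 = 2
    rw [← Subgroup.relIndex, ← Subgroup.relIndex_mul_relIndex A (cen S U) K B.frame.inv.le hCK,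
      B.relIndex_cen]
    omega
  have := Fintype.ofFinite α
  let χ : K →* ℤˣ := Equiv.Perm.sign.comp (MulAction.toPermHom K α)
  let xK : K := ⟨x, hCK B.mem⟩
  have hχx : χ xK = -1 := by
    set σ := MulAction.toPermHom K α xK with hσ
    have hpow : σ ^ 2 = 1 := by
      rw [hσ, ← map_pow, show xK ^ 2 = 1 from Subtype.ext (by rw [Subgroup.coe_pow, pow_two]; exact B.sq),
        map_one]
    have hfix : Fintype.card (Function.fixedPoints σ) = 0 := Fintype.card_eq_zero_iff.2 ⟨fun ⟨a, ha⟩ => by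
      induction a using QuotientGroup.induction_on with
      | H k =>
        change xK • ((k : K) : α) = (k : α) at ha
        rw [MulAction.Quotient.smul_mk, smul_eq_mul, QuotientGroup.eq, mem_subgroupOf] at ha
        have h1 : cj (k : X)⁻¹ x ∈ A := by
          have := inv_mem ha
          simp only [Subgroup.coe_mul, Subgroup.coe_inv, xK] at this
          rw [cj_apply]; convert this using 1; group
        have h2 : cj (k : X)⁻¹ x ∈ U := B.frame.omega _ h1 (by rw [← map_mul, B.sq, map_one])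
        have h3 : cj (k : X) (cj (k : X)⁻¹ x) = cj (k : X)⁻¹ x := cj_eq_self.2 (k.2 _ h2).symm
        rw [cj_cancel_inv] at h3
        exact B.x_not_U (h3 ▸ h2)⟩
    show Equiv.Perm.sign σ = -1
    rw [Equiv.Perm.sign_of_cycleType_eq_replicate (n := 2) (by norm_num)
      (Equiv.Perm.cycleType_of_pow_prime_eq_one hpow), hfix, if_neg (by decide)]
    rw [Nat.card_eq_fintype_card] at hα
    exact Odd.neg_one_pow (Nat.odd_iff.2 (by omega))
  -- averaged over `h`
  have hhK : ∀ g ∈ K, cj h g ∈ K := fun g hg => memK fun u hu => by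
    rw [show cj (cj h g) u = cj h (cj g (cj h⁻¹ u)) by simp only [cj_apply]; group,
      cj_eq_self.2 (hg _ (B.frame.core.invt_U.hmem_inv u hu)).symm, cj_cancel_inv]
  let ρ : K →* K := MonoidHom.mk' (fun g => ⟨cj h g, hhK g g.2⟩)
    fun g g' => Subtype.ext (map_mul (cj h) (g : X) g')
  let ψ : K →* ℤˣ := χ * χ.comp ρ * χ.comp (ρ.comp ρ)
  have hψA : ∀ g : K, (g : X) ∈ A → ψ g = 1 := fun g hg => by
    show χ g * χ (ρ g) * χ (ρ (ρ g)) = 1
    rw [← map_mul, ← map_mul, show g * ρ g * ρ (ρ g) = 1 from Subtype.ext (B.frame.norm _ hg), map_one]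
  have hψx : ψ xK = -1 := by
    show χ xK * χ (ρ xK) * χ (ρ (ρ xK)) = -1
    have e : ρ xK = xK := Subtype.ext B.hfix
    rw [e, e, hχx]; decide
  have hψout : ∀ g : K, (g : X) ∈ cen S U → ((g : X) ∈ A ↔ ψ g = 1) := fun g hg => by
    refine ⟨hψA g, fun h1 => ?_⟩
    by_contra hgA
    have h2 := hψA (g * xK) ((B.split _ hg).resolve_left hgA)
    rw [map_mul, h1, hψx] at h2
    exact absurd h2 (by decide)
  have hψe : ψ ⟨d, hCK hd⟩ = ψ ⟨c, hCK hc⟩ := by
    have hg : (⟨d, hCK hd⟩ : K) = ⟨γ, memK hγ⟩ * ⟨c, hCK hc⟩ * ⟨γ, memK hγ⟩⁻¹ :=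
      Subtype.ext e.symm
    rw [hg, map_mul, map_mul, map_inv, mul_comm, inv_mul_cancel_left]
  rw [show c ∈ A ↔ ψ ⟨c, hCK hc⟩ = 1 from hψout ⟨c, hCK hc⟩ hc,
    show d ∈ A ↔ ψ ⟨d, hCK hd⟩ = 1 from hψout ⟨d, hCK hd⟩ hd, hψe]

end Big

namespace Outer

variable {s a : X} (O : Outer S U h A n x s a)
include O

theorem notle : ¬ (S : Subgroup X) ≤ cen S U := fun e => O.notC (e O.hs)

theorem hb : cj s a ∈ A := O.big.frame.cj_mem O.hs O.ha

theorem sb : cj s (cj s a) = a := by rw [← cj_mul, O.ss, cj_one]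

theorem comm_ab : Commute a (cj s a) := O.big.frame.comm _ O.ha _ O.hb

theorem top_ne : a ^ 2 ^ (n - 1) ≠ 1 := fun e => O.moved (by rw [e, map_one])

theorem indep : ∀ i j : ℤ, a ^ i * cj s a ^ j = 1 → (2 ^ n : ℤ) ∣ i ∧ (2 ^ n : ℤ) ∣ j := by
  have F := O.big.frame
  set b := cj s a
  set u := a ^ 2 ^ (n - 1) with hu
  have hu2 : u * u = 1 := F.core.base.sq _ (F.top_mem O.ha)
  have hrel : ∀ i j : ℤ, u ^ i * cj s u ^ j = 1 → 2 ∣ i ∧ 2 ∣ j := by
    intro i j e
    have key : ∀ (v : X) (i : ℤ), v * v = 1 → v ^ i = if 2 ∣ i then 1 else v := fun v i hv => by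
      have h2 : v ^ (2 : ℤ) = 1 := by rw [zpow_two, hv]
      conv_lhs => rw [← Int.mul_ediv_add_emod i 2, zpow_add, zpow_mul, h2, one_zpow, one_mul]
      rcases Int.emod_two_eq_zero_or_one i with e' | e'
      · rw [e', zpow_zero, if_pos (Int.dvd_of_emod_eq_zero e')]
      · rw [e', zpow_one, if_neg (by omega)]
    rw [key u i hu2, key _ j (by rw [← map_mul, hu2, map_one])] at e
    split_ifs at e with h1 h2 h2
    · exact ⟨h1, h2⟩
    · rw [one_mul] at e
      exact absurd (show u = 1 by rw [← cj_inv_cancel s u, e, map_one]) O.top_ne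
    · rw [mul_one] at e; exact absurd e O.top_ne
    · exact absurd ((eq_inv_of_mul_eq_one_left e).trans
        (pow_two_cases (by rw [← map_mul, hu2, map_one]))).symm O.moved
  have hstep : ∀ d : ℕ, d ≤ n → ∀ i j : ℤ, a ^ i * b ^ j = 1 → (2 ^ d : ℤ) ∣ i ∧ (2 ^ d : ℤ) ∣ j := by
    intro d
    induction d with
    | zero => exact fun _ i j _ => ⟨by simp, by simp⟩
    | succ d ih =>
      intro hd i j e
      obtain ⟨⟨i', rfl⟩, ⟨j', rfl⟩⟩ := ih (by omega) i j e
      have e2 := congrArg (fun w : X => w ^ ((2 : ℤ) ^ (n - 1 - d))) e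
      have hh : ∀ i' : ℤ, (2 : ℤ) ^ d * i' * 2 ^ (n - 1 - d) = ((2 ^ (n - 1) : ℕ) : ℤ) * i' := fun i' => by
        rw [show (2 : ℤ) ^ d * i' * 2 ^ (n - 1 - d) = 2 ^ d * 2 ^ (n - 1 - d) * i' by ring, ← pow_add,
          show d + (n - 1 - d) = n - 1 by omega]
        push_cast; ring
      rw [(O.comm_ab.zpow_zpow _ _).mul_zpow, one_zpow, ← zpow_mul, ← zpow_mul, hh, hh, zpow_mul, zpow_mul,
        zpow_natCast, zpow_natCast] at e2
      have hb' : b ^ 2 ^ (n - 1) = cj s u := by rw [hu, map_pow]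
      rw [← hu, hb'] at e2
      obtain ⟨⟨i'', rfl⟩, ⟨j'', rfl⟩⟩ := hrel i' j' e2
      exact ⟨⟨i'', by ring⟩, ⟨j'', by ring⟩⟩
  exact hstep n le_rfl

theorem span : ∀ v ∈ A, ∃ i j : ℕ, v = a ^ i * cj s a ^ j := by
  have F := O.big.frame
  have : NeZero (2 ^ n) := ⟨by positivity⟩
  let ev : ZMod (2 ^ n) × ZMod (2 ^ n) → A := fun p =>
    ⟨a ^ p.1.val * cj s a ^ p.2.val, mul_mem (A.pow_mem O.ha _) (A.pow_mem O.hb _)⟩
  have hinj : Function.Injective ev := by
    rintro ⟨i, j⟩ ⟨i', j'⟩ e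
    have e' : a ^ i.val * cj s a ^ j.val = a ^ i'.val * cj s a ^ j'.val := congrArg Subtype.val e
    have h1 : a ^ ((i.val : ℤ) - i'.val) * cj s a ^ ((j.val : ℤ) - j'.val) = 1 := by
      rw [zpow_sub, zpow_sub, zpow_natCast, zpow_natCast, zpow_natCast, zpow_natCast]
      calc a ^ i.val * (a ^ i'.val)⁻¹ * (cj s a ^ j.val * (cj s a ^ j'.val)⁻¹)
          = a ^ i.val * ((a ^ i'.val)⁻¹ * cj s a ^ j.val) * (cj s a ^ j'.val)⁻¹ := by group
        _ = a ^ i.val * (cj s a ^ j.val * (a ^ i'.val)⁻¹) * (cj s a ^ j'.val)⁻¹ := by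
          rw [(O.comm_ab.pow_pow i'.val j.val).inv_left.eq]
        _ = a ^ i'.val * cj s a ^ j'.val * ((a ^ i'.val)⁻¹ * (cj s a ^ j'.val)⁻¹) := by
          rw [← e']; group
        _ = 1 := by
          rw [(O.comm_ab.pow_pow i'.val j'.val).inv_inv.eq]; group
    obtain ⟨d1, d2⟩ := O.indep _ _ h1
    have d1' : ((2 ^ n : ℕ) : ℤ) ∣ (i.val : ℤ) - i'.val := by exact_mod_cast d1
    have d2' : ((2 ^ n : ℕ) : ℤ) ∣ (j.val : ℤ) - j'.val := by exact_mod_cast d2
    have g1 := (ZMod.intCast_zmod_eq_zero_iff_dvd _ _).2 d1'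
    have g2 := (ZMod.intCast_zmod_eq_zero_iff_dvd _ _).2 d2'
    rw [Int.cast_sub, Int.cast_natCast, Int.cast_natCast, ZMod.natCast_zmod_val, ZMod.natCast_zmod_val,
      sub_eq_zero] at g1 g2
    rw [g1, g2]
  intro v hv
  obtain ⟨p, hp⟩ := ((Nat.bijective_iff_injective_and_card ev).2 ⟨hinj, by
    rw [Nat.card_prod, Nat.card_zmod, F.card, ← mul_pow]; norm_num⟩).2 ⟨v, hv⟩
  exact ⟨p.1.val, p.2.val, (congrArg Subtype.val hp).symm⟩

/-- The central involution of `S`. -/
theorem z_facts : a ^ 2 ^ (n - 1) * cj s a ^ 2 ^ (n - 1) ∈ U ∧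
    a ^ 2 ^ (n - 1) * cj s a ^ 2 ^ (n - 1) ≠ 1 ∧
    (∀ t ∈ (S : Subgroup X), cj t (a ^ 2 ^ (n - 1) * cj s a ^ 2 ^ (n - 1)) =
      a ^ 2 ^ (n - 1) * cj s a ^ 2 ^ (n - 1)) ∧
    ∀ u ∈ U, u ≠ 1 → cj s u = u → u = a ^ 2 ^ (n - 1) * cj s a ^ 2 ^ (n - 1) := by
  have F := O.big.frame
  have H := F.core.base
  set u := a ^ 2 ^ (n - 1)
  have huU : u ∈ U := F.top_mem O.ha
  have hsu : cj s a ^ 2 ^ (n - 1) = cj s u := by rw [map_pow]
  rw [hsu]
  have hv : cj s u ∈ U := H.norm s O.hs u huU
  have hne : u * cj s u ≠ 1 := fun e =>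
    O.moved ((eq_inv_of_mul_eq_one_left e).trans (pow_two_cases (H.sq _ hv))).symm
  have hfix : ∀ y ∈ U, y ≠ 1 → cj s y = y → y = u * cj s u := by
    intro y hy hy1 hf
    rcases H.cases huU hv O.top_ne (fun e => O.top_ne (show u = 1 by rw [← cj_inv_cancel s u, e, map_one]))
      (Ne.symm O.moved) hy with rfl | rfl | rfl | rfl
    · exact absurd rfl hy1
    · exact absurd hf O.moved
    · rw [← cj_mul, O.ss, cj_one] at hf; exact absurd hf.symm O.moved
    · rfl
  obtain ⟨z0, w0, hz0, -, hz01, -, -, hzc⟩ := H.exists_basis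
  have hz0e := hfix z0 hz0 hz01 (hzc s O.hs)
  exact ⟨mul_mem huU hv, hne, fun t ht => hz0e ▸ hzc t ht, hfix⟩

theorem sq_mem_A {t : X} (ht : t ∈ (S : Subgroup X)) : t * t ∈ A := by
  have B := O.big
  have key : ∀ c ∈ cen S U, c * c ∈ A ∧ cj s c * c ∈ A := by
    intro c hc
    rcases B.split c hc with hcA | hcA
    · exact ⟨mul_mem hcA hcA, mul_mem (B.frame.cj_mem O.hs hcA) hcA⟩
    · have hxc : x * c ∈ A := by
        have e' : cj x (c * x) = x * c := by rw [cj_apply]; group
        exact e' ▸ B.frame.cj_mem B.mem.1 hcA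
      refine ⟨?_, ?_⟩
      · have := mul_mem hcA hxc
        rwa [show c * x * (x * c) = c * (x * x) * c by group, B.sq, mul_one] at this
      · have := mul_mem (B.frame.cj_mem O.hs hcA) hxc
        rwa [map_mul, O.sx, show cj s c * x * (x * c) = cj s c * (x * x) * c by group, B.sq,
          mul_one] at this
  by_cases htC : t ∈ cen S U
  · exact (key t htC).1
  have hcC : s * t ∈ cen S U := B.frame.core.base.mul_mem_cen O.hs O.notC ht htC
  have e : t * t = cj s (s * t) * (s * t) := by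
    rw [cj_apply, pow_two_cases O.ss, ← mul_assoc s s t, O.ss, one_mul]
    calc t * t = t * 1 * t := by group
      _ = t * (s * s) * t := by rw [O.ss]
      _ = _ := by group
  rw [e]; exact (key _ hcC).2

theorem relIndex_A : A.relIndex (S : Subgroup X) = 4 := by
  have hidx : (cen S U).relIndex (S : Subgroup X) = 2 := by
    rw [Subgroup.relIndex, Subgroup.index_eq_two_iff]
    refine ⟨⟨s, O.hs⟩, fun b => ?_⟩
    rw [xor_iff_iff_not, mem_subgroupOf, mem_subgroupOf, Subgroup.coe_mul]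
    exact ⟨fun e hb => O.notC (((cen S U).mul_mem_cancel_left hb).1 e),
      fun hb => O.big.frame.core.base.mul_mem_cen b.2 hb O.hs O.notC⟩
  rw [← Subgroup.relIndex_mul_relIndex A (cen S U) (S : Subgroup X) O.big.frame.inv.le inf_le_left,
    O.big.relIndex_cen, hidx]

/-- An outer involution `y` is fused into `U` together with `z`. -/
theorem to_U {y v f : X} (hy : y ∈ (S : Subgroup X)) (hyC : y ∉ cen S U) (hy2 : y * y = 1)
    (hv : v ∈ A) (hvz : v ^ 2 ^ (n - 1) = a ^ 2 ^ (n - 1) * cj s a ^ 2 ^ (n - 1))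
    (hvy : v * y = y * v) (hf : f ∈ cen S U) (hfA : f ∉ A) (hfy : f * y = y * f) :
    ∃ g : X, cj g y ∈ U ∧ cj g (a ^ 2 ^ (n - 1) * cj s a ^ 2 ^ (n - 1)) ∈ U ∧
      cj g y ≠ 1 ∧ cj g y ≠ cj g (a ^ 2 ^ (n - 1) * cj s a ^ 2 ^ (n - 1)) ∧
      (∀ t ∈ (S : Subgroup X), t * y = y * t → cj g t ∈ (S : Subgroup X)) := by
  classical
  haveI : Fact (Nat.Prime 2) := ⟨Nat.prime_two⟩
  have B := O.big
  have F := B.frame
  have H := F.core.base
  have hn := B.three_le
  obtain ⟨hzU, hz1, hzc, -⟩ := O.z_facts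
  set z := a ^ 2 ^ (n - 1) * cj s a ^ 2 ^ (n - 1) with hz
  have hy1 : y ≠ 1 := fun e => hyC (e ▸ one_mem _)
  obtain ⟨w, hwC, hyw, hmax⟩ := G2Fusion23.exists_extremal_mem S (cen S U) inf_le_left (by
      rw [Subgroup.relIndex, Subgroup.index_eq_two_iff]
      refine ⟨⟨s, O.hs⟩, fun b => ?_⟩
      rw [xor_iff_iff_not, mem_subgroupOf, mem_subgroupOf, Subgroup.coe_mul]
      exact ⟨fun e hb => O.notC (((cen S U).mul_mem_cancel_left hb).1 e),
        fun hb => H.mul_mem_cen b.2 hb O.hs O.notC⟩)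
    H.idx y (orderOf_eq_prime (by rw [pow_two, hy2]) hy1) hy
  obtain ⟨g0, hg0⟩ := isConj_iff.1 hyw
  have hw2 : w * w = 1 := by rw [← hg0, ← cj_apply, ← map_mul, hy2, map_one]
  have hw1 : w ≠ 1 := fun e => hy1 (by rw [← cj_inv_cancel g0 y, cj_apply g0, hg0, e, map_one])
  have hwA : w ∈ A := by
    by_contra hwA
    have hle := hmax y hy (IsConj.refl y)
    set Ty := (S : Subgroup X) ⊓ centralizer ({y} : Set X)
    set Tw := (S : Subgroup X) ⊓ centralizer ({w} : Set X)
    have h16 : Nat.card Tw ≤ 16 := by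
      have hinf : Tw ⊓ A ≤ U := fun t ht => by
        have h1 : cj w t = t := cj_eq_self.2 (mem_centralizer_singleton_iff.1 ht.1.2).symm
        rw [B.cj_coset hwC hwA ht.2] at h1
        exact B.cen_x ht.2 h1
      have h1 := Subgroup.relIndex_mul_relIndex (⊥ : Subgroup X) (Tw ⊓ A) Tw bot_le inf_le_left
      rw [Subgroup.relIndex_bot_left, Subgroup.relIndex_bot_left, Subgroup.inf_relIndex_left] at h1
      have h2 : Nat.card ↥(Tw ⊓ A) ≤ 4 := H.card ▸ Subgroup.card_le_of_le hinf
      have h3 : A.relIndex Tw ≤ 4 := by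
        rw [← O.relIndex_A]
        exact Subgroup.relIndex_le_of_le_right (inf_le_left : Tw ≤ (S : Subgroup X))
          (by rw [O.relIndex_A]; norm_num)
      rw [← h1]; exact Nat.mul_le_mul h2 h3
    have hvS := F.mem_S hv
    have h32 : 32 ≤ Nat.card Ty := by
      have : NeZero (2 ^ n) := ⟨by positivity⟩
      let e : ZMod (2 ^ n) × Bool × Bool → Ty := fun p =>
        ⟨v ^ p.1.val * (if p.2.1 then f else 1) * (if p.2.2 then y else 1),
          mul_mem (mul_mem (pow_mem hvS _) (by split_ifs <;> first | exact hf.1 | exact one_mem _))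
            (by split_ifs <;> first | exact hy | exact one_mem _),
          mem_centralizer_singleton_iff.2 (((Commute.pow_left hvy _).mul_left
            (by split_ifs <;> first | exact hfy | exact Commute.one_left y)).mul_left
            (by split_ifs <;> first | exact Commute.refl y | exact Commute.one_left y)).eq⟩
      have he : Function.Injective e := by
        rintro ⟨i, k, l⟩ ⟨i', k', l'⟩ eq
        have eq' : v ^ i.val * (if k then f else 1) * (if l then y else 1) =
            v ^ i'.val * (if k' then f else 1) * (if l' then y else 1) := congrArg Subtype.val eq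
        have hC : ∀ (i : ℕ) (k : Bool), v ^ i * (if k then f else 1) ∈ cen S U := fun i k =>
          mul_mem (pow_mem (F.inv.le hv) i) (by split_ifs <;> first | exact hf | exact one_mem _)
        have hl : l = l' := by
          cases l <;> cases l' <;> simp only [Bool.false_eq_true, if_false, if_true, mul_one] at eq'
          · rfl
          · exact absurd (((cen S U).mul_mem_cancel_left (hC i'.val k')).1 (eq' ▸ hC i.val k)) hyC
          · exact absurd (((cen S U).mul_mem_cancel_left (hC i.val k)).1 (eq'.symm ▸ hC i'.val k')) hyC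
          · rfl
        subst hl
        have eq2 := mul_right_cancel eq'
        have hk : k = k' := by
          cases k <;> cases k' <;> simp only [Bool.false_eq_true, if_false, if_true, mul_one] at eq2
          · rfl
          · exact absurd ((A.mul_mem_cancel_left (A.pow_mem hv _)).1 (eq2 ▸ A.pow_mem hv _)) hfA
          · exact absurd ((A.mul_mem_cancel_left (A.pow_mem hv _)).1 (eq2.symm ▸ A.pow_mem hv _)) hfA
          · rfl
        subst hk
        have eq3 := mul_right_cancel eq2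
        have hord : orderOf v = 2 ^ n := by
          rw [show n = n - 1 + 1 by omega]
          refine orderOf_eq_prime_pow (by rw [hvz]; exact hz1) ?_
          rw [show n - 1 + 1 = n by omega]; exact F.expo v hv
        have hii := pow_inj_mod.1 eq3
        rw [hord, Nat.mod_eq_of_lt (ZMod.val_lt i), Nat.mod_eq_of_lt (ZMod.val_lt i')] at hii
        rw [ZMod.val_injective _ hii]
      have h1 := Nat.card_le_card_of_injective e he
      rw [Nat.card_prod, Nat.card_prod, Nat.card_zmod, Nat.card_eq_fintype_card (α := Bool),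
        Fintype.card_bool] at h1
      have : 2 ^ 3 ≤ 2 ^ n := Nat.pow_le_pow_right (by norm_num) hn
      omega
    change Nat.card Ty ≤ Nat.card Tw at hle
    omega
  obtain ⟨g, hgy, -, hgy1, hgT⟩ := H.fuse ((S : Subgroup X) ⊓ centralizer ({y} : Set X))
    (S.2.to_le inf_le_left) (fun t ht => (mem_centralizer_singleton_iff.1 ht.2).symm)
    (F.omega w hwA hw2) hw1 hyw
  have hgS : ∀ t ∈ (S : Subgroup X), t * y = y * t → cj g t ∈ (S : Subgroup X) := fun t ht hc =>
    hgT t ⟨ht, mem_centralizer_singleton_iff.2 hc⟩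
  refine ⟨g, hgy, ?_, hgy1, fun e => ?_, hgS⟩
  · set v4 := cj g v ^ 2 ^ (n - 3)
    have hm : v4 ∈ (S : Subgroup X) := pow_mem (hgS v (F.mem_S hv) hvy) _
    have h4 : (v4 * v4) * (v4 * v4) ∈ A := mul_mem (O.sq_mem_A hm) (O.sq_mem_A hm)
    have e : cj g z = (v4 * v4) * (v4 * v4) := by
      rw [← hvz, map_pow, ← pow_two, ← pow_two, ← pow_mul, ← pow_mul,
        show 2 ^ (n - 3) * (2 * 2) = 2 ^ (n - 3 + 2) by rw [pow_add]; rfl, show n - 3 + 2 = n - 1 by omega]
    rw [e]
    exact F.omega _ h4 (by rw [← e, ← map_mul, H.sq z hzU, map_one])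
  · exact hyC ((cj g).injective e ▸ H.le_cen hzU)

/-- `x` inverts `A`. -/
theorem exact_inv : ∀ v ∈ A, cj x v = v⁻¹ := by
  classical
  haveI : Fact (Nat.Prime 2) := ⟨Nat.prime_two⟩
  have B := O.big
  have F := B.frame
  have H := F.core.base
  have hn := B.three_le
  obtain ⟨hzU, hz1, hzc, hzfix⟩ := O.z_facts
  have hbA := O.hb
  -- the error as a map
  have hE : ∀ v ∈ A, ∀ w ∈ A, cj x (v * w) * (v * w) = cj x v * v * (cj x w * w) := fun v hv w hw => by
    rw [map_mul]
    calc cj x v * cj x w * (v * w) = cj x v * (cj x w * v) * w := by group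
      _ = cj x v * (v * cj x w) * w := by rw [F.comm _ (F.cj_mem B.mem.1 hw) v hv]
      _ = _ := by group
  by_contra hne
  push Not at hne
  obtain ⟨v0, hv0, hv0ne⟩ := hne
  set b := cj s a
  set u := a ^ 2 ^ (n - 1) with hu
  obtain ⟨z, hz⟩ : ∃ v : X, v = u * b ^ 2 ^ (n - 1) := ⟨_, rfl⟩
  rw [← hz] at hzU hz1 hzc hzfix
  have hbu : b ^ 2 ^ (n - 1) = cj s u := by rw [hu, map_pow]
  -- the error on generators
  set εa := cj x a * a with hεa
  have hεs : cj x b * b = cj s εa := by
    rw [hεa, map_mul, show cj s (cj x a) = cj (cj s x) (cj s a) by simp only [cj_apply]; group, O.sx]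
  have hεU : εa ∈ U := B.eps a O.ha
  have hεpow : ∀ v ∈ A, ∀ i : ℕ, cj x (v ^ i) * v ^ i = (cj x v * v) ^ i := fun v hv i => by
    rw [map_pow, ← Commute.mul_pow (F.comm _ (F.cj_mem B.mem.1 hv) _ hv)]
  -- `εa = u`
  have hεau : εa = u := by
    have hval : ∀ v ∈ A, ∀ w ∈ A, v ^ 2 ^ (n - 1) = w ^ 2 ^ (n - 1) → cj x v * v = cj x w * w := by
      intro v hv w hw e
      obtain ⟨r, hr, hrr⟩ := F.root (w⁻¹ * v) (mul_mem (inv_mem hw) hv) (by
        rw [Commute.mul_pow (F.comm _ (inv_mem hw) _ hv), e, inv_pow, inv_mul_cancel])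
      have ev : v = w * r ^ 2 := by rw [pow_two, hrr, mul_inv_cancel_left]
      rw [ev, hE w hw _ (A.pow_mem hr 2), hεpow r hr 2, pow_two (cj x r * r),
        H.sq _ (B.eps r hr), mul_one]
    have hh : cj x (cj h a) * cj h a = cj h εa := by
      rw [hεa, map_mul, show cj h (cj x a) = cj (cj h x) (cj h a) by simp only [cj_apply]; group, B.hfix]
    obtain ⟨hu1', hu11, hu1ne, hu1h, hu13⟩ := F.core.U_rel (F.top_mem O.ha) O.top_ne
    rw [← hu] at hu1' hu11 hu1ne hu1h hu13
    have hsu : cj s u ∈ U := H.norm s O.hs u (F.top_mem O.ha)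
    have hεzero : εa ≠ 1 := by
      intro e1
      have h2 : cj x b * b = 1 := by rw [hεs, e1, map_one]
      refine hv0ne ?_
      obtain ⟨i, j, rfl⟩ := O.span v0 hv0
      refine eq_inv_of_mul_eq_one_left ?_
      rw [hE _ (A.pow_mem O.ha i) _ (A.pow_mem hbA j), hεpow a O.ha, hεpow b hbA, ← hεa, e1, h2,
        one_pow, one_pow, one_mul]
    have hhv : ∀ v ∈ A, cj x (cj h v) * cj h v = cj h (cj x v * v) := fun v hv => by
      rw [map_mul, show cj h (cj x v) = cj (cj h x) (cj h v) by simp only [cj_apply]; group, B.hfix]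
    have huU : u ∈ U := F.top_mem O.ha
    have hsu1 : cj s u ≠ 1 := fun e => O.top_ne (show u = 1 by rw [← cj_inv_cancel s u, e, map_one])
    have hzsu : z = u * cj s u := by rw [hz, hbu]
    have hha := F.inv.hmem a O.ha
    have habtop : (a * b) ^ 2 ^ (n - 1) = z := by
      have hc : Commute a b := O.comm_ab
      rw [hc.mul_pow, hz]
    have heab : cj x (a * b) * (a * b) = εa * cj s εa := by rw [hE a O.ha b hbA, hεs]
    have hfix : cj s (εa * cj s εa) = εa * cj s εa := by
      rw [map_mul, ← cj_mul, O.ss, cj_one]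
      exact H.comm (H.norm s O.hs _ hεU) hεU
    have hne1 : ∀ v, v ≠ 1 → cj h v ≠ 1 := fun v hv e => hv (by rw [← cj_inv_cancel h v, e, map_one])
    have hcase : cj h u = cj s u ∨ cj h u = z := by
      rcases H.cases huU hsu O.top_ne hsu1 (Ne.symm O.moved) hu1' with e | e | e | e
      · exact absurd e hu11
      · exact absurd e hu1ne
      · exact Or.inl e
      · exact Or.inr (e.trans hzsu.symm)
    have hab1 : εa * cj s εa ≠ 1 := by
      rw [← heab]
      rcases hcase with e | e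
      · have h2 : cj h (cj h a) ^ 2 ^ (n - 1) = z := by
          rw [← map_pow, ← map_pow, ← hu, hu1h, e, hzsu]
        rw [hval _ (mul_mem O.ha hbA) _ (F.inv.hmem _ hha) (habtop.trans h2.symm), hhv _ hha, hhv a O.ha,
          ← hεa]
        exact hne1 _ (hne1 _ hεzero)
      · have h2 : cj h a ^ 2 ^ (n - 1) = z := by rw [← map_pow, ← hu, e]
        rw [hval _ (mul_mem O.ha hbA) _ hha (habtop.trans h2.symm), hhv a O.ha, ← hεa]
        exact hne1 _ hεzero
    have hεab := hzfix _ (U.mul_mem hεU (H.norm s O.hs _ hεU)) hab1 hfix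
    rcases H.cases huU hsu O.top_ne hsu1 (Ne.symm O.moved) hεU with e | e | e | e
    · exact absurd e hεzero
    · exact e
    · exfalso
      rcases hcase with e' | e'
      · have h2 : cj h a ^ 2 ^ (n - 1) = b ^ 2 ^ (n - 1) := by rw [hbu, ← map_pow, ← hu, e']
        have h3 := hval _ hha b hbA h2
        rw [hhv a O.ha, ← hεa, hεs, e, ← cj_mul s s, O.ss, cj_one, ← e', hu1h, e', ← hzsu] at h3
        refine hsu1 (mul_eq_left.1 (hzsu.symm.trans h3))
      · have h2 : cj h a ^ 2 ^ (n - 1) = z := by rw [← map_pow, ← hu, e']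
        have h3 := hval _ hha (a * b) (mul_mem O.ha hbA) (h2.trans habtop.symm)
        have h4 : cj s u = cj h (cj h u) := by
          rw [hu1h, e', hzsu, ← mul_assoc, H.sq u huU, one_mul]
        rw [hhv a O.ha, ← hεa, heab, hεab, e, h4, hu13, hzsu] at h3
        exact hsu1 (mul_eq_left.1 h3.symm)
    · rw [← hzsu] at e
      exact absurd (by rw [e, hzc s O.hs]; exact H.sq z hzU) hab1
  have hxa : cj x a = u * a⁻¹ := by rw [← hεau, hεa, mul_inv_cancel_right]
  have hxb : cj x b = b ^ 2 ^ (n - 1) * b⁻¹ := by rw [hbu, ← hεau, ← hεs, mul_inv_cancel_right]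
  -- the elements
  set q := 2 ^ (n - 2) with hq
  have hqq : q * 2 = 2 ^ (n - 1) := by rw [hq, ← pow_succ, show n - 2 + 1 = n - 1 by omega]
  have hab : a * b ∈ A := mul_mem O.ha hbA
  have hsab : cj s (a * b) = a * b := by rw [map_mul, O.sb]; exact (O.comm_ab.eq).symm
  have habz : (a * b) ^ 2 ^ (n - 1) = z := by
    have hc : Commute a b := O.comm_ab
    rw [hc.mul_pow, hz]
  obtain ⟨e, he⟩ : ∃ v : X, v = (a * b⁻¹) ^ q := ⟨_, rfl⟩
  have heA : e ∈ A := he ▸ A.pow_mem (mul_mem O.ha (inv_mem hbA)) _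
  have hcab' : Commute a b⁻¹ := O.comm_ab.inv_right
  have hse : cj s e = e⁻¹ := by
    rw [he, map_pow, map_mul, map_inv, O.sb, ← inv_pow, mul_inv_rev, inv_inv]
  have he2 : e * e = z := by
    rw [← pow_two, he, ← pow_mul, hqq, hcab'.mul_pow, inv_pow, hbu,
      pow_two_cases (by rw [← map_mul, H.sq u (F.top_mem O.ha), map_one]), ← hbu, hz]
  have hinv4 : ∀ w ∈ A, w * w ∈ U → cj x w = w⁻¹ := fun w hw h4 => B.inv_four hw h4
  have hxe : cj x e = e⁻¹ := hinv4 e heA (by rw [he2]; exact hzU)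
  have hes : cj e s = z * s := by
    calc cj e s = e * cj s e⁻¹ * s := by rw [cj_apply, cj_apply]; group
      _ = _ := by rw [map_inv, hse, inv_inv, he2]
  obtain ⟨t, ht⟩ : ∃ v : X, v = (a * b) ^ q := ⟨_, rfl⟩
  have htA : t ∈ A := ht ▸ A.pow_mem hab _
  have ht2 : t * t = z := by rw [← pow_two, ht, ← pow_mul, hqq, habz]
  have hst : cj s t = t := by rw [ht, map_pow, hsab]
  have hxt : cj x t = t⁻¹ := hinv4 t htA (by rw [ht2]; exact hzU)
  have hxab : cj x (a * b) = z * (a * b)⁻¹ := by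
    rw [map_mul, hxa, hxb, hz, mul_inv_rev]
    have c1 := F.comm a⁻¹ (inv_mem O.ha) (b ^ 2 ^ (n - 1)) (A.pow_mem hbA _)
    have c2 := F.comm b⁻¹ (inv_mem hbA) a⁻¹ (inv_mem O.ha)
    rw [c2]
    calc u * a⁻¹ * (b ^ 2 ^ (n - 1) * b⁻¹) = u * (a⁻¹ * b ^ 2 ^ (n - 1)) * b⁻¹ := by group
      _ = _ := by rw [c1]; group
  -- the fusion of `s`
  have hsab' : (a * b) * s = s * (a * b) := (cj_eq_self.1 hsab).symm
  have hxs : x * s = s * x := (cj_eq_self.1 O.sx).symm
  obtain ⟨g1, hg1s, hg1z, hg1s1, hg1ne, hg1S⟩ :=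
    O.to_U O.hs O.notC O.ss hab (habz.trans hz) hsab' B.mem B.not_mem hxs
  rw [← hu, ← hz] at hg1z hg1ne
  have hg1z1 : cj g1 z ≠ 1 := fun e1 => hz1 (by rw [← cj_inv_cancel g1 z, e1, map_one])
  let T : Subgroup X :=
    { carrier := {r | r ∈ (S : Subgroup X) ∧ (cj r s = s ∨ cj r s = z * s)}
      one_mem' := ⟨one_mem _, Or.inl (cj_one s)⟩
      mul_mem' := fun {r r'} hr hr' => ⟨mul_mem hr.1 hr'.1, by
        rw [cj_mul]
        rcases hr.2 with e1 | e1 <;> rcases hr'.2 with e2 | e2 <;> rw [e2]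
        · exact Or.inl e1
        · right; rw [map_mul, hzc r hr.1, e1]
        · exact Or.inr e1
        · left; rw [map_mul, hzc r hr.1, e1, ← mul_assoc, H.sq z hzU, one_mul]⟩
      inv_mem' := fun {r} hr => ⟨inv_mem hr.1, by
        rcases hr.2 with e1 | e1
        · left; conv_lhs => rw [← e1, cj_inv_cancel]
        · right
          have h2 := congrArg (cj r⁻¹) e1
          rw [cj_inv_cancel, map_mul, hzc _ (inv_mem hr.1)] at h2
          calc cj r⁻¹ s = z * z * cj r⁻¹ s := by rw [H.sq z hzU, one_mul]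
            _ = z * s := by rw [mul_assoc, ← h2]⟩ }
  obtain ⟨k, hk, hkS⟩ := exists_conj_into S (H := normalizer (U : Set X)) (R := T.map (cj g1).toMonoidHom)
    (fun r hr => mem_normalizer_iff.2 fun y => ⟨fun hy => H.norm r hr y hy, fun hy => by
      have := H.norm r⁻¹ (inv_mem hr) _ hy
      rwa [← cj_apply, cj_inv_cancel] at this⟩)
    (by
      rintro _ ⟨r, hr, rfl⟩
      have e0 : ∀ y, cj (cj g1 r) (cj g1 y) = cj g1 (cj r y) := fun y => by simp only [cj_apply]; group
      have key : ∀ y ∈ U, cj (cj g1 r) y ∈ U := by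
        intro y hy
        rcases H.cases hg1z hg1s hg1z1 hg1s1 (Ne.symm hg1ne) hy with rfl | rfl | rfl | rfl
        · rw [map_one]; exact one_mem _
        · rw [e0, hzc r hr.1]; exact hg1z
        · rw [e0]
          rcases hr.2 with e1 | e1 <;> rw [e1]
          · exact hg1s
          · rw [map_mul]; exact mul_mem hg1z hg1s
        · rw [map_mul, e0, e0, hzc r hr.1]
          refine mul_mem hg1z ?_
          rcases hr.2 with e1 | e1 <;> rw [e1]
          · exact hg1s
          · rw [map_mul]; exact mul_mem hg1z hg1s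
      refine mem_normalizer_iff.2 fun y => ⟨fun hy => key y hy, fun hy => ?_⟩
      let f : U → U := fun y => ⟨cj (cj g1 r) y, key y y.2⟩
      obtain ⟨y', hy'⟩ := ((Finite.injective_iff_surjective (f := f)).1
        fun a b e => Subtype.ext ((cj (cj g1 r)).injective (congrArg Subtype.val e))) ⟨_, hy⟩
      exact (cj (cj g1 r)).injective (congrArg Subtype.val hy') ▸ y'.2)
    ((S.2.to_le (fun r hr => hr.1) : IsPGroup 2 T).map _)
  obtain ⟨g, hg⟩ : ∃ v : X, v = k * g1 := ⟨_, rfl⟩
  have hgU : ∀ {y}, cj g1 y ∈ U → cj g y ∈ U := fun {y} hy => by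
    rw [hg, cj_mul]; exact (mem_normalizer_iff.1 hk _).1 hy
  have hgT : ∀ r ∈ T, cj g r ∈ (S : Subgroup X) := fun r hr => by
    rw [hg, cj_mul]; exact hkS _ ⟨r, hr, rfl⟩
  have hgz := hgU hg1z
  have hgs := hgU hg1s
  have hgz1 : cj g z ≠ 1 := fun e1 => hz1 (by rw [← cj_inv_cancel g z, e1, map_one])
  have hgs1 : cj g s ≠ 1 := fun e1 => O.notC (by
    rw [← cj_inv_cancel g s, e1, map_one]; exact one_mem _)
  have hgne : cj g z ≠ cj g s := fun e1 => O.notC ((cj g).injective e1 ▸ H.le_cen hzU)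
  -- `y := g e g⁻¹` lies outside `C`
  have hgeS : cj g e ∈ (S : Subgroup X) := hgT e ⟨F.mem_S heA, Or.inr hes⟩
  have hgeC : cj g e ∉ cen S U := fun hC => by
    have h1 := (mem_cen.1 hC).2 _ hgs
    rw [show cj (cj g e) (cj g s) = cj g (cj e s) by simp only [cj_apply]; group, hes] at h1
    exact hz1 (mul_eq_right.1 ((cj g).injective h1))
  have houter : ∀ y ∈ (S : Subgroup X), y ∉ cen S U → ∀ u' ∈ U, u' ≠ 1 → cj y u' = u' → u' = z := by
    intro y hy hyC u' hu' hu'1 hf
    have hc := H.mul_mem_cen O.hs O.notC hy hyC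
    refine hzfix u' hu' hu'1 ?_
    have := (mem_cen.1 hc).2 u' hu'
    rwa [cj_mul, hf] at this
  have hgz' : cj g z = z := houter _ hgeS hgeC _ hgz hgz1 (by
    rw [show cj (cj g e) (cj g z) = cj g (cj e z) by simp only [cj_apply]; group, hzc e (F.mem_S heA)])
  have hgcen : ∀ r, cj r s = s → r ∈ (S : Subgroup X) → cj g r ∈ cen S U := fun r hrs hr => by
    refine mem_cen.2 ⟨hgT r ⟨hr, Or.inl hrs⟩, fun y hy => H.two_fixed hgz hgs hgz1 hgs1 hgne ?_ ?_ hy⟩
    · rw [show cj (cj g r) (cj g z) = cj g (cj r z) by simp only [cj_apply]; group, hzc r hr]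
    · rw [show cj (cj g r) (cj g s) = cj g (cj r s) by simp only [cj_apply]; group, hrs]
  obtain ⟨V, hV⟩ : ∃ v : X, v = cj g (a * b) := ⟨_, rfl⟩
  have hVz : V ^ 2 ^ (n - 1) = z := by rw [hV, ← map_pow, habz, hgz']
  have hVA : V ∈ A := B.mem_of_top (hV ▸ hgcen _ (cj_eq_self.2 hsab') (F.mem_S hab)) (by rw [hVz]; exact hz1)
  -- the element moving `e`
  obtain ⟨d0, hd0, hd0u⟩ := F.top _ hgs
  set p := d0 ^ q
  have hpA : p ∈ A := A.pow_mem hd0 _
  have hp2 : p * p = cj g s := by rw [← pow_two, ← pow_mul, hqq, hd0u]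
  obtain ⟨y, hy⟩ : ∃ v : X, v = cj g e := ⟨_, rfl⟩
  have hyy : y * y = z := by rw [hy, ← map_mul, he2, hgz']
  have hygs : cj y (cj g s) = z * cj g s := by
    rw [hy, show cj (cj g e) (cj g s) = cj g (cj e s) by simp only [cj_apply]; group, hes, map_mul, hgz']
  obtain ⟨d, hd⟩ : ∃ v : X, v = cj y p * p⁻¹ := ⟨_, rfl⟩
  have hyS : y ∈ (S : Subgroup X) := hy ▸ hgeS
  have hypA : cj y p ∈ A := F.cj_mem hyS hpA
  have hdA : d ∈ A := hd ▸ mul_mem hypA (inv_mem hpA)
  have hd2 : d * d = z := by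
    rw [← pow_two, hd, Commute.mul_pow (F.comm _ hypA _ (inv_mem hpA)), pow_two, pow_two, ← map_mul,
      ← mul_inv_rev, hp2, hygs, pow_two_cases (H.sq _ hgs), mul_assoc, H.sq _ hgs, mul_one]
  have hyd : cj y d = d⁻¹ := by
    rw [hd, map_mul, map_inv, ← cj_mul, hyy,
      cj_eq_self.2 (F.comm z (F.le hzU) p hpA), mul_inv_rev, inv_inv]
  have hyV : cj y V = V := by
    rw [hy, hV, show cj (cj g e) (cj g (a * b)) = cj g (cj e (a * b)) by simp only [cj_apply]; group,
      cj_eq_self.2 (F.comm e heA _ hab)]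
  obtain ⟨w, hw⟩ : ∃ v : X, v = (V ^ q)⁻¹ * d := ⟨_, rfl⟩
  have hVq : V ^ q ∈ A := A.pow_mem hVA _
  have hwU : w ∈ U := F.omega _ (hw ▸ mul_mem (inv_mem hVq) hdA) (by
    rw [← pow_two, hw, Commute.mul_pow (F.comm _ (inv_mem hVq) _ hdA), inv_pow, ← pow_mul, hqq, hVz,
      pow_two, hd2, inv_mul_cancel])
  have hwne : w ≠ 1 ∧ w ≠ z := by
    have hfix : cj y w = w → False := fun hf => by
      have h1 : cj y d = d := by
        have e1 : d = V ^ q * w := by rw [hw, mul_inv_cancel_left]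
        rw [e1, map_mul, map_pow, hyV, hf]
      rw [hyd] at h1
      have h3 : d * d = 1 := by
        nth_rewrite 1 [← h1]; rw [inv_mul_cancel]
      exact hz1 (hd2.symm.trans h3)
    exact ⟨fun e1 => hfix (by rw [e1, map_one]), fun e1 => hfix (by rw [e1, hzc y hyS])⟩
  -- `r₁`, `r₂` and the three-cycle on the quaternion group
  set r2 := cj g⁻¹ p with hr2
  have hr2v : ∀ v, cj r2 v = cj g⁻¹ (cj p (cj g v)) := fun v => by
    rw [hr2]; simp only [cj_apply]; group
  have hr2s : cj r2 s = s := by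
    rw [hr2v, (mem_cen.1 (F.inv.le hpA)).2 _ hgs, cj_inv_cancel]
  have hr2z : cj r2 z = z := by
    rw [hr2v, hgz', hzc p (F.mem_S hpA)]
    conv_lhs => rw [← hgz', cj_inv_cancel]
  have hr2ab : cj r2 (a * b) = a * b := by
    rw [hr2v, ← hV, cj_eq_self.2 (F.comm p hpA V hVA), hV, cj_inv_cancel]
  have hgV : cj g⁻¹ (V ^ q) = t := by rw [map_pow, hV, cj_inv_cancel, ht]
  have hpy : cj p y = d⁻¹ * y := by
    calc cj p y = (cj y p * p⁻¹)⁻¹ * y := by simp only [cj_apply]; group
      _ = _ := by rw [hd]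
  have hginv_z : cj g⁻¹ z = z := by conv_lhs => rw [← hgz', cj_inv_cancel]
  have hts : t * s = s * t := (cj_eq_self.1 hst).symm
  have hese : e⁻¹ * s * e = s * z := by
    calc e⁻¹ * s * e = s * cj s⁻¹ e⁻¹ * e := by rw [cj_apply]; group
      _ = _ := by rw [pow_two_cases O.ss, map_inv, hse, inv_inv, mul_assoc, he2]
  have hsz : s * z = z * s := cj_eq_self.1 (hzc s O.hs)
  have hzt : z * t = t * z := F.comm z (F.le hzU) t htA
  have hzi : z⁻¹ = z := pow_two_cases (H.sq z hzU)
  have hti : t⁻¹ = z * t := inv_eq_of_mul_eq_one_right (by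
    rw [← mul_assoc, ← hzt, mul_assoc, ht2, H.sq z hzU])
  have hr2e : cj r2 e = t⁻¹ * s * e ∨ cj r2 e = t⁻¹ * (z * s) * e := by
    have e1 : d = V ^ q * w := by rw [hw, mul_inv_cancel_left]
    rw [hr2v, ← hy, hpy, map_mul, map_inv (cj g⁻¹) d, e1, map_mul, hgV, hy, cj_inv_cancel]
    rcases H.cases hgz hgs hgz1 hgs1 hgne hwU with h1 | h1 | h1 | h1
    · exact absurd h1 hwne.1
    · exact absurd (h1.trans hgz') hwne.2
    · left
      rw [h1, cj_inv_cancel, mul_inv_rev, pow_two_cases O.ss]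
      rw [show s * t⁻¹ = t⁻¹ * s by
        rw [eq_inv_mul_iff_mul_eq, ← mul_assoc, hts, mul_inv_cancel_right]]
    · right
      rw [h1, map_mul, cj_inv_cancel, cj_inv_cancel, mul_inv_rev, mul_inv_rev, pow_two_cases O.ss,
        hzi, hsz]
      rw [show z * s * t⁻¹ = t⁻¹ * (z * s) by
        rw [eq_inv_mul_iff_mul_eq, ← mul_assoc, ← mul_assoc, ← hzt, mul_assoc z t s, hts,
          ← mul_assoc, mul_inv_cancel_right]]
  set r1 := b ^ q with hr1
  have hr1A : r1 ∈ A := A.pow_mem hbA _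
  have hr1s : cj r1 s = e⁻¹ * s := by
    calc cj r1 s = r1 * cj s r1⁻¹ * s := by rw [cj_apply, cj_apply]; group
      _ = e⁻¹ * s := by
          rw [hr1, ← inv_pow, map_pow, map_inv, O.sb,
            ← Commute.mul_pow (F.comm _ hbA _ (inv_mem O.ha)), he, ← inv_pow (a * b⁻¹), mul_inv_rev, inv_inv]
  have hr1fix : ∀ v ∈ A, cj r1 v = v := fun v hv => cj_eq_self.2 (F.comm r1 hr1A v hv)
  obtain ⟨β, hβ⟩ : ∃ v : X, v = r1 * r2 := ⟨_, rfl⟩
  obtain ⟨j, hj⟩ : ∃ v : X, v = s * t := ⟨_, rfl⟩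
  have hβz : cj β z = z := by rw [hβ, cj_mul, hr2z, hr1fix z (F.le hzU)]
  have hβab : cj β (a * b) = a * b := by rw [hβ, cj_mul, hr2ab, hr1fix _ hab]
  have hβj : cj β j = z * (e * j) := by
    have hr2t : cj r2 t = t := by rw [ht, map_pow, hr2ab]
    rw [hj, hβ, cj_mul, map_mul, hr2s, hr2t, map_mul, hr1s, hr1fix t htA]
    have h1 : e⁻¹ = z * e := inv_eq_of_mul_eq_one_right (by
      rw [← mul_assoc, F.comm e heA z (F.le hzU), mul_assoc, he2, H.sq z hzU])
    rw [h1]; group
  have hβe : cj β e = j ∨ cj β e = z * j := by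
    have hone : cj r1 (t⁻¹ * s * e) = t⁻¹ * (e⁻¹ * s * e) := by
      rw [map_mul, map_mul, hr1s, hr1fix _ (inv_mem htA), hr1fix e heA]; group
    have hval : t⁻¹ * (s * z) = j := by
      rw [hti, hj, hsz, show z * t * (z * s) = z * (t * z) * s by group, ← hzt,
        show z * (z * t) * s = (z * z) * (t * s) by group, H.sq z hzU, one_mul, hts]
    rcases hr2e with h1 | h1
    · left
      rw [hβ, cj_mul, h1, hone, hese, hval]
    · right
      rw [hβ, cj_mul, h1, show t⁻¹ * (z * s) * e = (t⁻¹ * z) * (s * e) by group,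
        show t⁻¹ * z = z * t⁻¹ from (F.comm _ (inv_mem htA) _ (F.le hzU)),
        show z * t⁻¹ * (s * e) = z * (t⁻¹ * s * e) by group, map_mul, hone, hese, hval,
        hr1fix z (F.le hzU)]
  -- the involution centralising the quaternion group
  obtain ⟨x', hx'⟩ : ∃ v : X, v = x * s * e * (a * b) := ⟨_, rfl⟩
  have habe : cj (a * b) e = e := cj_eq_self.2 (F.comm _ hab e heA)
  have hab_ab : cj (a * b) (a * b) = a * b := cj_eq_self.2 rfl
  have hee : cj e e = e := cj_eq_self.2 rfl
  have heab : cj e (a * b) = a * b := cj_eq_self.2 (F.comm e heA _ hab)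
  have hx'4 : ∀ v, cj x' v = cj x (cj s (cj e (cj (a * b) v))) := fun v => by
    rw [hx']; simp only [cj_apply]; group
  have hx'e : cj x' e = e := by
    rw [hx'4, habe, hee, hse, map_inv (cj x), hxe, inv_inv]
  have hej : cj e j = z * j := by
    rw [hj, map_mul, hes, cj_eq_self.2 (F.comm e heA t htA), mul_assoc]
  have habj : cj (a * b) j = j := by
    rw [hj, map_mul, cj_eq_self.2 (F.comm _ hab t htA), cj_eq_self.2 hsab']
  have hx'j : cj x' j = j := by
    have hsj : cj s j = j := by rw [hj, map_mul, hst, cj_eq_self.2 rfl]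
    rw [hx'4, habj, hej, map_mul, hzc s O.hs, hsj, map_mul, hzc x B.mem.1]
    rw [hj, map_mul, hxt, cj_eq_self.2 hxs, hti, ← mul_assoc s z t, hsz,
      show z * (z * s * t) = (z * z) * (s * t) by group, H.sq z hzU, one_mul]
  have hx'ab : cj x' (a * b) = z * (a * b)⁻¹ := by
    rw [hx'4, hab_ab, heab, hsab, hxab]
  have hxse2 : x * s * e * (x * s * e) = z := by
    have h1 : cj (x * s) e = e := by rw [cj_mul, hse, map_inv, hxe, inv_inv]
    have h2 : x * s * (x * s) = 1 := by
      rw [show x * s * (x * s) = x * (s * x) * s by group, ← hxs,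
        show x * (x * s) * s = (x * x) * (s * s) by group, B.sq, O.ss, one_mul]
    calc x * s * e * (x * s * e) = cj (x * s) e * (x * s * (x * s)) * e := by rw [cj_apply]; group
      _ = z := by rw [h1, h2, mul_one, he2]
  have hx'sq : x' * x' = 1 := by
    calc x' * x' = cj (x * s * e) (a * b) * (x * s * e * (x * s * e)) * (a * b) := by
          rw [hx', cj_apply]; group
      _ = 1 := by
          have : cj (x * s * e) (a * b) = z * (a * b)⁻¹ := by simp only [cj_mul, heab, hsab, hxab]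
          rw [this, hxse2, mul_assoc z, F.comm _ (inv_mem hab) z (F.le hzU), ← mul_assoc z z,
            H.sq z hzU, one_mul, inv_mul_cancel]
  have hx'S : x' ∈ (S : Subgroup X) := hx' ▸
    mul_mem (mul_mem (mul_mem B.mem.1 O.hs) (F.mem_S heA)) (F.mem_S hab)
  have hx'C : x' ∉ cen S U := fun hC => by
    have h1 : x * s * e * (a * b) ∈ cen S U := hx' ▸ hC
    rw [(cen S U).mul_mem_cancel_right (F.inv.le hab), (cen S U).mul_mem_cancel_right (F.inv.le heA),
      (cen S U).mul_mem_cancel_left B.mem] at h1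
    exact O.notC h1
  -- the subgroup preserving the cyclic and centralising the quaternion part
  have hzab : ∀ {r}, cj r (a * b) = a * b ∨ cj r (a * b) = z * (a * b)⁻¹ → cj r z = z := by
    intro r hr
    rcases hr with h1 | h1 <;> rw [← habz, map_pow, h1]
    rw [Commute.mul_pow (F.comm _ (F.le hzU) _ (inv_mem hab)), inv_pow, habz, hzi,
      ← Nat.sub_add_cancel (show 1 ≤ n - 1 by omega), pow_succ', pow_mul, pow_two z, H.sq z hzU,
      one_pow, one_mul]
  have hcomp : ∀ {r r'}, cj r z = z → cj r (a * b) = z * (a * b)⁻¹ → cj r' (a * b) = z * (a * b)⁻¹ →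
      cj (r * r') (a * b) = a * b := by
    intro r r' hrz h1 h2
    rw [cj_mul, h2, map_mul, map_inv, hrz, h1, mul_inv_rev, inv_inv, hzi,
      F.comm _ hab z (F.le hzU), ← mul_assoc, H.sq z hzU, one_mul]
  let D : Subgroup X :=
    { carrier := {r | cj r e = e ∧ cj r j = j ∧ (cj r (a * b) = a * b ∨ cj r (a * b) = z * (a * b)⁻¹)}
      one_mem' := ⟨cj_one e, cj_one j, Or.inl (cj_one _)⟩
      mul_mem' := fun {r r'} hr hr' => ⟨by rw [cj_mul, hr'.1, hr.1], by rw [cj_mul, hr'.2.1, hr.2.1], by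
        rcases hr'.2.2 with h2 | h2
        · rw [cj_mul, h2]; exact hr.2.2
        · rcases hr.2.2 with h1 | h1
          · right; rw [cj_mul, h2, map_mul, map_inv, hzab hr.2.2, h1]
          · exact Or.inl (hcomp (hzab hr.2.2) h1 h2)⟩
      inv_mem' := fun {r} hr => ⟨by conv_lhs => rw [← hr.1, cj_inv_cancel],
        by conv_lhs => rw [← hr.2.1, cj_inv_cancel], by
        rcases hr.2.2 with h1 | h1
        · left; conv_lhs => rw [← h1, cj_inv_cancel]
        · right
          have h3 := congrArg (cj r⁻¹) h1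
          rw [cj_inv_cancel, map_mul, map_inv (cj r⁻¹) (a * b)] at h3
          have h4 : cj r⁻¹ z = z := by conv_lhs => rw [← hzab hr.2.2, cj_inv_cancel]
          rw [h4] at h3
          rw [eq_mul_inv_iff_mul_eq] at h3
          rw [← h3]
          calc cj r⁻¹ (a * b) = ((a * b)⁻¹ * (a * b)) * cj r⁻¹ (a * b) := by group
            _ = (a * b)⁻¹ * z := by rw [mul_assoc, h3]
            _ = (a * b * cj r⁻¹ (a * b)) * (a * b)⁻¹ := by rw [h3, F.comm _ (inv_mem hab) z (F.le hzU)]⟩ }
  -- bound on the 2-subgroups centralising the quaternion and cyclic part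
  have hbound : ∀ R : Subgroup X, IsPGroup 2 R →
      (∀ r ∈ R, cj r e = e ∧ cj r j = j ∧ cj r (a * b) = a * b) → Nat.card R ≤ 2 ^ n := by
    intro R hR hfix
    have hrs : ∀ r ∈ R, cj r s = s := by
      intro r hr
      obtain ⟨h1, h2, h3⟩ := hfix r hr
      have h4 : cj r t = t := by rw [ht, map_pow, h3]
      have h5 : s = j * t⁻¹ := by rw [hj, mul_inv_cancel_right]
      rw [h5, map_mul, map_inv, h2, h4]
    set W : Subgroup X := Subgroup.closure {e, a * b}
    have hWA : W ≤ A := (Subgroup.closure_le _).2 (by rintro v (rfl | rfl) <;> assumption)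
    have hRW : R ≤ normalizer (W : Set X) := fun r hr => by
      have hle : W ≤ centralizer ({r} : Set X) := by
        rw [Subgroup.closure_le]
        rintro v (rfl | rfl)
        · exact mem_centralizer_singleton_iff.2 (cj_eq_self.1 (hfix r hr).1).symm
        · exact mem_centralizer_singleton_iff.2 (cj_eq_self.1 (hfix r hr).2.2).symm
      have hc : ∀ v ∈ W, r * v * r⁻¹ = v := fun v hv => by
        rw [← mem_centralizer_singleton_iff.1 (hle hv), mul_inv_cancel_right]
      refine mem_normalizer_iff.2 fun v => ⟨fun hv => by rw [hc v hv]; exact hv, fun hv => ?_⟩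
      have h6 := hc _ hv
      have : r * v * r⁻¹ = v := mul_left_cancel (a := r) (mul_right_cancel (b := r⁻¹) h6)
      rwa [this] at hv
    have hnorm : (R ⊔ W).map (cj g).toMonoidHom ≤ normalizer (U : Set X) := by
      rw [Subgroup.map_le_iff_le_comap, sup_le_iff]
      refine ⟨fun r hr => ?_, fun w hw => ?_⟩
      · refine mem_normalizer_iff.2 fun v => ?_
        have hfixU : ∀ v ∈ U, cj (cj g r) v = v := fun v hv => by
          refine H.two_fixed hgz hgs hgz1 hgs1 hgne ?_ ?_ hv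
          · rw [show cj (cj g r) (cj g z) = cj g (cj r z) by simp only [cj_apply]; group,
              hzab (Or.inl (hfix r hr).2.2)]
          · rw [show cj (cj g r) (cj g s) = cj g (cj r s) by simp only [cj_apply]; group, hrs r hr]
        refine ⟨fun hv => by rw [← cj_apply]; exact (hfixU v hv).symm ▸ hv, fun hv => ?_⟩
        have h6 := hfixU _ hv
        have h7 : cj (cj g r) v = v := (cj (cj g r)).injective h6
        exact h7 ▸ hv
      · refine mem_normalizer_iff.2 fun v => ?_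
        have hwS : cj g w ∈ (S : Subgroup X) := by
          induction hw using Subgroup.closure_induction with
          | mem w hw =>
            rcases hw with rfl | rfl
            · exact hgeS
            · exact hV ▸ F.mem_S hVA
          | one => rw [map_one]; exact one_mem _
          | mul _ _ _ _ h1 h2 => rw [map_mul]; exact mul_mem h1 h2
          | inv _ _ h1 => rw [map_inv]; exact inv_mem h1
        refine ⟨fun hv => H.norm _ hwS v hv, fun hv => ?_⟩
        simp only [MulEquiv.coe_toMonoidHom] at hv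
        have := H.norm _ (inv_mem hwS) _ hv
        rwa [show cj (cj g w)⁻¹ ((cj g w) * v * (cj g w)⁻¹) = v by
          rw [← cj_apply, cj_inv_cancel]] at this
    obtain ⟨m, hm, hmS⟩ := exists_conj_into S (H := normalizer (U : Set X))
      (fun r hr => mem_normalizer_iff.2 fun y => ⟨fun hy => H.norm r hr y hy, fun hy => by
        have := H.norm r⁻¹ (inv_mem hr) _ hy
        rwa [← cj_apply, cj_inv_cancel] at this⟩) hnorm
      ((hR.to_sup_of_normal_right' ((S.2.to_le (fun w hw => F.mem_S (hWA hw))) : IsPGroup 2 W) hRW).map _)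
    set g' := m * g
    have hg'U : ∀ v, cj g v ∈ U → cj g' v ∈ U := fun v hv => by
      rw [cj_mul]; exact (mem_normalizer_iff.1 hm _).1 hv
    have hg'S : ∀ v ∈ R ⊔ W, cj g' v ∈ (S : Subgroup X) := fun v hv => by
      rw [cj_mul]; exact hmS _ ⟨v, hv, rfl⟩
    have hg'z := hg'U z hgz
    have hg's := hg'U s hgs
    have hg'z1 : cj g' z ≠ 1 := fun e1 => hz1 (by rw [← cj_inv_cancel g' z, e1, map_one])
    have hg's1 : cj g' s ≠ 1 := fun e1 => O.notC (by
      rw [← cj_inv_cancel g' s, e1, map_one]; exact one_mem _)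
    have hg'ne : cj g' z ≠ cj g' s := fun e1 => O.notC ((cj g').injective e1 ▸ H.le_cen hzU)
    set y' := cj g' e
    have hy'S : y' ∈ (S : Subgroup X) := hg'S e (mem_sup_right (Subgroup.subset_closure (Or.inl rfl)))
    have hy'C : y' ∉ cen S U := fun hC => by
      have h1 := (mem_cen.1 hC).2 _ hg's
      rw [show cj (cj g' e) (cj g' s) = cj g' (cj e s) by simp only [cj_apply]; group, hes] at h1
      exact hz1 (mul_eq_right.1 ((cj g').injective h1))
    set V' := cj g' (a * b)
    have hV'A : V' ∈ A := by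
      refine B.mem_of_top (mem_cen.2 ⟨hg'S _ (mem_sup_right (Subgroup.subset_closure (Or.inr rfl))),
        fun v hv => H.two_fixed hg'z hg's hg'z1 hg's1 hg'ne ?_ ?_ hv⟩) ?_
      · rw [show cj (cj g' (a * b)) (cj g' z) = cj g' (cj (a * b) z) by simp only [cj_apply]; group,
          hzc _ (F.mem_S hab)]
      · rw [show cj (cj g' (a * b)) (cj g' s) = cj g' (cj (a * b) s) by simp only [cj_apply]; group,
          cj_eq_self.2 hsab']
      · rw [← map_pow, habz]; exact hg'z1
    have hR'A : ∀ r ∈ R, cj g' r ∈ A := by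
      intro r hr
      have hC : cj g' r ∈ cen S U := mem_cen.2 ⟨hg'S r (mem_sup_left hr), fun v hv =>
        H.two_fixed hg'z hg's hg'z1 hg's1 hg'ne
          (by rw [show cj (cj g' r) (cj g' z) = cj g' (cj r z) by simp only [cj_apply]; group,
            hzab (Or.inl (hfix r hr).2.2)])
          (by rw [show cj (cj g' r) (cj g' s) = cj g' (cj r s) by simp only [cj_apply]; group, hrs r hr])
          hv⟩
      by_contra hrA
      have h1 : cj (cj g' r) V' = V' := by
        rw [show cj (cj g' r) (cj g' (a * b)) = cj g' (cj r (a * b)) by simp only [cj_apply]; group,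
          (hfix r hr).2.2]
      rw [B.cj_coset hC hrA hV'A] at h1
      have h2 := B.cen_x hV'A h1
      refine hg'z1 ?_
      have h3 : cj g' z = V' ^ 2 ^ (n - 1) := by rw [← map_pow, habz]
      rw [h3, ← Nat.sub_add_cancel (show 1 ≤ n - 1 by omega), pow_succ', pow_mul, pow_two,
        H.sq _ h2, one_pow]
    -- the fixed points of `y'` in `A`
    have hc := H.mul_mem_cen O.hs O.notC hy'S hy'C
    have hact : ∀ v ∈ A, cj y' v = cj s v ∨ cj y' v = cj s (cj x v) := by
      intro v hv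
      have h1 : cj y' v = cj s (cj (s * y') v) := by
        rw [← cj_mul, ← mul_assoc, O.ss, one_mul]
      by_cases hcA : s * y' ∈ A
      · left; rw [h1, cj_eq_self.2 (F.comm _ hcA v hv)]
      · right; rw [h1, B.cj_coset hc hcA hv]
    have hpow_fix : ∀ i : ℤ, cj y' (a ^ i) = a ^ i → a ^ i = 1 := by
      intro i hi
      have hu2 : u * u = 1 := H.sq u (F.top_mem O.ha)
      obtain ⟨i', hi'⟩ : ∃ i' : ℤ, cj y' (a ^ i) = b ^ i' := by
        rcases hact (a ^ i) (A.zpow_mem O.ha i) with h1 | h1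
        · exact ⟨i, by rw [h1, map_zpow]⟩
        · refine ⟨((2 ^ (n - 1) : ℕ) : ℤ) * i - i, ?_⟩
          rw [h1, map_zpow, map_zpow, hxa, map_mul, map_inv, ← hbu, Commute.mul_zpow
            (F.comm _ (A.pow_mem hbA _) _ (inv_mem hbA)), zpow_sub, inv_zpow, ← zpow_natCast,
            ← zpow_mul]
      rw [hi] at hi'
      have h2 := O.indep i (-i') (by rw [hi', zpow_neg, mul_inv_cancel])
      obtain ⟨k, hk⟩ := h2.1
      have h2n : a ^ ((2 : ℤ) ^ n) = 1 := by exact_mod_cast F.expo a O.ha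
      rw [hk, zpow_mul, h2n, one_zpow]
    have hspan : ∀ r : R, ∃ i j : ℕ, cj g' (r : X) = a ^ i * b ^ j := fun r => O.span _ (hR'A r r.2)
    choose fi fj hf using hspan
    have hfixy : ∀ r : R, cj y' (cj g' (r : X)) = cj g' (r : X) := fun r => by
      rw [show cj (cj g' e) (cj g' (r : X)) = cj g' (cj e (r : X)) by simp only [cj_apply]; group,
        cj_eq_self.2 (cj_eq_self.1 (hfix r r.2).1).symm]
    let f : R → ZMod (2 ^ n) := fun r => (fj r : ZMod (2 ^ n))
    have hfinj : Function.Injective f := by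
      intro r r' hrr
      have hmod : fj r % 2 ^ n = fj r' % 2 ^ n := (ZMod.natCast_eq_natCast_iff' _ _ _).1 hrr
      have hb' : b ^ fj r = b ^ fj r' := by
        have hbn := F.expo b hbA
        rw [← Nat.div_add_mod (fj r) (2 ^ n), ← Nat.div_add_mod (fj r') (2 ^ n), pow_add, pow_add,
          pow_mul, pow_mul, hbn, one_pow, one_pow, hmod]
      have hquot : cj g' (r : X) * (cj g' (r' : X))⁻¹ = a ^ ((fi r : ℤ) - fi r') := by
        rw [hf r, hf r', hb', mul_inv_rev, zpow_sub, zpow_natCast, zpow_natCast]; group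
      have h1 := hpow_fix _ (by rw [← hquot, map_mul, map_inv, hfixy, hfixy])
      rw [← hquot, mul_inv_eq_one] at h1
      exact Subtype.ext ((cj g').injective h1)
    have h7 := Nat.card_le_card_of_injective f hfinj
    rwa [Nat.card_zmod] at h7
  -- a Sylow subgroup of `D`
  have hord : orderOf (a * b) = 2 ^ n := by
    rw [show n = n - 1 + 1 by omega]
    refine orderOf_eq_prime_pow (by rw [habz]; exact hz1) ?_
    rw [show n - 1 + 1 = n by omega]; exact F.expo _ hab
  set ab := a * b with habdef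
  have habD : ab ∈ D := ⟨habe, habj, Or.inl hab_ab⟩
  have hx'D : x' ∈ D := ⟨hx'e, hx'j, Or.inr hx'ab⟩
  have hx'zp : ∀ i : ℤ, cj x' (ab ^ i) ∈ zpowers ab := by
    intro i
    rw [map_zpow, hx'ab]
    refine zpow_mem (mul_mem ?_ (inv_mem (mem_zpowers _))) i
    rw [← habz]; exact pow_mem (mem_zpowers _) _
  let T2 : Subgroup X :=
    { carrier := {r | r ∈ zpowers ab ∨ r * x' ∈ zpowers ab}
      one_mem' := Or.inl (one_mem _)
      mul_mem' := by
        have hswap : ∀ {r}, r ∈ zpowers ab → cj x' r ∈ zpowers ab := fun {r} hr => by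
          obtain ⟨i, rfl⟩ := mem_zpowers_iff.1 hr; exact hx'zp i
        rintro r r' (hr | hr) (hr' | hr')
        · exact Or.inl (mul_mem hr hr')
        · exact Or.inr (by rw [mul_assoc]; exact mul_mem hr hr')
        · refine Or.inr ?_
          have e1 : r * r' * x' = (r * x') * cj x'⁻¹ r' := by rw [cj_apply]; group
          rw [e1, pow_two_cases hx'sq]; exact mul_mem hr (hswap hr')
        · refine Or.inl ?_
          have e1 : r * r' = (r * x') * cj x'⁻¹ (r' * x') * (x'⁻¹ * x'⁻¹) := by rw [cj_apply]; group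
          rw [e1, pow_two_cases hx'sq, hx'sq, mul_one]; exact mul_mem hr (hswap hr')
      inv_mem' := by
        rintro r (hr | hr)
        · exact Or.inl (inv_mem hr)
        · refine Or.inr ?_
          have e1 : r⁻¹ * x' = cj x' (r * x')⁻¹ * (x' * x') := by rw [cj_apply]; group
          obtain ⟨i, hi⟩ := mem_zpowers_iff.1 hr
          rw [e1, hx'sq, mul_one, ← hi, ← zpow_neg]; exact hx'zp _ }
  have hT2D : ∀ r ∈ T2, r ∈ D := by
    rintro r (hr | hr)
    · exact zpowers_le.2 habD hr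
    · have := mul_mem (zpowers_le.2 habD hr) (inv_mem hx'D)
      rwa [mul_inv_cancel_right] at this
  have hT2S : ∀ r ∈ T2, r ∈ (S : Subgroup X) := by
    rintro r (hr | hr)
    · exact zpowers_le.2 (F.mem_S hab) hr
    · have := mul_mem (zpowers_le.2 (F.mem_S hab) hr) (inv_mem hx'S)
      rwa [mul_inv_cancel_right] at this
  have hT2card : 2 ^ n * 2 ≤ Nat.card T2 := by
    let f : zpowers ab × Bool → T2 := fun p => ⟨(p.1 : X) * (if p.2 then x' else 1), by
      split_ifs
      · exact Or.inr (by rw [mul_assoc, hx'sq, mul_one]; exact p.1.2)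
      · exact Or.inl (by rw [mul_one]; exact p.1.2)⟩
    have hf : Function.Injective f := by
      rintro ⟨r, k⟩ ⟨r', k'⟩ eq
      have eq' : (r : X) * (if k then x' else 1) = (r' : X) * (if k' then x' else 1) :=
        congrArg Subtype.val eq
      have hC : ∀ r : zpowers ab, (r : X) ∈ cen S U := fun r => zpowers_le.2 (F.inv.le hab) r.2
      cases k <;> cases k' <;> simp only [Bool.false_eq_true, if_false, if_true, mul_one] at eq'
      · rw [Subtype.ext eq']
      · exact absurd (((cen S U).mul_mem_cancel_left (hC r')).1 (eq' ▸ hC r)) hx'C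
      · exact absurd (((cen S U).mul_mem_cancel_left (hC r)).1 (eq'.symm ▸ hC r')) hx'C
      · rw [Subtype.ext (mul_right_cancel eq')]
    have h7 := Nat.card_le_card_of_injective f hf
    rwa [Nat.card_prod, Nat.card_zpowers, hord, Nat.card_eq_fintype_card (α := Bool),
      Fintype.card_bool] at h7
  obtain ⟨P, hP⟩ := ((S.2.to_le hT2S : IsPGroup 2 T2).comap_of_injective D.subtype
    D.subtype_injective).exists_le_sylow
  set P' := (P : Subgroup D).map D.subtype with hP'
  have hPT : P' = T2 := by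
    have hle : T2 ≤ P' := fun r hr => ⟨⟨r, hT2D r hr⟩, hP hr, rfl⟩
    refine (Subgroup.eq_of_le_of_card_ge hle (le_trans ?_ hT2card)).symm
    let R0 : Subgroup X :=
      { carrier := {r | r ∈ P' ∧ cj r ab = ab}
        one_mem' := ⟨one_mem _, cj_one _⟩
        mul_mem' := fun {p p'} hp hp' => ⟨mul_mem hp.1 hp'.1, by rw [cj_mul, hp'.2, hp.2]⟩
        inv_mem' := fun {p} hp => ⟨inv_mem hp.1, by conv_lhs => rw [← hp.2, cj_inv_cancel]⟩ }
    have hPD : ∀ r ∈ P', r ∈ D := fun r hr => Subgroup.map_subtype_le _ hr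
    have hR0 : Nat.card R0 ≤ 2 ^ n := hbound R0 ((P.2.map D.subtype).to_le fun r hr => hr.1)
      fun r hr => ⟨(hPD r hr.1).1, (hPD r hr.1).2.1, hr.2⟩
    obtain ⟨r0, hr0, hr0ab⟩ : ∃ r0 ∈ P', cj r0 ab = z * ab⁻¹ :=
      ⟨x', hle (Or.inr (by rw [hx'sq]; exact one_mem _)), hx'ab⟩
    let f : P' → R0 × Bool := fun r =>
      if hr : cj (r : X) ab = ab then (⟨r, r.2, hr⟩, false)
      else (⟨r0 * r, mul_mem hr0 r.2, hcomp (hzab (Or.inr hr0ab)) hr0ab
        ((hPD r r.2).2.2.resolve_left hr)⟩, true)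
    have hfi : Function.Injective f := fun p p' eq => by
      simp only [f] at eq
      split_ifs at eq <;>
        simp only [Prod.mk.injEq, Bool.false_eq_true, Bool.true_eq_false, and_false, and_true] at eq
      · exact Subtype.ext (congrArg (fun v : R0 => (v : X)) eq)
      · exact Subtype.ext (mul_left_cancel (congrArg (fun v : R0 => (v : X)) eq))
    have h7 := Nat.card_le_card_of_injective f hfi
    rw [Nat.card_prod, Nat.card_eq_fintype_card (α := Bool), Fintype.card_bool] at h7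
    exact h7.trans (Nat.mul_le_mul_right _ hR0)
  -- `β x' β⁻¹` is conjugate to `x'` in the centraliser of the quaternion and cyclic part
  obtain ⟨x'', hx''⟩ : ∃ v : X, v = cj β x' := ⟨_, rfl⟩
  have hx''j : cj x'' j = j := by
    have h1 : cj x' (cj β⁻¹ j) = cj β⁻¹ j := by
      have hpre : cj β⁻¹ j = e ∨ cj β⁻¹ j = z * e := by
        have hbz : cj β⁻¹ z = z := by conv_lhs => rw [← hβz, cj_inv_cancel]
        rcases hβe with h1 | h1
        · left; rw [← h1, cj_inv_cancel]
        · right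
          have h2 : cj β e = z * j := h1
          have : j = z * cj β e := by rw [h2, ← mul_assoc, H.sq z hzU, one_mul]
          rw [this, map_mul, cj_inv_cancel, hbz]
      rcases hpre with h2 | h2 <;> rw [h2]
      · exact hx'e
      · rw [map_mul, hzc x' hx'S, hx'e]
    calc cj x'' j = cj β (cj x' (cj β⁻¹ j)) := by rw [hx'']; simp only [cj_apply]; group
      _ = j := by rw [h1, cj_cancel_inv]
  have hx''ej : cj x'' (e * j) = e * j := by
    have h1 : cj β⁻¹ (e * j) = z * j := by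
      have hbz : cj β⁻¹ z = z := by conv_lhs => rw [← hβz, cj_inv_cancel]
      have : e * j = z * cj β j := by rw [hβj, ← mul_assoc, H.sq z hzU, one_mul]
      rw [this, map_mul, cj_inv_cancel, hbz]
    calc cj x'' (e * j) = cj β (cj x' (cj β⁻¹ (e * j))) := by rw [hx'']; simp only [cj_apply]; group
      _ = e * j := by rw [h1, map_mul, hzc x' hx'S, hx'j, ← h1, cj_cancel_inv]
  have hx''e : cj x'' e = e := by
    rw [map_mul, hx''j] at hx''ej
    exact mul_right_cancel hx''ej
  have hβiab : cj β⁻¹ ab = ab := by conv_lhs => rw [← hβab, cj_inv_cancel]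
  have hx''ab : cj x'' ab = z * ab⁻¹ := by
    calc cj x'' ab = cj β (cj x' (cj β⁻¹ ab)) := by rw [hx'']; simp only [cj_apply]; group
      _ = _ := by rw [hβiab, hx'ab, map_mul, map_inv, hβz, hβab]
  have hx''D : x'' ∈ D := ⟨hx''e, hx''j, Or.inr hx''ab⟩
  have hx''2 : x'' * x'' = 1 := by rw [hx'', ← map_mul, hx'sq, map_one]
  have hx''p : IsPGroup 2 (zpowers (⟨x'', hx''D⟩ : D)) := by
    obtain ⟨i, -, hi⟩ := (Nat.dvd_prime_pow Nat.prime_two).1
      (orderOf_dvd_of_pow_eq_one (show (⟨x'', hx''D⟩ : D) ^ 2 ^ 1 = 1 from Subtype.ext (by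
        rw [Subgroup.coe_pow, pow_one, pow_two]; exact hx''2)))
    exact IsPGroup.of_card (n := i) (by rw [Nat.card_zpowers, hi])
  obtain ⟨P1, hP1⟩ := hx''p.exists_le_sylow
  obtain ⟨k0, hk0⟩ := MulAction.exists_smul_eq D P1 P
  have hk0T : cj (k0 : X) x'' ∈ T2 := by
    rw [← hPT]
    refine ⟨k0 * ⟨x'', hx''D⟩ * k0⁻¹, ?_, rfl⟩
    rw [← hk0]
    exact Subgroup.smul_mem_pointwise_smul _ (MulAut.conj k0) (P1 : Subgroup D) (hP1 (mem_zpowers _))
  have habne : z * ab⁻¹ ≠ ab := fun h1 => by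
    have h2 : ab ^ 2 = z := by
      rw [pow_two]
      nth_rewrite 1 [← h1]
      rw [inv_mul_cancel_right]
    have h3 : ab ^ 4 = 1 := by rw [show 4 = 2 * 2 from rfl, pow_mul, h2, pow_two, H.sq z hzU]
    have h4 := Nat.le_of_dvd (by norm_num) (orderOf_dvd_of_pow_eq_one h3)
    rw [hord] at h4
    have : 2 ^ 3 ≤ 2 ^ n := Nat.pow_le_pow_right (by norm_num) hn
    omega
  have hk0i : ∀ v, cj (cj (k0 : X) x'') v = cj (k0 : X) (cj x'' (cj (k0 : X)⁻¹ v)) := fun v => by
    simp only [cj_apply]; group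
  have hflip : cj (cj (k0 : X) x'') ab = z * ab⁻¹ := by
    have hk0' := k0⁻¹.2
    rw [hk0i]
    rcases hk0'.2.2 with h1 | h1 <;> rw [Subgroup.coe_inv] at h1 <;> rw [h1]
    · rw [hx''ab, map_mul, map_inv, hzab k0.2.2.2]
      rcases k0.2.2.2 with h2 | h2
      · rw [h2]
      · have h3 := congrArg (cj (k0 : X)) h1
        rw [cj_cancel_inv, h2] at h3
        exact absurd h3.symm habne
    · rw [map_mul, map_inv, hzab (Or.inr hx''ab), hx''ab, mul_inv_rev, inv_inv, hzi,
        F.comm ab hab z (F.le hzU), ← mul_assoc, H.sq z hzU, one_mul]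
      rcases k0.2.2.2 with h2 | h2
      · have h3 := congrArg (cj (k0 : X)) h1
        rw [cj_cancel_inv, map_mul, map_inv, hzab k0.2.2.2, h2] at h3
        exact absurd h3.symm habne
      · exact h2
  obtain ⟨i, hi⟩ : ∃ i : ℤ, cj (k0 : X) x'' = ab ^ i * x' := by
    rcases hk0T with hr | hr
    · exfalso
      obtain ⟨i, hi⟩ := mem_zpowers_iff.1 hr
      rw [← hi, cj_eq_self.2 ((Commute.refl ab).zpow_left i).eq] at hflip
      exact habne hflip.symm
    · obtain ⟨i, hi⟩ := mem_zpowers_iff.1 hr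
      exact ⟨i, by rw [hi, mul_assoc, hx'sq, mul_one]⟩
  have hi1 : z ^ i = 1 := by
    have h1 : cj (k0 : X) x'' * cj (k0 : X) x'' = 1 := by rw [← map_mul, hx''2, map_one]
    rw [hi, show ab ^ i * x' * (ab ^ i * x') = ab ^ i * cj x' (ab ^ i) * (x' * x') by
      rw [cj_apply]; group, hx'sq, mul_one, map_zpow, hx'ab,
      ← Commute.mul_zpow (F.comm _ hab _ (mul_mem (F.le hzU) (inv_mem hab))),
      F.comm z (F.le hzU) _ (inv_mem hab), ← mul_assoc, mul_inv_cancel, one_mul] at h1
    exact h1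
  obtain ⟨l, hl⟩ : (2 : ℤ) ∣ i := by
    rcases Int.emod_two_eq_zero_or_one i with h1 | h1
    · exact Int.dvd_of_emod_eq_zero h1
    · exfalso
      rw [← Int.mul_ediv_add_emod i 2, zpow_add, zpow_mul, zpow_two, H.sq z hzU, one_zpow, h1, one_mul,
        zpow_one] at hi1
      exact hz1 hi1
  obtain ⟨mm, hmm⟩ : ∃ mm : ℤ, ab ^ (2 * l) = ab ^ (2 * mm) * z ^ mm := by
    rcases Int.emod_two_eq_zero_or_one l with h1 | h1
    · refine ⟨l, ?_⟩
      have : z ^ l = 1 := by
        rw [← Int.mul_ediv_add_emod l 2, zpow_add, zpow_mul, zpow_two, H.sq z hzU, one_zpow, h1,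
          one_mul, zpow_zero]
      rw [this, mul_one]
    · refine ⟨l + q, ?_⟩
      have h2 : z ^ (q : ℤ) = 1 := by
        rw [zpow_natCast, hq, show n - 2 = n - 3 + 1 by omega, pow_succ', pow_mul, pow_two,
          H.sq z hzU, one_pow]
      have h3 : z ^ l = z := by
        rw [← Int.mul_ediv_add_emod l 2, zpow_add, zpow_mul, zpow_two, H.sq z hzU, one_zpow, h1,
          one_mul, zpow_one]
      rw [mul_add, zpow_add, zpow_add z l, h2, h3, mul_one, show (2 : ℤ) * q = ((2 ^ (n - 1) : ℕ) : ℤ) by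
        rw [← hqq]; push_cast; ring, zpow_natCast, habz, mul_assoc, H.sq z hzU, mul_one]
  have hconj : cj (ab ^ mm) x' = ab ^ i * x' := by
    have c0 : Commute z ab := F.comm z (F.le hzU) ab hab
    have hcz : Commute z⁻¹ ab := c0.inv_left
    calc cj (ab ^ mm) x' = ab ^ mm * cj x' (ab ^ mm)⁻¹ * x' := by rw [cj_apply, cj_apply]; group
      _ = ab ^ mm * (z ^ mm * ab ^ mm) * x' := by
          rw [map_inv, map_zpow, hx'ab, ← inv_zpow (z * ab⁻¹) mm, mul_inv_rev, inv_inv,
            F.comm ab hab z⁻¹ (inv_mem (F.le hzU)), hcz.mul_zpow, hzi]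
      _ = ab ^ mm * (ab ^ mm * z ^ mm) * x' := by
          rw [(c0.zpow_zpow mm mm).eq]
      _ = ab ^ (2 * mm) * z ^ mm * x' := by rw [two_mul, zpow_add]; group
      _ = ab ^ i * x' := by rw [← hmm, hl]
  set k1 := (k0 : X)⁻¹ * ab ^ mm with hk1
  have hk1D : k1 ∈ D := mul_mem (inv_mem k0.2) (D.zpow_mem habD mm)
  have hk1x : cj k1 x' = x'' := by rw [hk1, cj_mul, hconj, ← hi, cj_inv_cancel]
  obtain ⟨k2, hk2e, hk2j, hk2ab, hk2x⟩ : ∃ k2, cj k2 e = e ∧ cj k2 j = j ∧ cj k2 ab = ab ∧
      cj k2 x' = x'' := by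
    rcases hk1D.2.2 with h1 | h1
    · exact ⟨k1, hk1D.1, hk1D.2.1, h1, hk1x⟩
    · refine ⟨k1 * x', by rw [cj_mul, hx'e, hk1D.1], by rw [cj_mul, hx'j, hk1D.2.1], ?_, ?_⟩
      · exact hcomp (hzab hk1D.2.2) h1 hx'ab
      · rw [cj_mul, cj_eq_self.2 rfl, hk1x]
  obtain ⟨γ, hγ⟩ : ∃ v : X, v = k2⁻¹ * β := ⟨_, rfl⟩
  have hki : ∀ v, cj k2 v = v → cj k2⁻¹ v = v := fun v hv => by conv_lhs => rw [← hv, cj_inv_cancel]
  have hkz : cj k2 z = z := hzab (Or.inl hk2ab)
  have hγx : cj γ x' = x' := by rw [hγ, cj_mul, ← hx'', ← hk2x, cj_inv_cancel]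
  have hγz : cj γ z = z := by rw [hγ, cj_mul, hβz, hki z hkz]
  have hγe : cj γ e = j ∨ cj γ e = z * j := by
    rcases hβe with h1 | h1
    · left; rw [hγ, cj_mul, h1, hki j hk2j]
    · right; rw [hγ, cj_mul, h1, map_mul, hki z hkz, hki j hk2j]
  have hγj : cj γ j = z * (e * j) := by
    rw [hγ, cj_mul, hβj, map_mul, map_mul, hki z hkz, hki e hk2e, hki j hk2j]
  -- move it into `C(U)`
  obtain ⟨m, hmx, hmz, hmx1, hmne, hmS⟩ := O.to_U hx'S hx'C hx'sq (v := a * b⁻¹ * u)
    (mul_mem (mul_mem O.ha (inv_mem hbA)) (F.le (F.top_mem O.ha))) (by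
      rw [Commute.mul_pow (F.comm _ (mul_mem O.ha (inv_mem hbA)) _ (F.le (F.top_mem O.ha))),
        hcab'.mul_pow, inv_pow, hbu, pow_two_cases (by rw [← map_mul, H.sq u (F.top_mem O.ha), map_one]),
        show u ^ 2 ^ (n - 1) = 1 by
          rw [← Nat.sub_add_cancel (show 1 ≤ n - 1 by omega), pow_succ', pow_mul, pow_two,
            H.sq u (F.top_mem O.ha), one_pow], mul_one])
    (by
      refine (cj_eq_self.1 ?_).symm
      have hvA : a * b⁻¹ * u ∈ A := mul_mem (mul_mem O.ha (inv_mem hbA)) (F.le (F.top_mem O.ha))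
      have hui : cj x u = u := (mem_cen.1 B.mem).2 u (F.top_mem O.ha)
      have hbuA : b ^ 2 ^ (n - 1) ∈ A := A.pow_mem hbA _
      rw [hx'4, cj_eq_self.2 (F.comm _ hab _ hvA), cj_eq_self.2 (F.comm _ heA _ hvA)]
      have hui' : u⁻¹ = u := pow_two_cases (H.sq u (F.top_mem O.ha))
      have hxbu : cj x (b ^ 2 ^ (n - 1)) = b ^ 2 ^ (n - 1) :=
        (mem_cen.1 B.mem).2 _ (by rw [hbu]; exact H.norm s O.hs u (F.top_mem O.ha))
      simp only [map_mul, map_inv (cj s), map_inv (cj x)]
      rw [show cj s a = b from rfl, show cj s b = a from O.sb, ← hbu, hxa, hxb, hxbu, mul_inv_rev, inv_inv,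
        hui']
      -- both sides in `A`
      have c1 := F.comm (b ^ 2 ^ (n - 1) * b⁻¹) (mul_mem hbuA (inv_mem hbA)) (a * u)
        (mul_mem O.ha (F.le (F.top_mem O.ha)))
      rw [c1, mul_assoc (a * u), mul_assoc (b ^ 2 ^ (n - 1)) b⁻¹,
        F.comm b⁻¹ (inv_mem hbA) _ hbuA, ← mul_assoc (b ^ 2 ^ (n - 1)) (b ^ 2 ^ (n - 1)),
        show b ^ 2 ^ (n - 1) * b ^ 2 ^ (n - 1) = 1 by rw [hbu, ← map_mul, H.sq u (F.top_mem O.ha), map_one],
        one_mul, mul_assoc a u b⁻¹, F.comm u (F.le (F.top_mem O.ha)) b⁻¹ (inv_mem hbA), ← mul_assoc])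
    (f := x' * j) (by
      have e1 : x' * j = x * (cj s (e * (a * b)) * t) := by
        rw [hx', hj, cj_apply, pow_two_cases O.ss, habdef]; group
      rw [e1]
      exact mul_mem B.mem (F.inv.le (mul_mem (F.cj_mem O.hs (mul_mem heA hab)) htA)))
    (fun hA => B.not_mem (by
      have e1 : x' * j = x * (cj s (e * (a * b)) * t) := by
        rw [hx', hj, cj_apply, pow_two_cases O.ss, habdef]; group
      rw [e1] at hA
      exact (A.mul_mem_cancel_right (mul_mem (F.cj_mem O.hs (mul_mem heA hab)) htA)).1 hA)) (by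
      have h1 : Commute x' j := cj_eq_self.1 hx'j
      exact ((Commute.refl x').mul_left h1.symm).eq)
  rw [← hz] at hmz hmne
  have hmz1 : cj m z ≠ 1 := fun e1 => hz1 (by rw [← cj_inv_cancel m z, e1, map_one])
  have hjS : j ∈ (S : Subgroup X) := hj ▸ mul_mem O.hs (F.mem_S htA)
  have hmC : ∀ v ∈ (S : Subgroup X), cj v x' = x' → cj m v ∈ cen S U := fun v hv hvx => by
    refine mem_cen.2 ⟨hmS v hv (cj_eq_self.1 hvx), fun w hw =>
      H.two_fixed hmz hmx hmz1 hmx1 (Ne.symm hmne) ?_ ?_ hw⟩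
    · rw [show cj (cj m v) (cj m z) = cj m (cj v z) by simp only [cj_apply]; group, hzc v hv]
    · rw [show cj (cj m v) (cj m x') = cj m (cj v x') by simp only [cj_apply]; group, hvx]
  have he' := hmC e (F.mem_S heA) (cj_eq_self.2 (cj_eq_self.1 hx'e).symm)
  have hj' := hmC j hjS (cj_eq_self.2 (cj_eq_self.1 hx'j).symm)
  have hzc' : cj m z ∈ A := F.le hmz
  have hγ' : ∀ w ∈ U, cj (cj m γ) w = w := fun w hw =>
    H.two_fixed hmz hmx hmz1 hmx1 (Ne.symm hmne)
      (by rw [show cj (cj m γ) (cj m z) = cj m (cj γ z) by simp only [cj_apply]; group, hγz])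
      (by rw [show cj (cj m γ) (cj m x') = cj m (cj γ x') by simp only [cj_apply]; group, hγx]) hw
  have hej' : cj (cj m γ) (cj m e) = cj m j ∨ cj (cj m γ) (cj m e) = cj m z * cj m j := by
    rw [show cj (cj m γ) (cj m e) = cj m (cj γ e) by simp only [cj_apply]; group]
    rcases hγe with h1 | h1 <;> rw [h1]
    · exact Or.inl rfl
    · exact Or.inr (map_mul _ _ _)
  have hiff1 : cj m e ∈ A ↔ cj m j ∈ A := by
    rcases hej' with h1 | h1
    · exact B.fusion_sign O.notle hγ' he' hj' h1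
    · rw [B.fusion_sign O.notle hγ' he' (mul_mem (H.le_cen hmz) hj') h1]
      exact A.mul_mem_cancel_left hzc'
  have hiff2 : cj m j ∈ A ↔ cj m e * cj m j ∈ A := by
    have h1 : cj (cj m γ) (cj m j) = cj m z * (cj m e * cj m j) := by
      rw [show cj (cj m γ) (cj m j) = cj m (cj γ j) by simp only [cj_apply]; group, hγj, map_mul,
        map_mul]
    rw [B.fusion_sign O.notle hγ' hj' (mul_mem (H.le_cen hmz) (mul_mem he' hj')) h1]
    exact A.mul_mem_cancel_left hzc'
  have hin : cj m e ∈ A := by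
    by_contra hcon
    have hjn : cj m j ∉ A := fun h1 => hcon (hiff1.2 h1)
    refine hjn (hiff2.2 ?_)
    have h3 := mul_mem ((B.split _ he').resolve_left hcon) (B.split' hj' hjn)
    rwa [show cj m e * x * (x * cj m j) = cj m e * (x * x) * cj m j by group, B.sq, mul_one] at h3
  have hcomm := F.comm _ hin _ (hiff1.1 hin)
  rw [← map_mul, ← map_mul] at hcomm
  have h1 : cj e j = j := cj_eq_self.2 ((cj m).injective hcomm)
  rw [hej] at h1
  exact hz1 (mul_eq_right.1 h1)

end Outer

end Cfsg.Agent.Lib.NoEight59
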