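import Cfsg.Agent.Lib.NoEight59.Core

/-!
# A largest abelian invariant subgroup is homocyclic (S3102, helper59)
-/

set_option autoImplicit false
set_option linter.unusedSectionVars false
set_option linter.style.haveILetI false

namespace Cfsg.Agent.Lib.NoEight59

open Subgroup

variable {X : Type*} [Group X] [Finite X] {S : Sylow 2 X} {U : Subgroup X} {h : X}

/-- Invariance under `S` and `h`. -/
structure Invt (S : Sylow 2 X) (U : Subgroup X) (h : X) (K : Subgroup X) : Prop where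
  le : K ≤ cen S U
  hmem : ∀ c ∈ K, cj h c ∈ K
  smem : ∀ t ∈ (S : Subgroup X), ∀ c ∈ K, cj t c ∈ K

theorem Invt.hmem_inv {K : Subgroup X} (hK : Invt S U h K) : ∀ c ∈ K, cj h⁻¹ c ∈ K :=
  cj_inv_mem hK.hmem

namespace Core

variable (H : Core S U h)
include H

theorem invt_U : Invt S U h U :=
  ⟨H.base.le_cen, fun _ hu => H.base.map_U H.hC hu, H.base.norm⟩

theorem invt_cen : Invt S U h (cen S U) :=
  ⟨le_rfl, H.hC, fun _ ht _ hc => H.base.cen_normal ht hc⟩

theorem U_rel {u : X} (hu : u ∈ U) (hu1 : u ≠ 1) :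
    cj h u ∈ U ∧ cj h u ≠ 1 ∧ cj h u ≠ u ∧ cj h (cj h u) = u * cj h u ∧ cj h (cj h (cj h u)) = u := by
  have h0 := H.invt_U.hmem
  have hne : ∀ {v : X}, v ≠ 1 → cj h v ≠ 1 := fun {v} hv e => hv (by rw [← cj_inv_cancel h v, e, map_one])
  have h1 := H.cyc u hu hu1
  have hne2 : cj h (cj h u) ≠ u := by
    intro e
    have hv : u * cj h u ≠ 1 := fun e2 => h1 ((eq_inv_of_mul_eq_one_left e2).trans
      (pow_two_cases (H.base.sq _ (h0 u hu)))).symm
    refine H.cyc _ (U.mul_mem hu (h0 u hu)) hv ?_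
    rw [map_mul, e, H.base.comm (h0 u hu) hu]
  have h2 : cj h (cj h u) = u * cj h u := by
    rcases H.base.cases hu (h0 u hu) hu1 (hne hu1) (Ne.symm h1) (h0 _ (h0 u hu)) with e | e | e | e
    · exact absurd e (hne (hne hu1))
    · exact absurd e hne2
    · exact absurd e (H.cyc _ (h0 u hu) (hne hu1))
    · exact e
  refine ⟨h0 u hu, hne hu1, h1, h2, ?_⟩
  rw [h2, map_mul, h2, ← mul_assoc, H.base.comm (h0 u hu) hu, mul_assoc, H.base.sq _ (h0 u hu), mul_one]

theorem U_three {u : X} (hu : u ∈ U) : cj h (cj h (cj h u)) = u := by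
  by_cases hu1 : u = 1
  · simp [hu1]
  exact (H.U_rel hu hu1).2.2.2.2

/-- Two nontrivial elements of `U`, one central in `S`, the other its image. -/
theorem exists_central : ∃ z, z ∈ U ∧ z ≠ 1 ∧ ∀ t ∈ (S : Subgroup X), cj t z = z := by
  obtain ⟨z, w, hz, hw, hz1, -, -, hzc⟩ := H.base.exists_basis
  exact ⟨z, hz, hz1, hzc⟩

/-- An elementary invariant subgroup, or any small one. -/
theorem no_normal_eight {y : X} (hyC : y ∈ cen S U) (hy2 : y * y = 1) (hyU : y ∉ U)
    (hfix : ∀ t ∈ (S : Subgroup X), cj t y * y⁻¹ ∈ U) : False := by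
  classical
  have hcm : ∀ u ∈ U, y * u = u * y := fun u hu => cj_eq_self.1 ((mem_cen.1 hyC).2 u hu)
  let N : Subgroup X :=
    { carrier := {a | a ∈ U ∨ a * y ∈ U}
      one_mem' := Or.inl U.one_mem
      mul_mem' := by
        rintro a b (ha | ha) (hb | hb)
        · exact Or.inl (U.mul_mem ha hb)
        · exact Or.inr (by rw [mul_assoc]; exact U.mul_mem ha hb)
        · refine Or.inr ?_
          rw [mul_assoc, ← hcm b hb, ← mul_assoc]; exact U.mul_mem ha hb
        · refine Or.inl ?_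
          have e : a * b = a * y * (b * y) := by
            rw [mul_assoc a y, ← mul_assoc y b, show y * b = y * (b * y) * y by
              rw [mul_assoc, mul_assoc, hy2, mul_one]]
            rw [hcm _ hb, show b * y * y * y = b * (y * y) * y by group, hy2, mul_one,
              mul_assoc b y y, hy2, mul_one]
          rw [e]; exact U.mul_mem ha hb
      inv_mem' := by
        rintro a (ha | ha)
        · exact Or.inl (U.inv_mem ha)
        · refine Or.inr ?_
          have e : a⁻¹ * y = y * (a * y)⁻¹ * y := by group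
          rw [e, hcm _ (U.inv_mem ha), mul_assoc, hy2, mul_one]
          exact U.inv_mem ha }
  have hmem : ∀ {a : X}, a ∈ N → ∃ u ∈ U, a = u ∨ a = u * y := by
    rintro a (ha | ha)
    · exact ⟨a, ha, Or.inl rfl⟩
    · exact ⟨a * y, ha, Or.inr (by rw [mul_assoc, hy2, mul_one])⟩
  have hUN : U ≤ N := fun a ha => Or.inl ha
  have hyN : y ∈ N := Or.inr (by rw [hy2]; exact U.one_mem)
  have h4 := H.base.small N (fun a ha => ?_) (fun t ht a ha => ?_) (fun a ha => ?_) (fun a ha b hb => ?_)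
  · exact hyU ((eq_of_le_of_card_ge hUN (by rw [H.base.card]; exact h4)).ge hyN)
  · obtain ⟨u, hu, rfl | rfl⟩ := hmem ha
    · exact H.base.le hu
    · exact mul_mem (H.base.le hu) hyC.1
  · have hyt : cj t y ∈ N := by
      have := N.mul_mem (hUN (hfix t ht)) hyN
      rwa [inv_mul_cancel_right] at this
    obtain ⟨u, hu, rfl | rfl⟩ := hmem ha
    · exact hUN (H.base.norm t ht _ hu)
    · rw [map_mul]; exact N.mul_mem (hUN (H.base.norm t ht u hu)) hyt
  · obtain ⟨u, hu, rfl | rfl⟩ := hmem ha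
    · exact H.base.sq _ hu
    · rw [show u * y * (u * y) = u * (y * u) * y by group, hcm u hu,
        show u * (u * y) * y = (u * u) * (y * y) by group, H.base.sq u hu, hy2, mul_one]
  · obtain ⟨u, hu, rfl | rfl⟩ := hmem ha <;> obtain ⟨v, hv, rfl | rfl⟩ := hmem hb
    · exact H.base.comm hu hv
    · rw [← mul_assoc, H.base.comm hu hv, mul_assoc, ← hcm _ hu, ← mul_assoc]
    · rw [mul_assoc, hcm _ hv, ← mul_assoc, H.base.comm hu hv, mul_assoc]
    · have c1 : Commute u v := H.base.comm hu hv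
      have c2 : Commute y v := hcm v hv
      have c3 : Commute u y := (hcm u hu).symm
      exact ((c1.mul_left c2).mul_right (c3.mul_left (Commute.refl y))).eq

end Core

/-- A homocyclic self-centralising abelian subgroup. -/
structure Frame (S : Sylow 2 X) (U : Subgroup X) (h : X) (A : Subgroup X) (n : ℕ) : Prop where
  core : Core S U h
  inv : Invt S U h A
  comm : ∀ a ∈ A, ∀ b ∈ A, a * b = b * a
  le : U ≤ A
  omega : ∀ a ∈ A, a * a = 1 → a ∈ U
  max : ∀ B : Subgroup X, Invt S U h B → (∀ a ∈ B, ∀ b ∈ B, a * b = b * a) → A ≤ B → B ≤ A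
  npos : 1 ≤ n
  expo : ∀ a ∈ A, a ^ 2 ^ n = 1
  top : ∀ u ∈ U, ∃ a ∈ A, a ^ 2 ^ (n - 1) = u
  root : ∀ a ∈ A, a ^ 2 ^ (n - 1) = 1 → ∃ b ∈ A, b * b = a
  fpf : ∀ a ∈ A, cj h a = a → a = 1
  three : ∀ a ∈ A, cj h (cj h (cj h a)) = a
  norm : ∀ a ∈ A, a * cj h a * cj h (cj h a) = 1
  span : ∀ a ∈ A, a ^ 2 ^ (n - 1) ≠ 1 → ∀ x ∈ A, ∃ i j : ℕ, x = a ^ i * cj h a ^ j
  indep : ∀ a ∈ A, a ^ 2 ^ (n - 1) ≠ 1 → ∀ i j : ℕ, a ^ i * cj h a ^ j = 1 → 2 ^ n ∣ i ∧ 2 ^ n ∣ j
  card : Nat.card A = 4 ^ n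

theorem Core.exists_frame (H : Core S U h) : ∃ A n, Frame S U h A n := by
  classical
  obtain ⟨A, ⟨hUA, hinv, hcomm⟩, hmax⟩ := (Set.toFinite {B : Subgroup X |
    U ≤ B ∧ Invt S U h B ∧ ∀ a ∈ B, ∀ b ∈ B, a * b = b * a}).exists_maximal
      ⟨U, le_rfl, H.invt_U, fun a ha b hb => H.base.comm ha hb⟩
  have hom : ∀ a ∈ A, a * a = 1 → a ∈ U := by
    let N : Subgroup X :=
      { carrier := {a | a ∈ A ∧ a * a = 1}
        one_mem' := ⟨A.one_mem, mul_one 1⟩
        mul_mem' := fun {a b} ha hb => ⟨mul_mem ha.1 hb.1, by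
          rw [show a * b * (a * b) = a * (b * a) * b by group, hcomm b hb.1 a ha.1,
            show a * (a * b) * b = (a * a) * (b * b) by group, ha.2, hb.2, mul_one]⟩
        inv_mem' := fun {a} ha => by rw [pow_two_cases ha.2]; exact ha }
    have h4 := H.base.small N (fun a ha => (hinv.le ha.1).1)
      (fun t ht a ha => ⟨hinv.smem t ht a ha.1, by rw [← map_mul, ha.2, map_one]⟩)
      (fun a ha => ha.2) (fun a ha b hb => hcomm a ha.1 b hb.1)
    have hUN : U ≤ N := fun u hu => ⟨hUA hu, H.base.sq u hu⟩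
    exact fun a ha ha2 => (eq_of_le_of_card_ge hUN (by rw [H.base.card]; exact h4)).ge ⟨ha, ha2⟩
  have hord : ∀ a ∈ A, ∃ i, orderOf a = 2 ^ i := fun a ha => by
    obtain ⟨i, hi⟩ := S.2 ⟨a, (hinv.le ha).1⟩
    obtain ⟨j, -, hj⟩ := (Nat.dvd_prime_pow Nat.prime_two).1
      (orderOf_dvd_of_pow_eq_one (show (a : X) ^ 2 ^ i = 1 from congrArg Subtype.val hi))
    exact ⟨j, hj⟩
  have hfix : ∀ (i : ℕ) (a : X), a ∈ A → a ^ 2 ^ i = 1 → cj h a = a → a = 1 := by
    intro i
    induction i with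
    | zero => intro a _ ha _; simpa using ha
    | succ i ih =>
      intro a ha hp hf
      have h1 : a ^ 2 = 1 := ih _ (A.pow_mem ha 2) (by rw [← pow_mul, ← pow_succ', hp]) (by rw [map_pow, hf])
      by_contra hne
      exact H.cyc a (hom a ha (by rw [← pow_two]; exact h1)) hne hf
  have hfpf : ∀ a ∈ A, cj h a = a → a = 1 := fun a ha hf => by
    obtain ⟨i, hi⟩ := hord a ha
    exact hfix i a ha (hi ▸ pow_orderOf_eq_one a) hf
  have hthree : ∀ (i : ℕ) (a : X), a ∈ A → a ^ 2 ^ i = 1 → cj (h ^ 3) a = a := by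
    intro i
    induction i with
    | zero => intro a _ ha; rw [pow_zero, pow_one] at ha; rw [ha, map_one]
    | succ i ih =>
      intro a ha hp
      set u := a⁻¹ * cj (h ^ 3) a with hu
      have hmem : cj (h ^ 3) a ∈ A := cj_pow_mem hinv.hmem 3 a ha
      have hc : Commute a⁻¹ (cj (h ^ 3) a) := hcomm _ (inv_mem ha) _ hmem
      have h2 : u * u = 1 := by
        rw [← pow_two, hu, hc.mul_pow, ← map_pow, ih _ (A.pow_mem ha 2) (by rw [← pow_mul, ← pow_succ', hp]),
          inv_pow, inv_mul_cancel]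
      have huU : u ∈ U := hom u (mul_mem (inv_mem ha) hmem) h2
      have hfu : cj (h ^ 3) u = u := by
        rw [pow_succ, pow_two, cj_mul, cj_mul, H.U_three huU]
      have hit : ∀ j : ℕ, cj ((h ^ 3) ^ j) a = a * u ^ j := fun j => by
        induction j with
        | zero => rw [pow_zero, pow_zero, cj_one, mul_one]
        | succ j ihj =>
          rw [pow_succ', cj_mul, ihj, map_mul, map_pow, hfu,
            show cj (h ^ 3) a = a * u by rw [hu, mul_inv_cancel_left], mul_assoc, ← pow_succ']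
      obtain ⟨k, hk⟩ := H.h3
      have h1 := hit (3 ^ k)
      rw [← pow_mul, mul_comm 3, pow_mul, hk, one_pow, cj_one] at h1
      have : u = 1 := eq_one_of_three h2 (mul_eq_left.1 h1.symm)
      rw [hu, inv_mul_eq_one] at this
      exact this.symm
  have hh3 : ∀ a ∈ A, cj h (cj h (cj h a)) = a := fun a ha => by
    obtain ⟨i, hi⟩ := hord a ha
    have := hthree i a ha (hi ▸ pow_orderOf_eq_one a)
    rwa [pow_succ, pow_two, cj_mul, cj_mul] at this
  have hm := hinv.hmem
  have hnorm : ∀ a ∈ A, a * cj h a * cj h (cj h a) = 1 := by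
    intro a ha
    refine hfpf _ (mul_mem (mul_mem ha (hm a ha)) (hm _ (hm a ha))) ?_
    rw [map_mul, map_mul, hh3 a ha, hcomm _ (mul_mem (hm a ha) (hm _ (hm a ha))) a ha, mul_assoc]
  -- the exponent
  obtain ⟨a, ha, hamax⟩ := Set.exists_max_image (A : Set X) orderOf (Set.toFinite _) ⟨1, A.one_mem⟩
  obtain ⟨n, hn⟩ := hord a ha
  have hexp : ∀ x ∈ A, x ^ 2 ^ n = 1 := fun x hx => by
    obtain ⟨i, hi⟩ := hord x hx
    refine orderOf_dvd_iff_pow_eq_one.1 (hi ▸ pow_dvd_pow 2 ?_)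
    exact (Nat.pow_le_pow_iff_right (le_refl 2)).1 (hi ▸ hn ▸ hamax x hx)
  have hnpos : 1 ≤ n := by
    obtain ⟨z, hz, hz1, -⟩ := H.exists_central
    by_contra hn0
    have e := hexp z (hUA hz)
    rw [show n = 0 by omega, pow_zero, pow_one] at e
    exact hz1 e
  have hind : ∀ c ∈ A, c ^ 2 ^ (n - 1) ≠ 1 → ∀ i j : ℕ, c ^ i * cj h c ^ j = 1 →
      2 ^ n ∣ i ∧ 2 ^ n ∣ j := by
    intro c hc hctop
    have hco : orderOf c = 2 ^ n := by
      obtain ⟨i, hi⟩ := hord c hc
      have hle : i ≤ n := (Nat.pow_dvd_pow_iff_le_right (le_refl 2)).1 (hi ▸ orderOf_dvd_of_pow_eq_one (hexp c hc))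
      rcases hle.lt_or_eq with hlt | rfl
      · exact absurd (orderOf_dvd_iff_pow_eq_one.1 (hi ▸ pow_dvd_pow 2 (show i ≤ n - 1 by omega))) hctop
      · exact hi
    set u := c ^ 2 ^ (n - 1) with hu
    have hu2 : u * u = 1 := by
      rw [← pow_two, hu, ← pow_mul, ← pow_succ, Nat.sub_add_cancel hnpos, hexp c hc]
    have huU : u ∈ U := hom u (A.pow_mem hc _) hu2
    obtain ⟨-, hv1, hvu, -, -⟩ := H.U_rel huU hctop
    have hrel : ∀ x y : ℕ, u ^ x * cj h u ^ y = 1 → 2 ∣ x ∧ 2 ∣ y := by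
      intro x y e
      have key : ∀ (v : X) (x : ℕ), v * v = 1 → v ^ x = if 2 ∣ x then 1 else v := fun v x hv => by
        conv_lhs => rw [← Nat.div_add_mod x 2, pow_add, pow_mul, pow_two, hv, one_pow, one_mul]
        rcases Nat.mod_two_eq_zero_or_one x with e' | e'
        · rw [e', pow_zero, if_pos (Nat.dvd_of_mod_eq_zero e')]
        · rw [e', pow_one, if_neg (by omega)]
      rw [key u x hu2, key _ y (by rw [← map_mul, hu2, map_one])] at e
      split_ifs at e with h1 h2 h2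
      · exact ⟨h1, h2⟩
      · exact absurd (by rwa [one_mul] at e) hv1
      · exact absurd (by rwa [mul_one] at e) hctop
      · exact absurd ((eq_inv_of_mul_eq_one_left e).trans
          (pow_two_cases (by rw [← map_mul, hu2, map_one]))).symm hvu
    have hstep : ∀ d, d ≤ n → ∀ i j : ℕ, c ^ i * cj h c ^ j = 1 → 2 ^ d ∣ i ∧ 2 ^ d ∣ j := by
      intro d
      induction d with
      | zero => exact fun _ i j _ => ⟨one_dvd _, one_dvd _⟩
      | succ d ih =>
        intro hd i j e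
        obtain ⟨⟨i', rfl⟩, ⟨j', rfl⟩⟩ := ih (by omega) i j e
        have e2 := congrArg (fun w : X => w ^ 2 ^ (n - 1 - d)) e
        have hcc : Commute c (cj h c) := hcomm c hc _ (hm c hc)
        rw [(hcc.pow_pow _ _).mul_pow, one_pow,
          ← pow_mul, ← pow_mul,
          show 2 ^ d * i' * 2 ^ (n - 1 - d) = 2 ^ (n - 1) * i' by
            rw [show 2 ^ d * i' * 2 ^ (n - 1 - d) = 2 ^ d * 2 ^ (n - 1 - d) * i' by ring, ← pow_add,
              show d + (n - 1 - d) = n - 1 by omega],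
          show 2 ^ d * j' * 2 ^ (n - 1 - d) = 2 ^ (n - 1) * j' by
            rw [show 2 ^ d * j' * 2 ^ (n - 1 - d) = 2 ^ d * 2 ^ (n - 1 - d) * j' by ring, ← pow_add,
              show d + (n - 1 - d) = n - 1 by omega],
          pow_mul, pow_mul, ← map_pow] at e2
        obtain ⟨⟨i'', rfl⟩, ⟨j'', rfl⟩⟩ := hrel i' j' e2
        exact ⟨⟨i'', by ring⟩, ⟨j'', by ring⟩⟩
    exact hstep n le_rfl
  -- the order of `A`
  have hAle : ∀ m : ℕ, Nat.card {x : A // (x : X) ^ 2 ^ m = 1} ≤ 4 ^ m := by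
    intro m
    induction m with
    | zero =>
      have : Subsingleton {x : A // (x : X) ^ 2 ^ 0 = 1} := ⟨fun ⟨x, hx⟩ ⟨y, hy⟩ => by
        simp only [pow_zero, pow_one] at hx hy
        exact Subtype.ext (Subtype.ext (hx.trans hy.symm))⟩
      rw [pow_zero]
      exact Finite.card_le_one_iff_subsingleton.2 this
    | succ m ih =>
      let f : {x : A // (x : X) ^ 2 ^ (m + 1) = 1} → {x : A // (x : X) ^ 2 ^ m = 1} := fun x =>
        ⟨⟨(x.1 : X) ^ 2, A.pow_mem x.1.2 2⟩, by rw [← pow_mul, ← pow_succ', x.2]⟩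
      let sel : {x : A // (x : X) ^ 2 ^ m = 1} → X := fun y =>
        if hy : ∃ x, f x = y then ((Classical.choose hy).1 : X) else 1
      have hsel : ∀ x, (sel (f x))⁻¹ * (x.1 : X) ∈ U := by
        intro x
        have hy : ∃ x', f x' = f x := ⟨x, rfl⟩
        have hs : sel (f x) = ((Classical.choose hy).1 : X) := dif_pos hy
        have hsq := congrArg (fun t : {x : A // (x : X) ^ 2 ^ m = 1} => ((t.1 : A) : X))
          (Classical.choose_spec hy)
        rw [hs]
        refine hom _ (mul_mem (inv_mem (Classical.choose hy).1.2) x.1.2) ?_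
        rw [← pow_two, Commute.mul_pow (hcomm _ (inv_mem (Classical.choose hy).1.2) _ x.1.2), inv_pow]
        simp only [f] at hsq
        rw [hsq, inv_mul_cancel]
      have hinj : Function.Injective
          (fun x : {x : A // (x : X) ^ 2 ^ (m + 1) = 1} =>
            ((f x, ⟨(sel (f x))⁻¹ * (x.1 : X), hsel x⟩) : {x : A // (x : X) ^ 2 ^ m = 1} × U)) := by
        intro x y e
        simp only [Prod.mk.injEq, Subtype.mk.injEq] at e
        rw [e.1, mul_left_cancel_iff] at e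
        exact Subtype.ext (Subtype.ext e.2)
      have := Nat.card_le_card_of_injective _ hinj
      rw [Nat.card_prod, H.base.card] at this
      calc _ ≤ _ := this
        _ ≤ 4 ^ m * 4 := Nat.mul_le_mul_right _ ih
        _ = _ := (pow_succ 4 m).symm
  have hAcard : Nat.card A ≤ 4 ^ n := by
    refine le_trans (le_of_eq ?_) (hAle n)
    exact (Nat.card_congr (Equiv.subtypeUnivEquiv fun x : A => hexp x x.2)).symm
  have hspan : ∀ c ∈ A, c ^ 2 ^ (n - 1) ≠ 1 →
      (∀ x ∈ A, ∃ i j : ℕ, x = c ^ i * cj h c ^ j) ∧ Nat.card A = 4 ^ n := by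
    intro c hc hctop
    have : NeZero (2 ^ n) := ⟨by positivity⟩
    let ev : ZMod (2 ^ n) × ZMod (2 ^ n) → A := fun p =>
      ⟨c ^ p.1.val * cj h c ^ p.2.val, mul_mem (A.pow_mem hc _) (A.pow_mem (hm c hc) _)⟩
    have hinj : Function.Injective ev := by
      rintro ⟨i, j⟩ ⟨i', j'⟩ e
      have e' : c ^ i.val * cj h c ^ j.val = c ^ i'.val * cj h c ^ j'.val := congrArg Subtype.val e
      have hlt := ZMod.val_lt i'
      have hlt' := ZMod.val_lt j'
      have h1 : c ^ (i.val + (2 ^ n - i'.val)) * cj h c ^ (j.val + (2 ^ n - j'.val)) = 1 := by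
        have hcc : Commute c (cj h c) := hcomm c hc _ (hm c hc)
        rw [pow_add, pow_add, mul_assoc, ← mul_assoc (c ^ (2 ^ n - i'.val)), (hcc.pow_pow _ _).eq,
          mul_assoc (cj h c ^ j.val), ← mul_assoc (c ^ i.val), e', mul_assoc,
          ← mul_assoc (cj h c ^ j'.val), ← (hcc.pow_pow (2 ^ n - i'.val) j'.val).eq, mul_assoc,
          ← pow_add, ← mul_assoc, ← pow_add, Nat.add_sub_cancel' hlt.le, Nat.add_sub_cancel' hlt'.le,
          hexp c hc, hexp _ (hm c hc), mul_one]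
      obtain ⟨d1, d2⟩ := hind c hc hctop _ _ h1
      have g1 := (ZMod.natCast_eq_zero_iff _ _).2 d1
      have g2 := (ZMod.natCast_eq_zero_iff _ _).2 d2
      rw [Nat.cast_add, Nat.cast_sub hlt.le, ZMod.natCast_self, ZMod.natCast_zmod_val,
        ZMod.natCast_zmod_val, zero_sub, add_neg_eq_zero] at g1
      rw [Nat.cast_add, Nat.cast_sub hlt'.le, ZMod.natCast_self, ZMod.natCast_zmod_val,
        ZMod.natCast_zmod_val, zero_sub, add_neg_eq_zero] at g2
      rw [g1, g2]
    have h4 : Nat.card (ZMod (2 ^ n) × ZMod (2 ^ n)) = 4 ^ n := by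
      rw [Nat.card_prod, Nat.card_zmod, ← mul_pow]; norm_num
    have hge : 4 ^ n ≤ Nat.card A := h4 ▸ Nat.card_le_card_of_injective ev hinj
    have hb : Function.Bijective ev := (Nat.bijective_iff_injective_and_card ev).2
      ⟨hinj, by rw [h4]; omega⟩
    refine ⟨fun x hx => ?_, by omega⟩
    obtain ⟨p, hp⟩ := hb.2 ⟨x, hx⟩
    exact ⟨p.1.val, p.2.val, (congrArg Subtype.val hp).symm⟩
  have hatop : a ^ 2 ^ (n - 1) ≠ 1 := fun e => by
    have := Nat.le_of_dvd (by positivity) (orderOf_dvd_of_pow_eq_one e)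
    rw [hn] at this
    have := Nat.pow_lt_pow_right (show 1 < 2 by norm_num) (show n - 1 < n by omega)
    omega
  set u := a ^ 2 ^ (n - 1) with hu
  have huU : u ∈ U := hom u (A.pow_mem ha _) (by
    rw [← pow_two, hu, ← pow_mul, ← pow_succ, Nat.sub_add_cancel hnpos, hexp a ha])
  obtain ⟨hv, hv1, hvu, -, -⟩ := H.U_rel huU hatop
  have hca : Commute a (cj h a) := hcomm a ha _ (hm a ha)
  refine ⟨A, n, H, hinv, hcomm, hUA, hom, fun B hB hBc hAB => hmax ⟨hUA.trans hAB, hB, hBc⟩ hAB,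
    hnpos, hexp, ?_, ?_, hfpf, hh3, hnorm, fun c hc hct => (hspan c hc hct).1, hind,
    (hspan a ha hatop).2⟩
  · intro x hx
    rcases H.base.cases huU hv hatop hv1 (Ne.symm hvu) hx with rfl | rfl | rfl | rfl
    · exact ⟨1, A.one_mem, one_pow _⟩
    · exact ⟨a, ha, rfl⟩
    · exact ⟨cj h a, hm a ha, by rw [hu, map_pow]⟩
    · exact ⟨a * cj h a, mul_mem ha (hm a ha), by rw [hca.mul_pow, hu, map_pow]⟩
  · intro x hx hx1
    obtain ⟨i, j, rfl⟩ := (hspan a ha hatop).1 x hx
    rw [(hca.pow_pow _ _).mul_pow, ← pow_mul, ← pow_mul] at hx1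
    obtain ⟨d1, d2⟩ := hind a ha hatop _ _ hx1
    have key : ∀ i, 2 ^ n ∣ i * 2 ^ (n - 1) → 2 ∣ i := fun i hd => by
      rw [show 2 ^ n = 2 * 2 ^ (n - 1) by rw [← pow_succ', Nat.sub_add_cancel hnpos]] at hd
      exact Nat.dvd_of_mul_dvd_mul_right (by positivity) hd
    obtain ⟨i', rfl⟩ := key i d1
    obtain ⟨j', rfl⟩ := key j d2
    refine ⟨a ^ i' * cj h a ^ j', mul_mem (A.pow_mem ha _) (A.pow_mem (hm a ha) _), ?_⟩
    rw [← pow_two, (hca.pow_pow _ _).mul_pow, ← pow_mul, ← pow_mul, mul_comm i', mul_comm j']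

end Cfsg.Agent.Lib.NoEight59
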