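import Cfsg.Agent.Lib.NoEight59.SelfCentEnd

/-!
# The structure of `C` for `n ≥ 3` (S3102, helper59)
-/

set_option autoImplicit false
set_option linter.unusedSectionVars false
set_option linter.style.haveILetI false

namespace Cfsg.Agent.Lib.NoEight59

open Subgroup

variable {X : Type*} [Group X] [Finite X] {S : Sylow 2 X} {U : Subgroup X} {h : X} {A : Subgroup X}
  {n : ℕ}

/-- `C = A⟨x⟩`, with `x` inverting `A` up to `U`. -/
structure Big (S : Sylow 2 X) (U : Subgroup X) (h : X) (A : Subgroup X) (n : ℕ) (x : X) : Prop where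
  frame : Frame S U h A n
  three_le : 3 ≤ n
  mem : x ∈ cen S U
  not_mem : x ∉ A
  sq : x * x = 1
  hfix : cj h x = x
  split : ∀ c ∈ cen S U, c ∈ A ∨ c * x ∈ A
  eps : ∀ a ∈ A, cj x a * a ∈ U
  hfixed : ∀ c ∈ cen S U, cj h c = c → c = 1 ∨ c = x
  sfix : ∀ t ∈ (S : Subgroup X), t * h * t⁻¹ = h⁻¹ → cj t x = x ∧ (t * t = 1 ∨ t * t = x ∨ t ∈ cen S U)

/-- Idempotent endomorphisms of the plane with idempotent sum with their conjugate are scalars. -/
theorem idem_scalar : ∀ p q : ZMod 2 × ZMod 2,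
    (∀ v : ZMod 2 × ZMod 2,
      let d := fun v : ZMod 2 × ZMod 2 => (v.1 * p.1 + v.2 * q.1, v.1 * p.2 + v.2 * q.2)
      let m := fun v : ZMod 2 × ZMod 2 => (v.2, v.1 + v.2)
      let e := fun v : ZMod 2 × ZMod 2 => d v + m (d (m (m v)))
      d (d v) = d v ∧ e (e v) = e v) →
    (p = (0, 0) ∧ q = (0, 0)) ∨ (p = (1, 0) ∧ q = (0, 1)) := by decide +kernel

namespace Frame

variable (F : Frame S U h A n)
include F

theorem cj_mem {t a : X} (ht : t ∈ (S : Subgroup X)) (ha : a ∈ A) : cj t a ∈ A := F.inv.smem t ht a ha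

theorem delta_mem {t a : X} (ht : t ∈ cen S U) (ha : a ∈ A) : cj t a * a⁻¹ ∈ A :=
  mul_mem (F.cj_mem ht.1 ha) (inv_mem ha)

theorem delta_mul {t a b : X} (ht : t ∈ cen S U) (ha : a ∈ A) (hb : b ∈ A) :
    cj t (a * b) * (a * b)⁻¹ = (cj t a * a⁻¹) * (cj t b * b⁻¹) := by
  rw [map_mul, mul_inv_rev, show cj t a * cj t b * (b⁻¹ * a⁻¹) = cj t a * ((cj t b * b⁻¹) * a⁻¹) by group,
    F.comm _ (F.delta_mem ht hb) _ (inv_mem ha), mul_assoc]

/-- `δ` as a homomorphism. -/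
theorem delta_pow {t a : X} (ht : t ∈ cen S U) (ha : a ∈ A) (i : ℕ) :
    cj t (a ^ i) * (a ^ i)⁻¹ = (cj t a * a⁻¹) ^ i := by
  induction i with
  | zero => simp
  | succ i ih => rw [pow_succ, F.delta_mul ht (A.pow_mem ha i) ha, ih, pow_succ]

theorem delta_top {t a : X} (ht : t ∈ cen S U) (ha : a ∈ A) : (cj t a * a⁻¹) ^ 2 ^ (n - 1) = 1 := by
  rw [← F.delta_pow ht ha, (mem_cen.1 ht).2 _ (F.top_mem ha), mul_inv_cancel]

theorem delta_comp {x y a : X} (hx : x ∈ cen S U) (hy : y ∈ cen S U) (ha : a ∈ A) :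
    cj (x * y) a * a⁻¹ =
      (cj x (cj y a * a⁻¹) * (cj y a * a⁻¹)⁻¹) * (cj y a * a⁻¹) * (cj x a * a⁻¹) := by
  rw [inv_mul_cancel_right, cj_mul, map_mul, map_inv]; group

theorem roots : ∀ (j : ℕ), j ≤ n → ∀ a ∈ A, a ^ 2 ^ (n - j) = 1 → ∃ c ∈ A, c ^ 2 ^ j = a
  | 0, _, a, ha, _ => ⟨a, ha, by rw [pow_zero, pow_one]⟩
  | j + 1, hj, a, ha, h1 => by
    obtain ⟨c, hc, rfl⟩ := roots j (by omega) a ha (by
      rw [show n - j = n - (j + 1) + 1 by omega, pow_succ, pow_mul, h1, one_pow])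
    rw [← pow_mul, ← pow_add, show j + (n - (j + 1)) = n - 1 by omega] at h1
    obtain ⟨d, hd, rfl⟩ := F.root c hc h1
    exact ⟨d, hd, by rw [pow_succ', pow_mul, pow_two]⟩

/-- Descent for an endomorphism with `f ∘ f = f ^ k`, `k` twice a unit. -/
theorem descent (f : X → X) (hf : ∀ a ∈ A, f a ∈ A) (hpow : ∀ a ∈ A, ∀ i : ℕ, f (a ^ i) = f a ^ i)
    (h2 : ∀ a ∈ A, f (f a) = f a ^ 2 ∨ f (f a) = (f a ^ 2)⁻¹)
    (h0 : ∀ a ∈ A, f a ^ 2 ^ (n - 2) = 1) : ∀ a ∈ A, f a * f a = 1 := by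
  have key : ∀ d, d + 1 ≤ n - 2 → ∀ a ∈ A, f a ^ 2 ^ (n - 2 - d) = 1 := by
    intro d
    induction d with
    | zero => exact fun _ => h0
    | succ d ih =>
      intro hd a ha
      set m := n - 2 - d with hm
      obtain ⟨c, hc, hce⟩ := F.roots (n - m) (by omega) (f a) (hf a ha)
        (by rw [show n - (n - m) = m by omega]; exact ih (by omega) a ha)
      have e : f (f a) ^ 2 ^ (m - 2) = 1 := by
        rw [← hce, hpow c hc, ← pow_mul, ← pow_add, show n - m + (m - 2) = n - 2 by omega]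
        exact h0 c hc
      have e2 : (f a ^ 2) ^ 2 ^ (m - 2) = 1 := by
        rcases h2 a ha with e' | e' <;> rw [e'] at e
        · exact e
        · rwa [inv_pow, inv_eq_one] at e
      rw [← pow_mul, ← pow_succ'] at e2
      rw [show n - 2 - (d + 1) = m - 2 + 1 by omega]
      exact e2
  intro a ha
  by_cases h3 : 1 ≤ n - 2
  · have := key (n - 3) (by omega) a ha
    rwa [show n - 2 - (n - 3) = 1 by omega, pow_one, pow_two] at this
  · have := h0 a ha
    rw [show n - 2 = 0 by omega, pow_zero, pow_one] at this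
    rw [this, mul_one]

/-- An element of `C` moving `A` only within `U` lies in `A`. -/
theorem small_delta (hn : 3 ≤ n) {x : X} (hx : x ∈ cen S U) (hxd : ∀ a ∈ A, cj x a * a⁻¹ ∈ U) :
    x ∈ A := by
  by_contra hxA
  let L : Subgroup X :=
    { carrier := {c | c ∈ cen S U ∧ ∀ a ∈ A, cj c a * a⁻¹ ∈ U}
      one_mem' := ⟨one_mem _, fun a _ => by rw [cj_one, mul_inv_cancel]; exact U.one_mem⟩
      mul_mem' := fun {c d} hc hd => ⟨mul_mem hc.1 hd.1, fun a ha => by
        rw [F.delta_comp hc.1 hd.1 ha, (mem_cen.1 hc.1).2 _ (hd.2 a ha), mul_inv_cancel, one_mul]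
        exact mul_mem (hd.2 a ha) (hc.2 a ha)⟩
      inv_mem' := fun {c} hc => ⟨inv_mem hc.1, fun a ha => by
        have h1 := F.delta_comp hc.1 (inv_mem hc.1) ha
        rw [mul_inv_cancel, cj_one, mul_inv_cancel, inv_mul_cancel_right, map_mul, map_inv,
          cj_cancel_inv] at h1
        have h2 := hc.2 _ (F.delta_mem (inv_mem hc.1) ha)
        rw [map_mul, map_inv, cj_cancel_inv] at h2
        have h3 : a * (cj c a)⁻¹ ∈ U := by
          rw [show a * (cj c a)⁻¹ = (cj c a * a⁻¹)⁻¹ by group]; exact inv_mem (hc.2 a ha)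
        have h4 := mul_mem (inv_mem h2) h3
        convert h4 using 1; group⟩ }
  have hLinv : ∀ t ∈ (S : Subgroup X), ∀ c ∈ L, cj t c ∈ L := fun t ht c hc =>
    ⟨F.core.base.cen_normal ht hc.1, fun a ha => by
      have e : cj (cj t c) a * a⁻¹ = cj t (cj c (cj t⁻¹ a) * (cj t⁻¹ a)⁻¹) := by
        simp only [cj_apply]; group
      rw [e]; exact F.core.base.norm t ht _ (hc.2 _ (F.cj_mem (inv_mem ht) ha))⟩
  have hAL : A ≤ L := fun a ha => ⟨F.inv.le ha, fun b hb => by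
    rw [cj_eq_self.2 (F.comm a ha b hb), mul_inv_cancel]; exact U.one_mem⟩
  obtain ⟨y, hy, hyA, hy2, hyfix⟩ := exists_fixed_mod (S : Subgroup X) A L S.2 hAL
    (fun d hd => hd.1.1) (fun hle => hxA (hle ⟨hx, hxd⟩)) F.inv.smem hLinv
  have hsqz : ∀ c ∈ L, ∀ b ∈ A, cj c (b ^ 2) = b ^ 2 := fun c hc b hb => by
    rw [← mul_inv_eq_one, F.delta_pow hc.1 hb, pow_two, F.core.base.sq _ (hc.2 b hb)]
  have hroot2 : ∀ b ∈ A, b ^ 4 = 1 → ∃ r ∈ A, r ^ 2 = b := fun b hb h4 => by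
    obtain ⟨r, hr, e⟩ := F.roots 1 F.npos b hb (by
      rw [show n - 1 = 2 + (n - 3) by omega, pow_add, pow_mul, show 2 ^ 2 = 4 from rfl, h4, one_pow])
    exact ⟨r, hr, by simpa using e⟩
  -- the square is a square in `A`
  have htop : (y * y) ^ 2 ^ (n - 1) = 1 := by
    by_contra htop
    set a := y * y with hadef
    set y2 := cj h y with hy2def
    have hy2L : y2 ∈ L := ⟨F.core.hC y hy.1, fun b hb => by
      have e : cj y2 b * b⁻¹ = cj h (cj y (cj h⁻¹ b) * (cj h⁻¹ b)⁻¹) := by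
        rw [hy2def]; simp only [cj_apply]; group
      rw [e]; exact F.core.invt_U.hmem _ (hy.2 _ (F.inv.hmem_inv b hb))⟩
    have hay : cj y a = a := cj_eq_self.2 (by rw [hadef, mul_assoc])
    set c := cj y2 y * y⁻¹ with hcdef
    have hcA : c ∈ A := hyfix y2 hy2L.1.1
    have e0 : cj y2 y = c * y := by rw [hcdef, inv_mul_cancel_right]
    have e1 : cj y2 a * a⁻¹ = c ^ 2 * (cj y c * c⁻¹) := by
      calc cj y2 a * a⁻¹ = cj y2 y * cj y2 y * (y * y)⁻¹ := by rw [hadef, map_mul]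
        _ = c * cj y c := by rw [e0, cj_apply y c]; group
        _ = _ := by rw [pow_two, mul_assoc c c, F.comm c hcA _ (F.delta_mem hy.1 hcA), inv_mul_cancel_right]
    have hc4 : c ^ 4 = 1 := by
      have h1 : c ^ 2 ∈ U := by
        have h2 : c ^ 2 = (cj y2 a * a⁻¹) * (cj y c * c⁻¹)⁻¹ := by rw [e1, mul_inv_cancel_right]
        rw [h2]; exact mul_mem (hy2L.2 a hy2) (inv_mem (hy.2 c hcA))
      rw [show 4 = 2 + 2 from rfl, pow_add, F.core.base.sq _ h1]
    obtain ⟨r, hr, hrc⟩ := hroot2 c hcA hc4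
    have hyc : cj y c = c := by rw [← hrc]; exact hsqz y hy r hr
    have hy2c : cj y2 c = c := by rw [← hrc]; exact hsqz y2 hy2L r hr
    rw [hyc, mul_inv_cancel, mul_one] at e1
    have e2 : cj y (cj h a) * (cj h a)⁻¹ = c ^ 2 := by
      have e : cj y y2 = c⁻¹ * y2 := by rw [hcdef]; simp only [cj_apply]; group
      have hcc : c⁻¹ = c * (c ^ 2) := by
        rw [← pow_succ']; exact inv_eq_of_mul_eq_one_right (by rw [← pow_succ', hc4])
      have hci : cj y2 c⁻¹ = c⁻¹ := by rw [map_inv, hy2c]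
      rw [hadef, map_mul (cj h), ← hy2def, map_mul, e,
        show c⁻¹ * y2 * (c⁻¹ * y2) * (y2 * y2)⁻¹ = c⁻¹ * cj y2 c⁻¹ by rw [cj_apply]; group,
        hci, hcc, ← pow_succ', ← pow_add, show 2 + 1 + (2 + 1) = 4 + 2 from rfl, pow_add, hc4, one_mul]
    have e3 : cj h (cj y (cj h⁻¹ a) * (cj h⁻¹ a)⁻¹) = cj y2 a * a⁻¹ := by
      rw [hy2def]; simp only [cj_apply]; group
    have hia : cj h⁻¹ a = (a * cj h a)⁻¹ := by
      have hn3 := F.norm a hy2
      have : cj h (cj h a) = (a * cj h a)⁻¹ := eq_inv_of_mul_eq_one_right hn3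
      rw [← this, ← F.three a hy2, cj_inv_cancel, F.three a hy2]
    have e4 : cj y (cj h⁻¹ a) * (cj h⁻¹ a)⁻¹ = c ^ 2 := by
      rw [hia, map_inv, inv_inv, show (cj y (a * cj h a))⁻¹ * (a * cj h a) =
        (a * cj h a)⁻¹ * ((cj y (a * cj h a)) * (a * cj h a)⁻¹)⁻¹ * (a * cj h a) by group,
        F.delta_mul hy.1 hy2 (F.inv.hmem a hy2), e2, hay, mul_inv_cancel, one_mul,
        F.comm _ (inv_mem (mul_mem hy2 (F.inv.hmem a hy2))) _ (inv_mem (A.pow_mem hcA 2)),
        inv_mul_cancel_right]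
      refine inv_eq_of_mul_eq_one_right ?_
      rw [← pow_add, hc4]
    rw [e4, e1] at e3
    have hc2 : c ^ 2 = 1 := F.fpf _ (A.pow_mem hcA 2) e3
    refine hyA (F.cent_le hy.1 fun b hb => cj_eq_self.1 ?_)
    obtain ⟨i, j, rfl⟩ := F.span a hy2 htop b hb
    rw [hc2, mul_inv_eq_one] at e2
    rw [map_mul, map_pow, map_pow, hay, e2]
  obtain ⟨b, hb, hbb⟩ := F.root _ hy2 htop
  -- an involution in the coset
  set u := cj y⁻¹ b⁻¹ * b with hudef
  have huU : u ∈ U := by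
    have := (inv_mem hy : y⁻¹ ∈ L).2 _ (inv_mem hb)
    rwa [inv_inv] at this
  obtain ⟨d, hd, hdu⟩ := F.top u huU
  set e := d ^ 2 ^ (n - 2) with hedef
  have he2 : e ^ 2 = u := by
    rw [hedef, ← pow_mul, ← pow_succ, show n - 2 + 1 = n - 1 by omega, hdu]
  obtain ⟨g, hg, hge⟩ : ∃ g ∈ A, g ^ 2 = e := ⟨d ^ 2 ^ (n - 3), A.pow_mem hd _, by
    rw [hedef, ← pow_mul, ← pow_succ, show n - 3 + 1 = n - 2 by omega]⟩
  set r := b⁻¹ * e⁻¹ with hrdef
  have heA : e ∈ A := hge ▸ A.pow_mem hg 2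
  have hrA : r ∈ A := mul_mem (inv_mem hb) (inv_mem heA)
  have hinvol : y * r * (y * r) = 1 := by
    have he' : cj y⁻¹ e = e := by rw [← hge]; exact hsqz _ (inv_mem hy) g hg
    have e' : y * r * (y * r) = (y * y) * (cj y⁻¹ r * r) := by simp only [cj_apply]; group
    have hc1 : Commute b⁻¹ e⁻¹ := F.comm _ (inv_mem hb) _ (inv_mem heA)
    have h1 : cj y⁻¹ r * r = u * (r * r) := by
      rw [hrdef, map_mul, map_inv (cj y⁻¹) e, he', show u * (b⁻¹ * e⁻¹ * (b⁻¹ * e⁻¹)) =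
        cj y⁻¹ b⁻¹ * (e⁻¹ * (b⁻¹ * e⁻¹)) by rw [hudef]; group]
      group
    rw [e', h1, show r * r = (b * b)⁻¹ * (e ^ 2)⁻¹ by
      rw [← pow_two, hrdef, hc1.mul_pow, inv_pow, inv_pow, pow_two b], hbb, he2,
      F.comm _ (inv_mem hy2) _ (inv_mem (F.le huU)),
      mul_inv_cancel_left, mul_inv_cancel]
  have hyrL : y * r ∈ L := mul_mem hy (hAL hrA)
  refine F.core.no_normal_eight hyrL.1 hinvol (fun e' => hyA ?_) fun t ht => ?_
  · have := mul_mem (F.le e') (inv_mem hrA)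
    rwa [mul_inv_cancel_right] at this
  · set v := cj t (y * r) * (y * r)⁻¹ with hvdef
    have hvA : v ∈ A := by
      rw [hvdef, show cj t (y * r) * (y * r)⁻¹ =
        (cj t y * y⁻¹) * cj y (cj t r * r⁻¹) by rw [map_mul]; simp only [cj_apply]; group]
      exact mul_mem (hyfix t ht) (F.cj_mem hy.1.1 (mul_mem (F.cj_mem ht hrA) (inv_mem hrA)))
    have h1 : v * v * (cj (y * r) v * v⁻¹) = 1 := by
      have h2 : cj t (y * r) * cj t (y * r) = 1 := by rw [← map_mul, hinvol, map_one]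
      rw [show cj t (y * r) = v * (y * r) by rw [hvdef, inv_mul_cancel_right]] at h2
      rw [mul_assoc v v, F.comm v hvA _ (F.delta_mem hyrL.1 hvA), inv_mul_cancel_right]
      calc v * cj (y * r) v = v * (y * r) * (v * (y * r)) * ((y * r) * (y * r))⁻¹ := by
            rw [cj_apply]; group
        _ = 1 := by rw [h2, hinvol, inv_one, mul_one]
    have h2 : v * v ∈ U := by
      rw [eq_inv_of_mul_eq_one_left h1]; exact inv_mem (hyrL.2 v hvA)
    obtain ⟨p, hp, hpe⟩ := hroot2 v hvA (by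
      rw [show 4 = 2 * 2 from rfl, pow_mul, pow_two (v ^ 2), pow_two v, F.core.base.sq _ h2])
    rw [show cj (y * r) v = v by rw [← hpe]; exact hsqz _ hyrL p hp, mul_inv_cancel, mul_one] at h1
    exact F.omega v hvA h1

/-- `C = A⟨x⟩`. -/
theorem exists_big (hn : 3 ≤ n) : ∃ x, Big S U h A n x := by
  classical
  obtain ⟨z, hz, hz1, -⟩ := F.core.exists_central
  -- coordinates on `U`
  let u0 := z
  obtain ⟨hu1, hu11, hu10, hu1h, -⟩ := F.core.U_rel hz hz1
  set u1 := cj h z with hu1def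
  let ι : ZMod 2 × ZMod 2 → X := fun v => (if v.1 = 0 then 1 else z) * (if v.2 = 0 then 1 else u1)
  have hιmem : ∀ v, ι v ∈ U := fun v => mul_mem (by split_ifs <;> first | exact one_mem _ | exact hz)
    (by split_ifs <;> first | exact one_mem _ | exact hu1)
  have hιadd : ∀ v w, ι (v + w) = ι v * ι w := by
    have c1 : ∀ a b : ZMod 2, ∀ p : X, p * p = 1 →
        (if a + b = 0 then 1 else p) = (if a = 0 then 1 else p) * (if b = 0 then 1 else p) := by
      intro a b p hp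
      have ha' : a = 0 ∨ a = 1 := (by decide : ∀ i : ZMod 2, i = 0 ∨ i = 1) a
      have hb' : b = 0 ∨ b = 1 := (by decide : ∀ i : ZMod 2, i = 0 ∨ i = 1) b
      rcases ha' with rfl | rfl <;> rcases hb' with rfl | rfl <;>
        simp [hp, show (1 : ZMod 2) + 1 = 0 from rfl]
    intro v w
    simp only [ι, Prod.fst_add, Prod.snd_add, c1 _ _ z (F.core.base.sq z hz),
      c1 _ _ u1 (F.core.base.sq u1 hu1)]
    have hc : Commute (if w.1 = 0 then 1 else z) (if v.2 = 0 then 1 else u1) :=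
      F.core.base.comm (by split_ifs <;> first | exact one_mem _ | exact hz)
        (by split_ifs <;> first | exact one_mem _ | exact hu1)
    rw [mul_assoc, ← mul_assoc (if w.1 = 0 then 1 else z), hc.eq]
    group
  have hι00 : ι (0, 0) = 1 := by simp [ι]
  have hιz : ι (1, 0) = z := by simp [ι]
  have hι1 : ι (0, 1) = u1 := by simp [ι]
  have hιinj : Function.Injective ι := by
    intro v w e
    have h0 : ∀ v, ι v = 1 → v = (0, 0) := by
      have hzu : z * u1 ≠ 1 := fun e => hu10 ((eq_inv_of_mul_eq_one_left e).trans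
        (pow_two_cases (F.core.base.sq u1 hu1))).symm
      rintro ⟨a, b⟩ hv
      have ha' : a = 0 ∨ a = 1 := (by decide : ∀ i : ZMod 2, i = 0 ∨ i = 1) a
      have hb' : b = 0 ∨ b = 1 := (by decide : ∀ i : ZMod 2, i = 0 ∨ i = 1) b
      rcases ha' with rfl | rfl <;> rcases hb' with rfl | rfl
      · rfl
      · exact absurd (hι1 ▸ hv) hu11
      · exact absurd (hιz ▸ hv) hz1
      · exact absurd (by simpa [ι] using hv) hzu
    have hvw : ι (v + w) = 1 := by rw [hιadd, e, F.core.base.sq _ (hιmem w)]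
    have key : ∀ v w : ZMod 2 × ZMod 2, v + w = (0, 0) → v = w := by decide
    exact key v w (h0 _ hvw)
  have hιh : ∀ v, cj h (ι v) = ι (v.2, v.1 + v.2) := by
    have key : ∀ a b : ZMod 2, (a = 0 ∨ a = 1) ∧ (b = 0 ∨ b = 1) := by decide
    rintro ⟨a, b⟩
    have hh : cj h u1 = z * u1 := hu1h
    obtain ⟨rfl | rfl, rfl | rfl⟩ := key a b <;>
      simp only [show (0 : ZMod 2) + 0 = 0 from rfl, show (1 : ZMod 2) + 0 = 1 from rfl,
        show (0 : ZMod 2) + 1 = 1 from rfl, show (1 : ZMod 2) + 1 = 0 from rfl]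
    · rw [hι00, map_one]
    · rw [hι1, hh]; simp [ι]
    · rw [hιz, hι1]
    · rw [show ι (1, 1) = z * u1 by simp [ι], map_mul, hh, hιz, ← mul_assoc,
        F.core.base.comm hu1 hz, mul_assoc, F.core.base.sq u1 hu1, mul_one]
  obtain ⟨g0, hg0, hg0z⟩ := F.top z hz
  have hg1 : cj h g0 ^ 2 ^ (n - 1) = u1 := by rw [← map_pow, hg0z]
  let r : ZMod 2 × ZMod 2 → X := fun v => g0 ^ v.1.val * cj h g0 ^ v.2.val
  have hr : ∀ v, r v ∈ A := fun v => mul_mem (A.pow_mem hg0 _) (A.pow_mem (F.inv.hmem _ hg0) _)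
  have hrtop : ∀ v, r v ^ 2 ^ (n - 1) = ι v := by
    intro v
    have hc : Commute g0 (cj h g0) := F.comm _ hg0 _ (F.inv.hmem _ hg0)
    have key : ∀ a : ZMod 2, a = 0 ∨ a = 1 := by decide
    simp only [r, ι]
    rw [(hc.pow_pow _ _).mul_pow, ← pow_mul, ← pow_mul, mul_comm v.1.val, mul_comm v.2.val,
      pow_mul, pow_mul, hg0z, hg1]
    rcases key v.1 with e1 | e1 <;> rcases key v.2 with e2 | e2 <;> simp [e1, e2, ZMod.val_one]
  have hιsurj : ∀ u ∈ U, ∃ v, ι v = u := by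
    intro u hu
    rcases F.core.base.cases hz hu1 hz1 hu11 (Ne.symm hu10) hu with rfl | rfl | rfl | rfl
    exacts [⟨_, hι00⟩, ⟨_, hιz⟩, ⟨_, hι1⟩, ⟨(1, 1), by simp [ι]⟩]
  -- the layer `Z`
  let Z : X → Prop := fun x => x ∈ cen S U ∧ x * x ∈ A ∧ ∀ c ∈ cen S U, cj c x * x⁻¹ ∈ A
  have hδ2 : ∀ {x a : X}, Z x → a ∈ A →
      cj x (cj x a * a⁻¹) = (cj x a * a⁻¹)⁻¹ := fun {x a} hx ha => by
    rw [map_mul, map_inv, ← cj_mul, cj_eq_self.2 (F.comm _ hx.2.1 a ha)]
    group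
  have hD : ∀ {x a b : X}, x ∈ cen S U → a ∈ A → b ∈ A → a ^ 2 ^ (n - 1) = b ^ 2 ^ (n - 1) →
      (cj x a * a⁻¹) ^ 2 ^ (n - 2) = (cj x b * b⁻¹) ^ 2 ^ (n - 2) := by
    intro x a b hx ha hb e
    obtain ⟨c, hc, hcc⟩ := F.root (b⁻¹ * a) (mul_mem (inv_mem hb) ha) (by
      rw [Commute.mul_pow (F.comm _ (inv_mem hb) _ ha), e, inv_pow, inv_mul_cancel])
    have ea : a = b * c ^ 2 := by rw [pow_two, hcc, mul_inv_cancel_left]
    rw [ea, F.delta_mul hx hb (A.pow_mem hc 2),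
      Commute.mul_pow (F.comm _ (F.delta_mem hx hb) _ (F.delta_mem hx (A.pow_mem hc 2))),
      F.delta_pow hx hc, ← pow_mul, ← pow_succ', show n - 2 + 1 = n - 1 by omega,
      F.delta_top hx hc, mul_one]
  have hDU : ∀ {x a : X}, x ∈ cen S U → a ∈ A → (cj x a * a⁻¹) ^ 2 ^ (n - 2) ∈ U := fun {x a} hx ha =>
    F.omega _ (A.pow_mem (F.delta_mem hx ha) _) (by
      rw [← pow_two, ← pow_mul, ← pow_succ, show n - 2 + 1 = n - 1 by omega, F.delta_top hx ha])
  have hDadd : ∀ {x a b : X}, x ∈ cen S U → a ∈ A → b ∈ A →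
      (cj x (a * b) * (a * b)⁻¹) ^ 2 ^ (n - 2) =
        (cj x a * a⁻¹) ^ 2 ^ (n - 2) * (cj x b * b⁻¹) ^ 2 ^ (n - 2) := fun {x a b} hx ha hb => by
    rw [F.delta_mul hx ha hb, Commute.mul_pow (F.comm _ (F.delta_mem hx ha) _ (F.delta_mem hx hb))]
  let co : X → ZMod 2 × ZMod 2 := fun u => if hu : ∃ v, ι v = u then hu.choose else 0
  have hco : ∀ u ∈ U, ι (co u) = u := fun u hu => by
    simp only [co, dif_pos (hιsurj u hu)]; exact (hιsurj u hu).choose_spec
  let dd : X → ZMod 2 × ZMod 2 → X := fun x v => (cj x (r v) * (r v)⁻¹) ^ 2 ^ (n - 2)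
  have hdd : ∀ {x a v}, x ∈ cen S U → a ∈ A → a ^ 2 ^ (n - 1) = ι v →
      (cj x a * a⁻¹) ^ 2 ^ (n - 2) = dd x v := fun {x a v} hx ha e =>
    hD hx ha (hr v) (e.trans (hrtop v).symm)
  have hddadd : ∀ {x}, x ∈ cen S U → ∀ v w, dd x (v + w) = dd x v * dd x w := by
    intro x hx v w
    simp only [dd]
    rw [← hDadd hx (hr v) (hr w)]
    refine (hdd hx (mul_mem (hr v) (hr w)) ?_).symm
    rw [Commute.mul_pow (F.comm _ (hr v) _ (hr w)), hrtop, hrtop, hιadd]
  have hidem : ∀ {x}, Z x → ∀ v, dd x (co (dd x v)) = dd x v := by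
    intro x hx v
    obtain ⟨c, hc, hce⟩ := F.root _ (F.delta_mem hx.1 (hr v)) (F.delta_top hx.1 (hr v))
    rw [← pow_two] at hce
    have h1 : c ^ 2 ^ (n - 1) = dd x v := by
      rw [show n - 1 = n - 2 + 1 by omega, pow_succ', pow_mul, hce]
    rw [← hdd hx.1 hc (by rw [h1, hco _ (hDU hx.1 (hr v))])]
    have h2 : (cj x c * c⁻¹) ^ 2 = (c ^ 4)⁻¹ := by
      rw [← F.delta_pow hx.1 hc, hce, hδ2 hx (hr v), show c ^ 4 = c ^ 2 * c ^ 2 by rw [← pow_add],
        hce]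
      group
    have h3 : (cj x c * c⁻¹) ^ 2 ^ (n - 2) = ((c ^ 4)⁻¹) ^ 2 ^ (n - 3) := by
      rw [← h2, ← pow_mul, ← pow_succ', show n - 3 + 1 = n - 2 by omega]
    rw [h3, inv_pow, ← pow_mul, show 4 * 2 ^ (n - 3) = 2 ^ (n - 1) by
      rw [show (4 : ℕ) = 2 ^ 2 from rfl, ← pow_add, show 2 + (n - 3) = n - 1 by omega], h1,
      pow_two_cases (F.core.base.sq _ (hDU hx.1 (hr v)))]
  -- kernels lie in `A`
  have hzero : ∀ {x}, Z x → (∀ v, dd x v = 1) → x ∈ A := by
    intro x hx hv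
    refine F.small_delta hn hx.1 fun a ha => F.omega _ (F.delta_mem hx.1 ha) ?_
    refine F.descent (fun a => cj x a * a⁻¹) (fun a ha => F.delta_mem hx.1 ha)
      (fun a ha i => F.delta_pow hx.1 ha i) (fun a ha => Or.inr ?_) (fun a ha => ?_) a ha
    · show cj x (cj x a * a⁻¹) * (cj x a * a⁻¹)⁻¹ = _
      rw [hδ2 hx ha, ← mul_inv_rev, pow_two]
    · show (cj x a * a⁻¹) ^ 2 ^ (n - 2) = 1
      rw [hdd hx.1 ha (v := co (a ^ 2 ^ (n - 1))) (hco _ (F.top_mem ha)).symm, hv]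
  -- the scalar
  have hscalar : ∀ {x}, Z x → x ∉ A → ∀ v, dd x v = ι v := by
    intro x hx hxA
    set y := cj h x with hy
    have hyZ : Z y := ⟨F.core.hC x hx.1, by rw [← map_mul]; exact F.inv.hmem _ hx.2.1, fun c hc => by
      have := F.inv.hmem _ (hx.2.2 _ (cj_inv_mem F.core.hC c hc))
      rw [map_mul, map_inv] at this
      rwa [← cj_mul, show h * cj h⁻¹ c = c * h by rw [cj_apply]; group, cj_mul] at this⟩
    have hxy : Z (x * y) := ⟨mul_mem hx.1 hyZ.1, by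
        rw [show x * y * (x * y) = x * (cj y x * x⁻¹) * x⁻¹ * (x * x) * (y * y) by rw [cj_apply]; group]
        exact mul_mem (mul_mem (F.cj_mem hx.1.1 (hx.2.2 y hyZ.1)) hx.2.1) hyZ.2.1,
      fun c hc => by
        rw [show cj c (x * y) * (x * y)⁻¹ = (cj c x * x⁻¹) * (x * (cj c y * y⁻¹) * x⁻¹) by
          rw [map_mul]; group]
        exact mul_mem (hx.2.2 c hc) (F.cj_mem hx.1.1 (hyZ.2.2 c hc))⟩
    set p := co (dd x (1, 0))
    set q := co (dd x (0, 1))
    have hmat : ∀ v, dd x v = ι (v.1 * p.1 + v.2 * q.1, v.1 * p.2 + v.2 * q.2) := by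
      have key : ∀ a : ZMod 2, a = 0 ∨ a = 1 := by decide
      have h00 : dd x (0, 0) = 1 := by
        have := hddadd hx.1 (0, 0) (0, 0)
        rw [show ((0 : ZMod 2), (0 : ZMod 2)) + (0, 0) = (0, 0) from rfl] at this
        exact mul_eq_left.1 this.symm
      have e1 : ι p = dd x (1, 0) := hco _ (hDU hx.1 (hr _))
      have e2 : ι q = dd x (0, 1) := hco _ (hDU hx.1 (hr _))
      rintro ⟨a, b⟩
      rcases key a with rfl | rfl <;> rcases key b with rfl | rfl
      · simp [h00, hι00]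
      · simp [e2]
      · simp [e1]
      · simp only [one_mul]
        rw [show (p.1 + q.1, p.2 + q.2) = p + q from rfl, hιadd, e1, e2, ← hddadd hx.1]
        rfl
    have hconj : ∀ v, dd y v = cj h (dd x (v.2 + v.1, v.1)) := by
      intro v
      simp only [dd]
      have hm : cj h (r (v.2 + v.1, v.1)) ^ 2 ^ (n - 1) = ι v := by
        rw [← map_pow, hrtop, hιh]
        congr 1
        have key : ∀ a b : ZMod 2, ((a, b + a + a) : ZMod 2 × ZMod 2) = (a, b) := by decide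
        exact key v.1 v.2
      rw [map_pow (cj h), map_mul (cj h), map_inv (cj h),
        show cj h (cj x (r (v.2 + v.1, v.1))) = cj y (cj h (r (v.2 + v.1, v.1))) by
          rw [hy]; simp only [cj_apply]; group]
      exact (hdd hyZ.1 (F.inv.hmem _ (hr _)) hm).symm
    have hsum : ∀ v, dd (x * y) v = dd x v * dd y v := by
      intro v
      simp only [dd]
      rw [F.delta_comp hx.1 hyZ.1 (hr v)]
      set d := cj y (r v) * (r v)⁻¹
      have hd : d ∈ A := F.delta_mem hyZ.1 (hr v)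
      obtain ⟨c, hc, hcd⟩ := F.root d hd (F.delta_top hyZ.1 (hr v))
      rw [← pow_two] at hcd
      have e0 : (cj x d * d⁻¹) ^ 2 ^ (n - 2) = 1 := by
        rw [← hcd, F.delta_pow hx.1 hc, ← pow_mul, ← pow_succ', show n - 2 + 1 = n - 1 by omega,
          F.delta_top hx.1 hc]
      rw [Commute.mul_pow (F.comm _ (mul_mem (F.delta_mem hx.1 hd) hd) _ (F.delta_mem hx.1 (hr v))),
        Commute.mul_pow (F.comm _ (F.delta_mem hx.1 hd) _ hd), e0, one_mul]
      exact F.core.base.comm (hDU hyZ.1 (hr v)) (hDU hx.1 (hr v))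
    have hid := idem_scalar p q (fun v => ?_)
    · rcases hid with ⟨e1, e2⟩ | ⟨e1, e2⟩
      · exact absurd (hzero hx fun v => by rw [hmat, e1, e2]; simp [hι00]) hxA
      · intro v
        rw [hmat, e1, e2]; simp
    · refine ⟨hιinj ?_, hιinj ?_⟩
      · have hcow : ∀ w, co (ι w) = w := fun w => hιinj (hco _ (hιmem w))
        have := hidem hx v
        rw [hmat v, hcow, hmat] at this
        exact this
      · have hcow : ∀ w, co (ι w) = w := fun w => hιinj (hco _ (hιmem w))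
        have he : ∀ w : ZMod 2 × ZMod 2, dd (x * y) w =
            ι (let d := fun v : ZMod 2 × ZMod 2 => (v.1 * p.1 + v.2 * q.1, v.1 * p.2 + v.2 * q.2)
               let m := fun v : ZMod 2 × ZMod 2 => (v.2, v.1 + v.2)
               d w + m (d (m (m w)))) := by
          intro w
          rw [hsum, hconj, hmat, hmat, hιh, ← hιadd]
          congr 1
          simp only
          have key : ∀ a b : ZMod 2, b + a = a + b ∧ (b + (a + b)) = a := by decide
          simp only [(key w.1 w.2).1, (key w.1 w.2).2]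
        have := hidem hxy v
        rw [he v, hcow, he] at this
        exact this
  -- everything of index two
  let L2 : Subgroup X :=
    { carrier := {c | c ∈ cen S U ∧ ∀ a ∈ A, (cj c a * a⁻¹) ^ 2 ^ (n - 2) = 1}
      one_mem' := ⟨one_mem _, fun a _ => by rw [cj_one, mul_inv_cancel, one_pow]⟩
      mul_mem' := fun {c d} hc hd => ⟨mul_mem hc.1 hd.1, fun a ha => by
        have hd1 := F.delta_mem hd.1 ha
        rw [F.delta_comp hc.1 hd.1 ha,
          Commute.mul_pow (F.comm _ (mul_mem (F.delta_mem hc.1 hd1) hd1) _ (F.delta_mem hc.1 ha)),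
          Commute.mul_pow (F.comm _ (F.delta_mem hc.1 hd1) _ hd1), hc.2 _ hd1, hd.2 a ha, hc.2 a ha]
        simp⟩
      inv_mem' := fun {c} hc => ⟨inv_mem hc.1, fun a ha => by
        have h1 := hc.2 _ (F.cj_mem (inv_mem hc.1).1 ha)
        rw [cj_cancel_inv] at h1
        rw [show cj c⁻¹ a * a⁻¹ = (a * (cj c⁻¹ a)⁻¹)⁻¹ by group, inv_pow, h1, inv_one]⟩ }
  have hAL2 : A ≤ L2 := fun a ha => ⟨F.inv.le ha, fun b hb => by
    rw [cj_eq_self.2 (F.comm a ha b hb), mul_inv_cancel, one_pow]⟩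
  have hL2 : ∀ c ∈ L2, c ∈ A := by
    by_contra hcon
    obtain ⟨y, hy, hyA, hy2, hyfix⟩ := exists_fixed_mod (S : Subgroup X) A L2 S.2 hAL2
      (fun d hd => hd.1.1) (fun hle => hcon fun c hc => hle hc) F.inv.smem
      (fun t ht c hc => ⟨F.core.base.cen_normal ht hc.1, fun a ha => by
        have e : cj (cj t c) a * a⁻¹ = cj t (cj c (cj t⁻¹ a) * (cj t⁻¹ a)⁻¹) := by
          simp only [cj_apply]; group
        rw [e, ← map_pow, hc.2 _ (F.cj_mem (inv_mem ht) ha), map_one]⟩)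
    exact hyA (hzero ⟨hy.1, hy2, fun c hc => hyfix c hc.1⟩ fun v => hy.2 _ (hr v))
  have hsqA : ∀ c ∈ cen S U, c * c ∈ A := fun c hc => hL2 _ ⟨mul_mem hc hc, fun a ha => by
    have hd := F.delta_mem hc ha
    obtain ⟨b, hb, hbd⟩ := F.root _ hd (F.delta_top hc ha)
    rw [← pow_two] at hbd
    have e0 : (cj c (cj c a * a⁻¹) * (cj c a * a⁻¹)⁻¹) ^ 2 ^ (n - 2) = 1 := by
      rw [← hbd, F.delta_pow hc hb, ← pow_mul, ← pow_succ', show n - 2 + 1 = n - 1 by omega,
        F.delta_top hc hb]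
    rw [F.delta_comp hc hc ha, mul_assoc, ← pow_two,
      Commute.mul_pow (F.comm _ (F.delta_mem hc hd) _ (A.pow_mem hd 2)), e0, one_mul, ← pow_mul,
      ← pow_succ', show n - 2 + 1 = n - 1 by omega, F.delta_top hc ha]⟩
  have hZall : ∀ c ∈ cen S U, Z c := fun c hc => ⟨hc, hsqA c hc, fun d hd => by
    rw [show cj d c * c⁻¹ = (d * c) * (d * c) * ((c⁻¹ * d⁻¹ * c) * (c⁻¹ * d⁻¹ * c)) * (c⁻¹ * c⁻¹) by
      rw [cj_apply]; group]
    exact mul_mem (mul_mem (hsqA _ (mul_mem hd hc))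
      (hsqA _ (mul_mem (mul_mem (inv_mem hc) (inv_mem hd)) hc))) (hsqA _ (inv_mem hc))⟩
  obtain ⟨x0, hx0, hx0A⟩ := F.exists_outside
  have hsplit0 : ∀ c ∈ cen S U, c ∈ A ∨ c * x0 ∈ A := by
    intro c hc
    by_cases hcA : c ∈ A
    · exact Or.inl hcA
    refine Or.inr (hzero (hZall _ (mul_mem hc hx0)) fun v => ?_)
    simp only [dd]
    rw [F.delta_comp hc hx0 (hr v)]
    have hd := F.delta_mem hx0 (hr v)
    obtain ⟨b, hb, hbd⟩ := F.root _ hd (F.delta_top hx0 (hr v))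
    rw [← pow_two] at hbd
    have e0 : (cj c (cj x0 (r v) * (r v)⁻¹) * (cj x0 (r v) * (r v)⁻¹)⁻¹) ^ 2 ^ (n - 2) = 1 := by
      rw [← hbd, F.delta_pow hc hb, ← pow_mul, ← pow_succ', show n - 2 + 1 = n - 1 by omega,
        F.delta_top hc hb]
    rw [Commute.mul_pow (F.comm _ (mul_mem (F.delta_mem hc hd) hd) _ (F.delta_mem hc (hr v))),
      Commute.mul_pow (F.comm _ (F.delta_mem hc hd) _ hd), e0, one_mul]
    have e1 := hscalar (hZall c hc) hcA v
    have e2 := hscalar (hZall x0 hx0) hx0A v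
    simp only [dd] at e1 e2
    rw [e1, e2, F.core.base.sq _ (hιmem v)]
  -- the fixed point in the coset
  set a0 := x0⁻¹ * cj h x0 with ha0
  have ha0A : a0 ∈ A := by
    rcases hsplit0 _ (F.core.hC x0 hx0) with e | e
    · refine absurd ?_ hx0A
      have := F.inv.hmem_inv _ e
      rwa [cj_inv_cancel] at this
    · have e2 := mul_mem (inv_mem (hsqA x0 hx0)) (F.cj_mem hx0.1 e)
      convert e2 using 1; rw [ha0]; simp only [cj_apply]; group
  obtain ⟨a, ha⟩ := (Finite.injective_iff_surjective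
    (f := fun a : A => (⟨(a : X) * (cj h (a : X))⁻¹, mul_mem a.2 (inv_mem (F.inv.hmem _ a.2))⟩ : A))).1
    (fun a b e => by
      have e' : (a : X) * (cj h (a : X))⁻¹ = (b : X) * (cj h (b : X))⁻¹ := congrArg Subtype.val e
      have hc := F.comm _ (inv_mem b.2) _ a.2
      refine Subtype.ext (inv_mul_eq_one.1 ?_).symm
      refine F.fpf _ (mul_mem (inv_mem b.2) a.2) ?_
      rw [map_mul, map_inv]
      calc (cj h (b : X))⁻¹ * cj h (a : X)
          = (b : X)⁻¹ * ((b : X) * (cj h (b : X))⁻¹) * cj h (a : X) := by group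
        _ = (b : X)⁻¹ * ((a : X) * (cj h (a : X))⁻¹) * cj h (a : X) := by rw [e']
        _ = (b : X)⁻¹ * a := by group) ⟨a0, ha0A⟩
  have hae : (a : X) * (cj h (a : X))⁻¹ = a0 := congrArg Subtype.val ha
  set x := x0 * (a : X) with hxdef
  have hxC : x ∈ cen S U := mul_mem hx0 (F.inv.le a.2)
  have hxA : x ∉ A := fun e => hx0A (by
    have := mul_mem e (inv_mem a.2); rwa [hxdef, mul_inv_cancel_right] at this)
  have hxh : cj h x = x := by
    rw [hxdef, map_mul, show cj h x0 = x0 * a0 by rw [ha0, mul_inv_cancel_left], ← hae]; group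
  have hsplit : ∀ c ∈ cen S U, c ∈ A ∨ c * x ∈ A := fun c hc => (hsplit0 c hc).imp_right fun e => by
    rw [hxdef, ← mul_assoc]; exact mul_mem e a.2
  have hx2 : x * x = 1 := F.fpf _ (hsqA x hxC) (by rw [map_mul, hxh])
  have hxZ := hZall x hxC
  have heps2 : ∀ a ∈ A, cj x a * a ∈ U := by
    intro a ha
    have hm : cj x a * a ∈ A := mul_mem (F.cj_mem hxC.1 ha) ha
    refine F.omega _ hm ?_
    refine F.descent (fun a => cj x a * a) (fun a ha => mul_mem (F.cj_mem hxC.1 ha) ha)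
      (fun a ha i => ?_) (fun a ha => Or.inl ?_) (fun a ha => ?_) a ha
    · show cj x (a ^ i) * a ^ i = _
      rw [map_pow, ← Commute.mul_pow (F.comm _ (F.cj_mem hxC.1 ha) _ ha)]
    · show cj x (cj x a * a) * (cj x a * a) = _
      rw [map_mul, ← cj_mul, hx2, cj_one, F.comm a ha _ (F.cj_mem hxC.1 ha), pow_two]
    · show (cj x a * a) ^ 2 ^ (n - 2) = 1
      have h1 := hscalar hxZ hxA (co (a ^ 2 ^ (n - 1)))
      rw [← hdd hxC ha (hco _ (F.top_mem ha)).symm, hco _ (F.top_mem ha)] at h1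
      rw [show cj x a * a = (cj x a * a⁻¹) * a ^ 2 by rw [pow_two]; group,
        Commute.mul_pow (F.comm _ (F.delta_mem hxC ha) _ (A.pow_mem ha 2)), h1, ← pow_mul,
        ← pow_succ', show n - 2 + 1 = n - 1 by omega, F.core.base.sq _ (F.top_mem ha)]
  have hfix : ∀ c ∈ cen S U, cj h c = c → c = 1 ∨ c = x := by
    intro c hc hfc
    rcases hsplit c hc with e | e
    · exact Or.inl (F.fpf c e hfc)
    · refine Or.inr ?_
      have h1 := F.fpf _ e (by rw [map_mul, hfc, hxh])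
      exact (eq_inv_of_mul_eq_one_left h1).trans (pow_two_cases hx2)
  refine ⟨x, F, hn, hxC, hxA, hx2, hxh, hsplit, heps2, hfix, fun t ht hth => ?_⟩
  have htx : cj t x = x := by
    have h1 : cj h (cj t x) = cj t x := by
      have e : cj h⁻¹ x = x := by conv_lhs => rw [← hxh, cj_inv_cancel]
      conv_rhs => rw [← e]
      rw [← cj_mul, ← cj_mul]
      congr 2
      calc h * t = (t * h * t⁻¹)⁻¹ * t := by rw [hth, inv_inv]
        _ = t * h⁻¹ := by group
    rcases hfix _ (F.core.base.cen_normal ht hxC) h1 with e | e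
    · exact absurd (by rw [← cj_inv_cancel t x, e, map_one]) (fun e' : x = 1 => hxA (e' ▸ A.one_mem))
    · exact e
  refine ⟨htx, ?_⟩
  by_cases htC : t ∈ cen S U
  · exact Or.inr (Or.inr htC)
  have h2 : cj h (t * t) = t * t := by
    rw [cj_eq_self]
    have h3 : t * h⁻¹ * t⁻¹ = h := by
      rw [show t * h⁻¹ * t⁻¹ = (t * h * t⁻¹)⁻¹ by group, hth, inv_inv]
    calc h * (t * t) = (t * h⁻¹ * t⁻¹) * (t * t) := by rw [h3]
      _ = t * h⁻¹ * t := by group
      _ = t * (t * h * t⁻¹) * t := by rw [hth]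
      _ = (t * t) * h := by group
  rcases hfix _ (F.core.base.mul_mem_cen ht htC ht htC) h2 with e | e
  · exact Or.inl e
  · exact Or.inr (Or.inl e)

end Frame

end Cfsg.Agent.Lib.NoEight59
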