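import Cfsg.Agent.Lib.NoEight59.Eps
import Cfsg.Agent.Lib.G2Fusion23.Model

/-!
# `S` is `(Z/2ⁿ)² : ⟨-1, swap⟩` for `n ≥ 3` (S3102, helper59)
-/

set_option autoImplicit false
set_option linter.unusedSectionVars false
set_option linter.style.haveILetI false

namespace Cfsg.Agent.Lib.NoEight59

open Subgroup Cfsg.Agent.Lib.G2Fusion23

variable {X : Type*} [Group X] [Finite X] {S : Sylow 2 X} {U : Subgroup X} {h : X} {A : Subgroup X}
  {n : ℕ} {x s a : X}

theorem Outer.model (O : Outer S U h A n x s a) :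
    Nonempty (El (ZMod (2 ^ n)) ≃* ↥(S : Subgroup X)) := by
  classical
  have B := O.big
  have F := B.frame
  have : NeZero (2 ^ n) := ⟨by positivity⟩
  set b := cj s a with hb
  have hbA : b ∈ A := O.hb
  have hc : Commute a b := O.comm_ab
  let ev : ZMod (2 ^ n) → ZMod (2 ^ n) → X := fun i j => a ^ i.val * b ^ j.val
  have hevA : ∀ i j, ev i j ∈ A := fun i j => mul_mem (A.pow_mem O.ha _) (A.pow_mem hbA _)
  have hpow : ∀ v ∈ A, ∀ i j : ZMod (2 ^ n), v ^ (i + j).val = v ^ i.val * v ^ j.val := fun v hv i j => by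
    rw [← pow_add, ZMod.val_add]
    conv_rhs => rw [← Nat.div_add_mod (i.val + j.val) (2 ^ n), pow_add, pow_mul, F.expo v hv, one_pow, one_mul]
  have hadd : ∀ i j i' j', ev i j * ev i' j' = ev (i + i') (j + j') := fun i j i' j' => by
    simp only [ev]
    rw [hpow a O.ha, hpow b hbA]
    calc a ^ i.val * b ^ j.val * (a ^ i'.val * b ^ j'.val)
        = a ^ i.val * (b ^ j.val * a ^ i'.val) * b ^ j'.val := by group
      _ = a ^ i.val * (a ^ i'.val * b ^ j.val) * b ^ j'.val := by rw [(hc.pow_pow i'.val j.val).eq]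
      _ = _ := by group
  have hev0 : ev 0 0 = 1 := by simp [ev]
  have hneg : ∀ i j, cj x (ev i j) = ev (-i) (-j) := fun i j => by
    rw [O.exact_inv _ (hevA i j)]
    exact (eq_inv_of_mul_eq_one_left (by rw [hadd, neg_add_cancel, neg_add_cancel, hev0])).symm
  have hswap : ∀ i j, cj s (ev i j) = ev j i := fun i j => by
    simp only [ev, map_mul, map_pow]
    rw [← hb, hb, O.sb, ← hb]
    exact ((hc.pow_pow j.val i.val).eq).symm
  have hgen : ∀ k l : Bool, ∀ i j, cj ((if k then x else 1) * (if l then s else 1)) (ev i j) =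
      ev (twist k l i j) (twist k l j i) := by
    intro k l i j
    cases k <;> cases l <;>
      simp only [Bool.false_eq_true, if_false, if_true, one_mul, mul_one, twist, cond_true, cond_false]
    · exact cj_one _
    · exact hswap i j
    · exact hneg i j
    · rw [cj_mul, hswap, hneg]
  have hflag : ∀ k l k' l' : Bool, (if k then x else 1) * (if l then s else 1) *
      ((if k' then x else 1) * (if l' then s else 1)) =
      (if xor k k' then x else 1) * (if xor l l' then s else 1) := by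
    have hxs : s * x = x * s := cj_eq_self.1 O.sx
    have e1 : ∀ y, x * (x * y) = y := fun y => by rw [← mul_assoc, B.sq, one_mul]
    have e2 : ∀ y, s * (x * y) = x * (s * y) := fun y => by rw [← mul_assoc, hxs, mul_assoc]
    intro k l k' l'
    cases k <;> cases l <;> cases k' <;> cases l' <;>
      simp [mul_assoc, e1, e2, hxs, B.sq, O.ss]
  let f : El (ZMod (2 ^ n)) →* X := MonoidHom.mk'
    (fun p => ev p.i p.j * ((if p.k then x else 1) * (if p.l then s else 1))) fun p q => by
      rw [El.mul_def]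
      simp only
      rw [← hflag p.k p.l q.k q.l, ← hadd, ← hgen p.k p.l, cj_apply]
      group
  have hmem : ∀ p, f p ∈ (S : Subgroup X) := fun p =>
    mul_mem (F.mem_S (hevA _ _)) (mul_mem (by split_ifs <;> first | exact B.mem.1 | exact one_mem _)
      (by split_ifs <;> first | exact O.hs | exact one_mem _))
  let g : El (ZMod (2 ^ n)) →* ↥(S : Subgroup X) := f.codRestrict _ hmem
  have hA : ∀ v ∈ A, ∀ k l : Bool, ∃ p, f p = v * ((if k then x else 1) * (if l then s else 1)) := by
    intro v hv k l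
    obtain ⟨i, j, rfl⟩ := O.span v hv
    refine ⟨⟨(i : ZMod (2 ^ n)), (j : ZMod (2 ^ n)), k, l⟩, ?_⟩
    show a ^ (i : ZMod (2 ^ n)).val * b ^ (j : ZMod (2 ^ n)).val * _ = _
    have hred : ∀ v ∈ A, ∀ i : ℕ, v ^ (i : ZMod (2 ^ n)).val = v ^ i := fun v hv i => by
      rw [ZMod.val_natCast]
      conv_rhs => rw [← Nat.div_add_mod i (2 ^ n), pow_add, pow_mul, F.expo v hv, one_pow, one_mul]
    rw [hred a O.ha, hred b hbA]
  have hC : ∀ c ∈ cen S U, ∀ l : Bool, ∃ p, f p = c * (if l then s else 1) := by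
    intro c hc l
    rcases B.split c hc with h1 | h1
    · obtain ⟨p, hp⟩ := hA c h1 false l
      exact ⟨p, by rw [hp]; simp⟩
    · obtain ⟨p, hp⟩ := hA _ h1 true l
      exact ⟨p, by rw [hp]; simp [← mul_assoc, mul_assoc c x x, B.sq]⟩
  have hsurj : Function.Surjective g := by
    rintro ⟨t, ht⟩
    by_cases htC : t ∈ cen S U
    · obtain ⟨p, hp⟩ := hC t htC false
      exact ⟨p, Subtype.ext (by show f p = t; rw [hp]; simp)⟩
    · obtain ⟨p, hp⟩ := hC _ (F.core.base.mul_mem_cen ht htC O.hs O.notC) true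
      exact ⟨p, Subtype.ext (by show f p = t; rw [hp]; simp [mul_assoc, O.ss])⟩
  have hcard : Nat.card ↥(S : Subgroup X) = Nat.card (El (ZMod (2 ^ n))) := by
    have h1 := Subgroup.relIndex_mul_relIndex (⊥ : Subgroup X) A (S : Subgroup X) bot_le
      (fun v hv => F.mem_S hv)
    rw [Subgroup.relIndex_bot_left, Subgroup.relIndex_bot_left, O.relIndex_A, F.card] at h1
    rw [El.card, ← h1, show (4 : ℕ) ^ n = (2 ^ n) ^ 2 by rw [← pow_mul, mul_comm, pow_mul]; norm_num]
    ring
  exact ⟨MulEquiv.ofBijective g ((Nat.bijective_iff_surjective_and_card g).2 ⟨hsurj, hcard.symm⟩)⟩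

end Cfsg.Agent.Lib.NoEight59
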