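import Cfsg.Agent.Lib.NoEight59.Large
import Cfsg.Agent.Lib.NoEight59.Eight

/-!
# For `n ≥ 3` an involution inverts `h` outside `C` (S3102, helper59)
-/

set_option autoImplicit false
set_option linter.unusedSectionVars false
set_option linter.style.haveILetI false

namespace Cfsg.Agent.Lib.NoEight59

open Subgroup

variable {X : Type*} [Group X] [Finite X] {S : Sylow 2 X} {U : Subgroup X} {h : X} {A : Subgroup X}
  {n : ℕ} {x : X}

namespace Big

variable (B : Big S U h A n x)
include B

theorem x_not_U : x ∉ U := fun e => B.not_mem (B.frame.le e)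

theorem x_ne : x ≠ 1 := fun e => B.not_mem (e ▸ A.one_mem)

theorem split' {c : X} (hc : c ∈ cen S U) (hcA : c ∉ A) : x * c ∈ A := by
  have e := B.frame.cj_mem B.mem.1 ((B.split c hc).resolve_left hcA)
  have e' : cj x (c * x) = x * c := by rw [cj_apply]; group
  rwa [e'] at e

theorem inv_four {a : X} (ha : a ∈ A) (h4 : a * a ∈ U) : cj x a = a⁻¹ := by
  have h1 : a ^ 2 ^ (n - 1) = 1 := by
    have := B.three_le
    rw [show n - 1 = 2 + (n - 3) by omega, pow_add, pow_mul, show 2 ^ 2 = 2 * 2 from rfl, pow_mul,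
      pow_two a, pow_two, B.frame.core.base.sq _ h4, one_pow]
  obtain ⟨r, hr, hra⟩ := B.frame.root a ha h1
  have h2 := B.frame.core.base.sq _ (B.eps r hr)
  refine eq_inv_of_mul_eq_one_left ?_
  rw [← hra, map_mul, ← pow_two, ← pow_two r,
    ← Commute.mul_pow (B.frame.comm _ (B.frame.cj_mem B.mem.1 hr) _ hr), pow_two, h2]

theorem cen_x {a : X} (ha : a ∈ A) (hc : cj x a = a) : a ∈ U := by
  have h1 := B.eps a ha
  rw [hc] at h1
  have h2 := B.inv_four ha h1
  rw [hc] at h2
  exact B.frame.omega a ha (mul_eq_one_iff_eq_inv.2 h2)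

/-- The representative action of `v ∈ xA` on `A`. -/
theorem cj_coset {v a : X} (hv : v ∈ cen S U) (hvA : v ∉ A) (ha : a ∈ A) : cj v a = cj x a := by
  have e : v = x * (x * v) := by rw [← mul_assoc, B.sq, one_mul]
  rw [e, cj_mul, cj_eq_self.2 (B.frame.comm _ (B.split' hv hvA) a ha)]

/-- The four-torsion. -/
def four : Subgroup X where
  carrier := {a | a ∈ A ∧ a * a ∈ U}
  one_mem' := ⟨A.one_mem, by rw [mul_one]; exact U.one_mem⟩
  mul_mem' := fun {a b} ha hb => ⟨mul_mem ha.1 hb.1, by
    rw [show a * b * (a * b) = a * (b * a) * b by group, B.frame.comm b hb.1 a ha.1,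
      show a * (a * b) * b = (a * a) * (b * b) by group]
    exact mul_mem ha.2 hb.2⟩
  inv_mem' := fun {a} ha => ⟨inv_mem ha.1, by rw [← mul_inv_rev]; exact inv_mem ha.2⟩

theorem four_le_nor {v : X} (hv : v ∈ cen S U) (hvA : v ∉ A) (hv2 : v * v = 1) {a : X}
    (ha : a ∈ A) (h4 : a * a ∈ U) : cj a v = a * a * v := by
  have h1 : cj v a⁻¹ = a := by
    rw [map_inv, B.cj_coset hv hvA ha, B.inv_four ha h4, inv_inv]
  calc cj a v = a * cj v a⁻¹ * v := by rw [cj_apply, cj_apply]; group
    _ = _ := by rw [h1]

/-- The shapes of the elementary groups of order eight inside `C`. -/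
theorem shape (r : Bool → X) (hr1 : r true = 1)
    (hr : ∀ t ∈ (S : Subgroup X), t ∉ cen S U → (r false)⁻¹ * t ∈ cen S U)
    (hrS : r false ∈ (S : Subgroup X)) (hrx : cj (r false) x = x)
    (hrC : r false ∉ cen S U ∨ (S : Subgroup X) ≤ cen S U ∧ r false = 1)
    {E' : Subgroup X} (hE : E' ≤ cen S U) (h2 : ∀ a ∈ E', a * a = 1) (hE8 : Nat.card E' = 8) :
    Shape S U (eight U x) E' := by
  classical
  have hsplit : ∀ a ∈ E', ∀ b ∈ E', a ∉ A → b ∉ A → a * b ∈ A := by
    intro a ha b hb haA hbA
    have h3 := mul_mem ((B.split a (hE ha)).resolve_left haA) (B.split' (hE hb) hbA)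
    rwa [show a * x * (x * b) = a * (x * x) * b by group, B.sq, mul_one] at h3
  obtain ⟨v, hv, hvA, rfl⟩ := B.frame.core.base.eq_eight hE h2 hE8 B.frame.omega hsplit
  have hvC := hE hv
  refine ⟨le_eight v, ?_, fun u hu hu1 => ?_⟩
  · -- the normalisers
    have hxC := B.mem
    have hE0 : ∀ y ∈ eight U x, ∀ t ∈ (S : Subgroup X), cj t x ∈ eight U x → cj t y ∈ eight U x := by
      intro y hy t ht htx
      induction hy using Subgroup.closure_induction with
      | mem y hy =>
        rcases hy with hy | rfl
        · exact le_eight x (B.frame.core.base.norm t ht y hy)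
        · exact htx
      | one => rw [map_one]; exact one_mem _
      | mul a b _ _ ha hb => rw [map_mul]; exact mul_mem ha hb
      | inv a _ ha => rw [map_inv]; exact inv_mem ha
    have hnor : ∀ t ∈ (S : Subgroup X), cj t x ∈ eight U x → t ∈ nor S (eight U x) := fun t ht htx =>
      ⟨ht, mem_normalizer_iff.2 fun y => ⟨fun hy => hE0 y hy t ht htx, fun hy => by
        let f : eight U x → eight U x := fun y => ⟨cj t y, hE0 y y.2 t ht htx⟩
        obtain ⟨y', hy'⟩ := ((Finite.injective_iff_surjective (f := f)).1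
          fun a b e => Subtype.ext ((cj t).injective (congrArg Subtype.val e))) ⟨_, hy⟩
        exact (cj t).injective (congrArg Subtype.val hy') ▸ y'.2⟩⟩
    let cls : X → Bool × Bool := fun t =>
      let c := decide (t ∈ cen S U)
      (c, decide ((r c)⁻¹ * t ∈ A))
    let rep : Bool × Bool → X := fun k => r k.1 * if k.2 then 1 else x
    have hrc : ∀ t ∈ (S : Subgroup X), (r (decide (t ∈ cen S U)))⁻¹ * t ∈ cen S U := fun t ht => by
      by_cases htC : t ∈ cen S U
      · rw [decide_eq_true htC, hr1, inv_one, one_mul]; exact htC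
      · rw [decide_eq_false htC]; exact hr t ht htC
    rcases hrC with hrC | ⟨hSC, hr0⟩
    · refine B.frame.core.base.card_nor_le (A := A) (T := B.four) cls rep ?_ ?_ ?_ ?_ ?_ (fun a ha => ha.1)
      · intro t₁ h₁ t₂ h₂ e
        simp only [cls, Prod.mk.injEq] at e
        obtain ⟨e1, e2⟩ := e
        rw [← e1] at e2
        have c1 := hrc t₁ h₁
        have c2 := hrc t₂ h₂
        rw [← e1] at c2
        set ρ := r (decide (t₁ ∈ cen S U))
        have key : (ρ⁻¹ * t₁)⁻¹ * (ρ⁻¹ * t₂) ∈ A := by
          by_cases hA1 : ρ⁻¹ * t₁ ∈ A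
          · exact mul_mem (inv_mem hA1) (by simpa [hA1] using e2.symm)
          · have hA2 : ρ⁻¹ * t₂ ∉ A := by simpa [hA1] using e2.symm
            have := mul_mem (inv_mem (B.split' c1 hA1)) (B.split' c2 hA2)
            rwa [mul_inv_rev, mul_assoc, inv_mul_cancel_left] at this
        rwa [show (ρ⁻¹ * t₁)⁻¹ * (ρ⁻¹ * t₂) = t₁⁻¹ * t₂ by group] at key
      · rintro ⟨c, b⟩ a ha
        have hcC : ∀ b : Bool, (if b then (1 : X) else x) * a ∈ cen S U := fun b => by
          cases b
          · exact mul_mem B.mem (B.frame.inv.le ha)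
          · exact mul_mem (one_mem _) (B.frame.inv.le ha)
        have hc : decide (rep (c, b) * a ∈ cen S U) = c := by
          simp only [rep]
          cases c
          · refine decide_eq_false fun e => hrC ?_
            rw [mul_assoc] at e
            exact ((cen S U).mul_mem_cancel_right (hcC b)).1 e
          · refine decide_eq_true ?_
            rw [hr1, one_mul]; exact hcC b
        simp only [cls, hc, Prod.mk.injEq, true_and]
        simp only [rep]
        rw [show (r c)⁻¹ * ((r c * if b then 1 else x) * a) = (if b then 1 else x) * a by group]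
        cases b
        · exact decide_eq_false fun e => B.not_mem ((A.mul_mem_cancel_right ha).1 (by simpa using e))
        · exact decide_eq_true (by simpa using ha)
      · rintro ⟨c, b⟩
        refine mul_mem ?_ ?_
        · cases c
          · exact hnor _ hrS (by rw [hrx]; exact self_mem_eight x)
          · rw [hr1]; exact one_mem _
        · cases b
          · exact hnor _ hxC.1 (show cj x x ∈ eight U x by rw [cj_eq_self.2 rfl]; exact self_mem_eight x)
          · exact one_mem _
      · intro a ha
        refine hnor a (B.frame.mem_S ha.1) ?_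
        rw [B.four_le_nor hxC B.not_mem B.sq ha.1 ha.2]
        exact mul_mem (le_eight x ha.2) (self_mem_eight x)
      · intro a ha han
        refine ⟨ha, ?_⟩
        have h3 := (mem_normalizer_iff.1 han.2 v).1 (self_mem_eight v)
        have e : cj a v * v = a * cj v a⁻¹ := by
          calc cj a v * v = a * cj v a⁻¹ * (v * v) := by rw [cj_apply, cj_apply]; group
            _ = _ := by rw [h2 v hv, mul_one]
        have h4 : a * cj v a⁻¹ ∈ U := by
          have hm : cj a v * v ∈ eight U v := mul_mem h3 (self_mem_eight v)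
          rw [e] at hm
          rcases (B.frame.core.base.mem_eight hvC (h2 v hv)).1 hm with e' | e'
          · exact e'
          · exact absurd ((A.mul_mem_cancel_right (mul_mem ha (B.frame.cj_mem hvC.1 (inv_mem ha)))).1
              (B.frame.le e')) hvA
        rw [map_inv, B.cj_coset hvC hvA ha] at h4
        have := mul_mem h4 (B.eps a ha)
        rwa [mul_assoc, inv_mul_cancel_left] at this
    · refine B.frame.core.base.card_nor_le (A := A) (T := B.four) (fun t => decide (t ∈ A))
        (fun k => if k then 1 else x) ?_ ?_ ?_ ?_ ?_ (fun a ha => ha.1)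
      · intro t₁ h₁ t₂ h₂ e
        simp only [decide_eq_decide] at e
        by_cases hA1 : t₁ ∈ A
        · exact mul_mem (inv_mem hA1) (e.1 hA1)
        · have := mul_mem (inv_mem (B.split' (hSC h₁) hA1)) (B.split' (hSC h₂) (fun e2 => hA1 (e.2 e2)))
          rwa [mul_inv_rev, mul_assoc, inv_mul_cancel_left] at this
      · intro k a ha
        cases k
        · exact decide_eq_false fun e => B.not_mem ((A.mul_mem_cancel_right ha).1 (by simpa using e))
        · exact decide_eq_true (by simpa using ha)
      · intro k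
        cases k
        · exact hnor _ hxC.1 (show cj x x ∈ eight U x by rw [cj_eq_self.2 rfl]; exact self_mem_eight x)
        · exact one_mem _
      · intro a ha
        refine hnor a (B.frame.mem_S ha.1) ?_
        rw [B.four_le_nor hxC B.not_mem B.sq ha.1 ha.2]
        exact mul_mem (le_eight x ha.2) (self_mem_eight x)
      · intro a ha han
        refine ⟨ha, ?_⟩
        have h3 := (mem_normalizer_iff.1 han.2 v).1 (self_mem_eight v)
        have e : cj a v * v = a * cj v a⁻¹ := by
          calc cj a v * v = a * cj v a⁻¹ * (v * v) := by rw [cj_apply, cj_apply]; group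
            _ = _ := by rw [h2 v hv, mul_one]
        have h4 : a * cj v a⁻¹ ∈ U := by
          have hm : cj a v * v ∈ eight U v := mul_mem h3 (self_mem_eight v)
          rw [e] at hm
          rcases (B.frame.core.base.mem_eight hvC (h2 v hv)).1 hm with e' | e'
          · exact e'
          · exact absurd ((A.mul_mem_cancel_right (mul_mem ha (B.frame.cj_mem hvC.1 (inv_mem ha)))).1
              (B.frame.le e')) hvA
        rw [map_inv, B.cj_coset hvC hvA ha] at h4
        have := mul_mem h4 (B.eps a ha)
        rwa [mul_assoc, inv_mul_cancel_left] at this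
  · obtain ⟨d, hd, hdu⟩ := B.frame.top u hu
    set a := d ^ 2 ^ (n - 2)
    have := B.three_le
    have ha2 : a * a = u := by
      rw [← pow_two, ← pow_mul, ← pow_succ, show n - 2 + 1 = n - 1 by omega, hdu]
    refine ⟨a, ha2, fun y hy => ?_, fun y hy hyU => ?_⟩
    · exact (mem_cen.1 (B.frame.inv.le (A.pow_mem hd _))).2 y hy
    · have hy' := hE hy
      rw [← ha2]
      exact B.four_le_nor hy' (fun e => hyU (B.frame.omega y e (h2 y hy))) (h2 y hy)
        (A.pow_mem hd _) (ha2 ▸ hu)

/-- Fusion of `x` contradicts the absence of suitable elements outside `C`. -/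
theorem false_of_fused (r : Bool → X) (hr1 : r true = 1)
    (hr : ∀ t ∈ (S : Subgroup X), t ∉ cen S U → (r false)⁻¹ * t ∈ cen S U)
    (hrS : r false ∈ (S : Subgroup X)) (hrx : cj (r false) x = x)
    (hrC : r false ∉ cen S U ∨ (S : Subgroup X) ≤ cen S U ∧ r false = 1)
    (hsq : ∀ t ∈ (S : Subgroup X), t ∉ cen S U → t * t ∉ U)
    {v : X} (hv : v ∈ A) (hxv : IsConj x v) : False := by
  obtain ⟨g0, hg0⟩ := isConj_iff.1 hxv
  have hv2 : v * v = 1 := by
    rw [← hg0, ← cj_apply, ← map_mul, B.sq, map_one]
  have hv1 : v ≠ 1 := fun e => B.x_ne (by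
    rw [← cj_inv_cancel g0 x, cj_apply g0, hg0, e, map_one])
  set E := eight U x
  have H := B.frame.core.base
  have hEC : E ≤ cen S U := H.eight_le B.mem
  obtain ⟨g, hgx, -, -, hgE⟩ := H.fuse E (isPGroup_cen.to_le hEC)
    (fun y hy => H.eight_comm B.mem x (self_mem_eight x) y hy) (B.frame.omega v hv hv2) hv1 hxv
  have h2 : ∀ a ∈ E, a * a = 1 := fun a ha => by
    rcases (H.mem_eight B.mem B.sq).1 ha with e | e
    · exact H.sq a e
    · have h3 := H.sq _ e
      have hc : x * a = a * x := H.eight_comm B.mem x (self_mem_eight x) a ha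
      rw [show x * a * (x * a) = x * (a * x) * a by group, ← hc,
        show x * (x * a) * a = (x * x) * (a * a) by group, B.sq, one_mul] at h3
      exact h3
  refine H.trick (fun e he => (hEC he).1) (H.eight_comm B.mem) (H.eight_card B.mem B.sq B.x_not_U)
    (le_eight x) (self_mem_eight x) B.x_not_U hgx hgE (fun k hk => ?_) hsq
  refine B.shape r hr1 hr hrS hrx hrC ?_ ?_ ?_
  · rintro _ ⟨e, he, rfl⟩
    by_contra hn
    refine hsq _ (hk e he) hn ?_
    show cj k e * cj k e ∈ U
    rw [← map_mul, h2 e he, map_one]; exact U.one_mem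
  · rintro _ ⟨e, he, rfl⟩
    show cj k e * cj k e = 1
    rw [← map_mul, h2 e he, map_one]
  · rw [Subgroup.card_map_of_injective (f := (cj k).toMonoidHom) (cj k).injective,
      H.eight_card B.mem B.sq B.x_not_U]

theorem relIndex_cen : A.relIndex (cen S U) = 2 := by
  rw [Subgroup.relIndex, Subgroup.index_eq_two_iff]
  refine ⟨⟨x, B.mem⟩, fun b => ?_⟩
  rw [xor_iff_iff_not, mem_subgroupOf, mem_subgroupOf, Subgroup.coe_mul]
  exact ⟨fun e hb => B.not_mem ((A.mul_mem_cancel_left hb).1 e), fun hb => (B.split b b.2).resolve_left hb⟩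

/-- An involution outside `C` inverting `h`. -/
theorem exists_s : ∃ s ∈ (S : Subgroup X), s ∉ cen S U ∧ s * h * s⁻¹ = h⁻¹ ∧ cj s x = x ∧ s * s = 1 := by
  classical
  haveI : Fact (Nat.Prime 2) := ⟨Nat.prime_two⟩
  have H := B.frame.core.base
  rcases B.frame.core.swap with hSC | ⟨s, hs, hsC, hsh⟩
  · exfalso
    have hSeq : cen S U = (S : Subgroup X) := le_antisymm inf_le_left hSC
    obtain ⟨v, hv, hxv, -⟩ := G2Fusion23.exists_extremal_mem S A (fun a ha => B.frame.mem_S ha)
      (hSeq ▸ B.relIndex_cen) H.idx x (orderOf_eq_prime (by rw [pow_two, B.sq]) B.x_ne) B.mem.1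
    exact B.false_of_fused (fun _ => 1) rfl (fun t ht htC => absurd (hSC ht) htC) (one_mem _) (cj_one x)
      (Or.inr ⟨hSC, rfl⟩) (fun t ht htC => absurd (hSC ht) htC) hv hxv
  obtain ⟨hsx, hss⟩ := B.sfix s hs hsh
  rcases hss with hss | hss | hss
  · exact ⟨s, hs, hsC, hsh, hsx, hss⟩
  · exfalso
    have hr : ∀ t ∈ (S : Subgroup X), t ∉ cen S U → s⁻¹ * t ∈ cen S U := fun t ht htC =>
      H.mul_mem_cen (inv_mem hs) (fun e => hsC (by have := inv_mem e; rwa [inv_inv] at this)) ht htC
    have hsqA : ∀ t ∈ (S : Subgroup X), t ∉ cen S U → t * t ∉ A := by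
      intro t ht htC hA
      set c := s⁻¹ * t with hc
      have hcC : c ∈ cen S U := hr t ht htC
      have e : t * t = cj s c * x * c := by
        rw [← hss, hc]; simp only [cj_apply]; group
      rcases B.split c hcC with hcA | hcA
      · have h3 : cj s c * x ∈ A := by
          rw [e] at hA; exact (A.mul_mem_cancel_right hcA).1 hA
        exact B.not_mem ((A.mul_mem_cancel_left (B.frame.cj_mem hs hcA)).1 h3)
      · by_cases hcA' : c ∈ A
        · exact B.not_mem ((A.mul_mem_cancel_left hcA').1 hcA)
        have h3 := B.frame.cj_mem hs hcA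
        have h4 := B.split' hcC hcA'
        rw [map_mul, hsx] at h3
        have h5 : c ∈ A := by
          rw [e] at hA; exact (A.mul_mem_cancel_left h3).1 hA
        exact hcA' h5
    haveI hAn : (A.subgroupOf (S : Subgroup X)).Normal :=
      ⟨fun a ha t => mem_subgroupOf.2 (B.frame.cj_mem t.2 ha)⟩
    by_cases hex : ∃ g : X, g⁻¹ * x * g ∈ A
    · obtain ⟨g, hg⟩ := hex
      refine B.false_of_fused (fun b => if b then 1 else s) rfl hr hs hsx (Or.inl hsC)
        (fun t ht htC e => hsqA t ht htC (B.frame.le e)) hg (isConj_iff.2 ⟨g⁻¹, by rw [inv_inv]⟩)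
    push Not at hex
    have hidx : (cen S U).relIndex (S : Subgroup X) = 2 := by
      rw [Subgroup.relIndex, Subgroup.index_eq_two_iff]
      refine ⟨⟨s, hs⟩, fun b => ?_⟩
      rw [xor_iff_iff_not, mem_subgroupOf, mem_subgroupOf, Subgroup.coe_mul]
      exact ⟨fun e hb => hsC (((cen S U).mul_mem_cancel_left hb).1 e),
        fun hb => H.mul_mem_cen b.2 hb hs hsC⟩
    have h1 : A.relIndex (S : Subgroup X) = 4 := by
      rw [← Subgroup.relIndex_mul_relIndex A (cen S U) (S : Subgroup X) B.frame.inv.le inf_le_left,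
        B.relIndex_cen, hidx]
    have hcard : Nat.card (X ⧸ A) % 8 = 4 := by
      have h2 := Subgroup.relIndex_mul_index (fun a ha => B.frame.mem_S ha : A ≤ (S : Subgroup X))
      rw [h1] at h2
      obtain ⟨k, hk⟩ := Nat.odd_iff.2 (Nat.two_dvd_ne_zero.1 S.not_dvd_index)
      show A.index % 8 = 4
      omega
    obtain ⟨N, hN⟩ := exists_index_two_of_four (α := X ⧸ A) hcard s
      (by rw [show 4 = 2 * 2 from rfl, pow_mul, pow_two s, hss, pow_two, B.sq]) fun a => by
        induction a using QuotientGroup.induction_on with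
        | H g =>
          rw [hss, MulAction.Quotient.smul_mk, smul_eq_mul, ne_eq, QuotientGroup.eq]
          intro e
          refine hex g ?_
          have := inv_mem e
          rwa [show ((x * g)⁻¹ * g)⁻¹ = g⁻¹ * x * g by group] at this
    exact H.idx N hN
  · exfalso
    exact hsC hss

end Big

end Cfsg.Agent.Lib.NoEight59
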