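import Cfsg.Agent.Lib.NoEight59.Homo

/-!
# `A` is self-centralising and not a four-group (S3102, helper59)
-/

set_option autoImplicit false
set_option linter.unusedSectionVars false
set_option linter.style.haveILetI false

namespace Cfsg.Agent.Lib.NoEight59

open Subgroup

variable {X : Type*} [Group X] [Finite X] {S : Sylow 2 X} {U : Subgroup X} {h : X} {A : Subgroup X}
  {n : ℕ}

namespace Frame

variable (F : Frame S U h A n)

/-- The elements centralising `A`, of square in `A` and central modulo `A` in `C`. -/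
def layer (F : Frame S U h A n) : Subgroup X where
  carrier := {b | b ∈ cen S U ∧ (∀ a ∈ A, b * a = a * b) ∧ b * b ∈ A ∧
    ∀ c ∈ cen S U, cj c b * b⁻¹ ∈ A}
  one_mem' := ⟨one_mem _, fun a _ => by rw [one_mul, mul_one], by rw [mul_one]; exact A.one_mem,
    fun c _ => by rw [map_one, inv_one, mul_one]; exact A.one_mem⟩
  mul_mem' := fun {x y} hx hy => by
    refine ⟨mul_mem hx.1 hy.1, fun a ha => by rw [mul_assoc, hy.2.1 a ha, ← mul_assoc, hx.2.1 a ha,
      mul_assoc], ?_, fun c hc => ?_⟩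
    · have e : x * y * (x * y) = x * (cj y x * x⁻¹) * x⁻¹ * (x * x) * (y * y) := by
        rw [cj_apply]; group
      rw [e, hx.2.1 _ (hx.2.2.2 y hy.1), mul_inv_cancel_right]
      exact mul_mem (mul_mem (hx.2.2.2 y hy.1) hx.2.2.1) hy.2.2.1
    · have e : cj c (x * y) * (x * y)⁻¹ = (cj c x * x⁻¹) * (x * (cj c y * y⁻¹) * x⁻¹) := by
        rw [map_mul]; group
      rw [e, hx.2.1 _ (hy.2.2.2 c hc), mul_inv_cancel_right]
      exact mul_mem (hx.2.2.2 c hc) (hy.2.2.2 c hc)
  inv_mem' := fun {x} hx => by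
    refine ⟨inv_mem hx.1, fun a ha => (Commute.inv_left (hx.2.1 a ha)).eq, ?_, fun c hc => ?_⟩
    · rw [← mul_inv_rev]; exact inv_mem hx.2.2.1
    · have e : cj c x⁻¹ * x⁻¹⁻¹ = x⁻¹ * (x * (cj c x)⁻¹) * x := by rw [map_inv, inv_inv]; group
      have h1 : x * (cj c x)⁻¹ ∈ A := by
        rw [show x * (cj c x)⁻¹ = (cj c x * x⁻¹)⁻¹ by group]; exact inv_mem (hx.2.2.2 c hc)
      rw [e, (Commute.inv_left (hx.2.1 _ h1)).eq, inv_mul_cancel_right]
      exact h1

include F

theorem mem_S {a : X} (ha : a ∈ A) : a ∈ (S : Subgroup X) := (F.inv.le ha).1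

theorem top_mem {a : X} (ha : a ∈ A) : a ^ 2 ^ (n - 1) ∈ U :=
  F.omega _ (A.pow_mem ha _) (by
    rw [← pow_two, ← pow_mul, ← pow_succ, Nat.sub_add_cancel F.npos, F.expo a ha])

theorem le_layer : A ≤ F.layer := fun a ha =>
  ⟨F.inv.le ha, fun b hb => F.comm a ha b hb, mul_mem ha ha, fun c hc =>
    mul_mem (F.inv.smem c hc.1 a ha) (inv_mem ha)⟩

theorem layer_invt : Invt S U h F.layer := by
  refine ⟨fun b hb => hb.1, fun b hb => ⟨F.core.hC b hb.1, fun a ha => ?_, ?_, fun c hc => ?_⟩,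
    fun t ht b hb => ⟨F.core.base.cen_normal ht hb.1, fun a ha => ?_, ?_, fun c hc => ?_⟩⟩
  · rw [← cj_cancel_inv h a, ← map_mul, ← map_mul, hb.2.1 _ (F.inv.hmem_inv a ha)]
  · rw [← map_mul]; exact F.inv.hmem _ hb.2.2.1
  · have hc' := cj_inv_mem F.core.hC c hc
    have := F.inv.hmem _ (hb.2.2.2 _ hc')
    convert this using 1
    simp only [cj_apply]; group
  · rw [← cj_cancel_inv t a, ← map_mul, ← map_mul, hb.2.1 _ (F.inv.smem _ (inv_mem ht) a ha)]
  · rw [← map_mul]; exact F.inv.smem t ht _ hb.2.2.1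
  · have hc' := F.core.base.cen_normal (inv_mem ht) hc
    have := F.inv.smem t ht _ (hb.2.2.2 _ hc')
    convert this using 1
    simp only [cj_apply]; group

/-- The commutator of two elements of the layer has square one. -/
theorem layer_comm {x y : X} (hx : x ∈ F.layer) (hy : y ∈ F.layer) :
    cj y x * x⁻¹ ∈ U ∧ x * y * (x * y) = cj y x * x⁻¹ * (x * x) * (y * y) := by
  have he := hx.2.2.2 y hy.1
  refine ⟨F.omega _ he ?_, ?_⟩
  · have h1 : cj (y * y) x = x := cj_eq_self.2 (hx.2.1 _ hy.2.2.1).symm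
    have h2 : cj y (cj y x * x⁻¹) = cj y x * x⁻¹ := cj_eq_self.2 (hy.2.1 _ he)
    calc (cj y x * x⁻¹) * (cj y x * x⁻¹) = cj y (cj y x * x⁻¹) * (cj y x * x⁻¹) := by rw [h2]
      _ = cj (y * y) x * x⁻¹ := by rw [cj_mul, map_mul, map_inv]; group
      _ = 1 := by rw [h1, mul_inv_cancel]
  · have e : x * y * (x * y) = x * (cj y x * x⁻¹) * x⁻¹ * (x * x) * (y * y) := by
      rw [cj_apply]; group
    rw [e, hx.2.1 _ he, mul_inv_cancel_right]

/-- A fixed element whose square is a square yields a normal elementary eight. -/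
theorem fixed_square {b c : X} (hb : b ∈ F.layer) (hbA : b ∉ A) (hc : c ∈ A) (hsq : c * c = b * b)
    (hfix : ∀ t ∈ (S : Subgroup X), cj t b * b⁻¹ ∈ A) : False := by
  have hbc : Commute b c⁻¹ := (Commute.inv_right (hb.2.1 c hc))
  have hy : b * c⁻¹ ∈ F.layer := mul_mem hb (F.le_layer (inv_mem hc))
  have hy2 : b * c⁻¹ * (b * c⁻¹) = 1 := by
    rw [← pow_two, hbc.mul_pow, inv_pow, pow_two, pow_two, hsq, mul_inv_cancel]
  refine F.core.no_normal_eight hy.1 hy2 (fun e => hbA ?_) fun t ht => ?_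
  · have := mul_mem (F.le e) hc
    rwa [inv_mul_cancel_right] at this
  · have ha : cj t (b * c⁻¹) * (b * c⁻¹)⁻¹ ∈ A := by
      rw [show cj t (b * c⁻¹) * (b * c⁻¹)⁻¹ = cj t b * (cj t c⁻¹ * c) * b⁻¹ by rw [map_mul]; group]
      have hd : cj t c⁻¹ * c ∈ A := mul_mem (F.inv.smem t ht _ (inv_mem hc)) hc
      rw [show cj t b * (cj t c⁻¹ * c) * b⁻¹ =
        cj t b * b⁻¹ * (b * (cj t c⁻¹ * c) * b⁻¹) by group, hb.2.1 _ hd, mul_inv_cancel_right]
      exact mul_mem (hfix t ht) hd
    refine F.omega _ ha ?_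
    have hcm : Commute (cj t (b * c⁻¹) * (b * c⁻¹)⁻¹) (b * c⁻¹) := (hy.2.1 _ ha).symm
    have := hcm.mul_pow 2
    rw [inv_mul_cancel_right, pow_two, ← map_mul, hy2, map_one, pow_two (b * c⁻¹), hy2, mul_one,
      pow_two] at this
    exact this.symm

/-- A fixed element moved within its orbit gives a larger abelian subgroup. -/
theorem orbit_abelian {x : X} (hb : x ∈ F.layer) (hbA : x ∉ A)
    (hfix : ∀ t ∈ (S : Subgroup X), cj t x * x⁻¹ ∈ A) (hper : x⁻¹ * cj h (cj h (cj h x)) ∈ A) :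
    False := by
  have hinv := F.layer_invt
  set y := cj h x with hy
  set y2 := cj h y with hy2
  have hyl : y ∈ F.layer := hinv.hmem x hb
  have hy2l : y2 ∈ F.layer := hinv.hmem y hyl
  have hlc : ∀ {u v : X}, u ∈ F.layer → v ∈ F.layer → u * v * u⁻¹ * v⁻¹ ∈ A := fun {u v} hu hv =>
    hv.2.2.2 u hu.1
  have hexp : ∀ {u : X}, u ∈ F.layer → u * u ∈ A := fun hu => hu.2.2.1
  -- images under an element outside `C`
  have hy3 : cj h y2 * x⁻¹ ∈ A := by
    have h1 := mul_mem (hper : x⁻¹ * cj h y2 ∈ A)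
      (hlc (inv_mem (hinv.hmem y2 hy2l)) hb)
    have e : cj h y2 * x⁻¹ = x * (x⁻¹ * cj h y2) * x⁻¹ := by group
    rw [e, hb.2.1 _ hper, mul_inv_cancel_right]
    exact hper
  have hsw : ∀ t ∈ (S : Subgroup X), t ∉ cen S U →
      cj t y * y2⁻¹ ∈ A ∧ cj t y2 * y⁻¹ ∈ A := by
    intro t ht htC
    rcases F.core.swap with hS | ⟨s, hs, hsC, hsh⟩
    · exact absurd (hS ht) htC
    set c := t * s⁻¹ with hcdef
    have hc : c ∈ cen S U := F.core.base.mul_mem_cen ht htC (inv_mem hs) (fun e => hsC (by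
      have := inv_mem e; rwa [inv_inv] at this))
    have hts : ∀ g, cj t g = cj c (cj s g) := fun g => by
      rw [← cj_mul, hcdef, inv_mul_cancel_right]
    have hsh' : ∀ g, cj s (cj h g) = cj h⁻¹ (cj s g) := fun g => by
      rw [← cj_mul, ← cj_mul, ← hsh, inv_mul_cancel_right]
    have h1 : cj h⁻¹ (cj s x) * y2⁻¹ ∈ A := by
      have h3 := F.inv.hmem_inv _ (mul_mem ((hfix s hs)) (inv_mem hy3))
      simp only [map_mul, map_inv (cj h⁻¹), map_inv (cj h), mul_inv_rev, inv_inv, cj_inv_cancel] at h3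
      convert h3 using 1; group
    have h2 : cj h⁻¹ (cj h⁻¹ (cj s x)) * y⁻¹ ∈ A := by
      have h3 := F.inv.hmem_inv _ h1
      rw [map_mul, map_inv, hy2, cj_inv_cancel] at h3
      exact h3
    have hC' : ∀ {g v : X}, v ∈ F.layer → g * v⁻¹ ∈ A → cj c g * v⁻¹ ∈ A := fun {g v} hv hg => by
      have h3 := mul_mem (F.inv.smem c hc.1 _ hg) (hv.2.2.2 c hc)
      convert h3 using 1; rw [map_mul, map_inv]; group
    refine ⟨?_, ?_⟩
    · rw [hts, hy, hsh']; exact hC' hy2l h1
    · rw [hts, hy2, hsh', hy, hsh']; exact hC' hyl h2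
  set t := x * y * y2 with htdef
  have htl : t ∈ F.layer := mul_mem (mul_mem hb hyl) hy2l
  by_cases htA : t ∈ A
  · -- `B = A⟨x, y⟩`
    have hc := F.layer_comm hb hyl
    obtain ⟨a', ha', hy2e⟩ : ∃ a' ∈ A, y2 = x * y * a' := by
      refine ⟨(x * y)⁻¹ * y2, ?_, by group⟩
      have e : (x * y)⁻¹ * y2 = (x * y * (x * y))⁻¹ * t := by rw [htdef]; group
      rw [e]; exact mul_mem (inv_mem (mul_mem hb hyl).2.2.1) htA
    have hcomm : x * y = y * x := by
      have e1 : cj h (cj y x * x⁻¹) = cj y2 y * y⁻¹ := by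
        rw [map_mul, map_inv, hy2, hy]; simp only [cj_apply]; group
      have e2 : cj y2 y = (cj y x * x⁻¹)⁻¹ * y := by
        rw [hy2e, cj_mul, cj_mul, cj_eq_self.2 (hyl.2.1 a' ha').symm]
        simp only [cj_apply]; group
      have e3 : cj y x * x⁻¹ = 1 := by
        refine F.fpf _ (F.le hc.1) ?_
        rw [e1, e2, mul_inv_cancel_right, pow_two_cases (F.core.base.sq _ hc.1)]
      rw [mul_inv_eq_one, cj_eq_self] at e3
      exact e3.symm
    let B : Subgroup X := Subgroup.closure ((A : Set X) ∪ {x, y})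
    have hBgen : ∀ {f : X ≃* X}, (∀ g ∈ (A : Set X) ∪ {x, y}, f g ∈ B) → ∀ g ∈ B, f g ∈ B := by
      intro f hf g hg
      induction hg using Subgroup.closure_induction with
      | mem g hg => exact hf g hg
      | one => rw [map_one]; exact one_mem _
      | mul a c _ _ ha hc => rw [map_mul]; exact mul_mem ha hc
      | inv a _ ha => rw [map_inv]; exact inv_mem ha
    have hAB : A ≤ B := fun a ha => Subgroup.subset_closure (Or.inl ha)
    have hxB : x ∈ B := Subgroup.subset_closure (Or.inr (Or.inl rfl))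
    have hyB : y ∈ B := Subgroup.subset_closure (Or.inr (Or.inr rfl))
    have hy2B : y2 ∈ B := hy2e ▸ mul_mem (mul_mem hxB hyB) (hAB ha')
    have hBle : B ≤ F.layer := by
      rw [Subgroup.closure_le]
      rintro g (hg | rfl | rfl)
      exacts [F.le_layer hg, hb, hyl]
    have hB : Invt S U h B := by
      refine ⟨fun g hg => (hBle hg).1, hBgen ?_, fun u hu => hBgen ?_⟩
      · rintro g (hg | rfl | rfl)
        exacts [hAB (F.inv.hmem g hg), hyB, hy2B]
      · rintro g (hg | rfl | rfl)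
        · exact hAB (F.inv.smem u hu g hg)
        · have := mul_mem (hAB (hfix u hu)) hxB
          rwa [inv_mul_cancel_right] at this
        · by_cases huC : u ∈ cen S U
          · have := mul_mem (hAB (hyl.2.2.2 u huC)) hyB
            rwa [inv_mul_cancel_right] at this
          · have := mul_mem (hAB (hsw u hu huC).1) hy2B
            rwa [inv_mul_cancel_right] at this
    have hgen : ∀ g ∈ (A : Set X) ∪ {x, y}, ∀ g' ∈ (A : Set X) ∪ {x, y}, g * g' = g' * g := by
      rintro g (hg | rfl | rfl) g' (hg' | rfl | rfl)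
      exacts [F.comm g hg g' hg', (hb.2.1 g hg).symm, (hyl.2.1 g hg).symm, hb.2.1 g' hg', rfl, hcomm,
        hyl.2.1 g' hg', hcomm.symm, rfl]
    have hBc : ∀ a ∈ B, ∀ c ∈ B, a * c = c * a := by
      have h1 : B ≤ centralizer ((A : Set X) ∪ {x, y}) := by
        rw [Subgroup.closure_le]; exact fun g hg g' hg' => hgen g' hg' g hg
      intro a ha c hc
      have h2 : B ≤ centralizer ({a} : Set X) := by
        rw [Subgroup.closure_le]
        intro g hg
        exact mem_centralizer_singleton_iff.2 (h1 ha g hg)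
      exact (mem_centralizer_singleton_iff.1 (h2 hc)).symm
    exact hbA (F.max B hB hBc hAB hxB)
  · -- `B = A ∪ tA`
    have htfix : ∀ u ∈ (S : Subgroup X), cj u t * t⁻¹ ∈ A := by
      intro u hu
      by_cases huC : u ∈ cen S U
      · exact htl.2.2.2 u huC
      obtain ⟨h1, h2⟩ := hsw u hu huC
      have h0 := hfix u hu
      have e : cj u t * t⁻¹ = (cj u x * x⁻¹) * (x * ((cj u y * y2⁻¹) *
          (y2 * (cj u y2 * y⁻¹) * y2⁻¹) * (y2 * y * y2⁻¹ * y⁻¹)) * x⁻¹) := by
        rw [htdef, map_mul, map_mul]; group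
      have h3 : (cj u y * y2⁻¹) * (y2 * (cj u y2 * y⁻¹) * y2⁻¹) * (y2 * y * y2⁻¹ * y⁻¹) ∈ A := by
        rw [hy2l.2.1 _ h2, mul_inv_cancel_right]
        exact mul_mem (mul_mem h1 h2) (hlc hy2l hyl)
      rw [e, hb.2.1 _ h3, mul_inv_cancel_right]
      exact mul_mem h0 h3
    have hth : cj h t * t⁻¹ ∈ A := by
      have e : cj h t * t⁻¹ = (y * (y2 * (cj h y2 * x⁻¹) * y2⁻¹) * y⁻¹) *
          (y * (y2 * x * y2⁻¹ * x⁻¹) * y⁻¹) * (y * x * y⁻¹ * x⁻¹) := by
        rw [htdef, map_mul, map_mul, ← hy, ← hy2]; group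
      rw [e, hy2l.2.1 _ hy3, mul_inv_cancel_right, hyl.2.1 _ hy3, mul_inv_cancel_right,
        hyl.2.1 _ (hlc hy2l hb), mul_inv_cancel_right]
      exact mul_mem (mul_mem hy3 (hlc hy2l hb)) (hlc hyl hb)
    let B : Subgroup X := Subgroup.closure ((A : Set X) ∪ {t})
    have hAB : A ≤ B := fun a ha => Subgroup.subset_closure (Or.inl ha)
    have htB : t ∈ B := Subgroup.subset_closure (Or.inr rfl)
    have hgenB : ∀ {f : X ≃* X}, (∀ a ∈ A, f a ∈ A) → f t * t⁻¹ ∈ A → ∀ g ∈ B, f g ∈ B := by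
      intro f hfA hft g hg
      induction hg using Subgroup.closure_induction with
      | mem g hg =>
        rcases hg with hg | rfl
        · exact hAB (hfA g hg)
        · have := mul_mem (hAB hft) htB
          rwa [inv_mul_cancel_right] at this
      | one => rw [map_one]; exact one_mem _
      | mul a c _ _ ha hc => rw [map_mul]; exact mul_mem ha hc
      | inv a _ ha => rw [map_inv]; exact inv_mem ha
    have hBle : B ≤ F.layer := by
      rw [Subgroup.closure_le]
      rintro g (hg | rfl)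
      exacts [F.le_layer hg, htl]
    have hB : Invt S U h B := ⟨fun g hg => (hBle hg).1, hgenB F.inv.hmem hth,
      fun u hu => hgenB (F.inv.smem u hu) (htfix u hu)⟩
    have hBc : ∀ a ∈ B, ∀ c ∈ B, a * c = c * a := by
      have h1 : B ≤ centralizer ((A : Set X) ∪ {t}) := by
        rw [Subgroup.closure_le]
        rintro g (hg | rfl) g' (hg' | rfl)
        exacts [F.comm g' hg' g hg, htl.2.1 g hg, (htl.2.1 g' hg').symm, rfl]
      intro a ha c hc
      have h2 : B ≤ centralizer ({a} : Set X) := by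
        rw [Subgroup.closure_le]
        intro g hg
        exact mem_centralizer_singleton_iff.2 (h1 ha g hg)
      exact (mem_centralizer_singleton_iff.1 (h2 hc)).symm
    exact htA (F.max B hB hBc hAB htB)

end Frame

end Cfsg.Agent.Lib.NoEight59
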