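import Cfsg.Agent.Lib.NoEight59.SelfCent

/-!
# `C_C(A) = A`, `n ≥ 2` and `A ≠ C` (S3102, helper59)
-/

set_option autoImplicit false
set_option linter.unusedSectionVars false
set_option linter.style.haveILetI false

namespace Cfsg.Agent.Lib.NoEight59

open Subgroup

variable {X : Type*} [Group X] [Finite X] {S : Sylow 2 X} {U : Subgroup X} {h : X} {A : Subgroup X}
  {n : ℕ}

/-- The squaring map on the fixed part has degree two in each coordinate. -/
theorem deg_two_of_sq {W : Type*} [Group W] (q : W → ZMod 2) (β : W → W → ZMod 2)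
    (hq : ∀ x y, q (x * y) = q x + q y + β x y) (hβ : ∀ x y z, β (x * y) z = β x z + β y z) :
    Deg 2 q := by
  intro a c x y
  simp only [dif, hq, hβ]
  linear_combination (norm := ring_nf) 0
  simp [show (2 : ZMod 2) = 0 from rfl, show (4 : ZMod 2) = 0 from rfl]

theorem Deg.const_one {W : Type*} [Group W] : ∀ k, Deg k (fun _ : W => (1 : ZMod 2))
  | 0 => fun _ _ => rfl
  | k + 1 => fun a => by
    have : dif a (fun _ : W => (1 : ZMod 2)) = fun _ => 0 := by
      funext x; simp only [dif]; exact CharTwo.add_self_eq_zero 1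
    rw [this]
    clear this
    induction k with
    | zero => exact fun _ _ => rfl
    | succ k ih =>
      intro b
      have : dif b (fun _ : W => (0 : ZMod 2)) = fun _ => 0 := by funext x; simp [dif]
      rw [this]; exact ih

namespace Frame

variable (F : Frame S U h A n)
include F

/-- `W = layer` has order at most `16 * |U|` when `n = 1`. -/
theorem layer_card (hn : n = 1)
    (hno : ∀ x ∈ F.layer, (∀ t ∈ (S : Subgroup X), cj t x * x⁻¹ ∈ A) → x * x = 1 → x ∈ A) :
    ((A.subgroupOf F.layer).index ≤ 16) := by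
  classical
  have hAU : A = U := le_antisymm (fun a ha => F.omega a ha (by
    have := F.expo a ha; rwa [hn, pow_one, pow_two] at this)) F.le
  obtain ⟨z, w, hz, hw, hz1, hw1, hzw, hzc⟩ := F.core.base.exists_basis
  let χ : X → X → ZMod 2 := fun v u => if u = 1 ∨ u = v then 0 else 1
  have hzw1 : z * w ≠ 1 := fun e => hzw ((eq_inv_of_mul_eq_one_left e).trans
    (pow_two_cases (F.core.base.sq w hw)))
  have hzwz : z * w ≠ z := fun e => hw1 (mul_eq_left.1 e)
  have hzww : z * w ≠ w := fun e => hz1 (mul_eq_right.1 e)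
  have hχ : ∀ v, v = z ∨ v = w → ∀ a ∈ U, ∀ b ∈ U, χ v (a * b) = χ v a + χ v b := by
    intro v hv a ha b hb
    have e1 : ∀ {p : X}, p ∈ U → ∀ q : X, p * (p * q) = q := fun {p} hp q => by
      rw [← mul_assoc, F.core.base.sq p hp, one_mul]
    have e2 : w * z = z * w := F.core.base.comm hw hz
    have e3 : w * (z * w) = z := by rw [← mul_assoc, e2, mul_assoc, F.core.base.sq w hw, mul_one]
    have e4 : z * w * z = w := by rw [mul_assoc, e2, ← mul_assoc, F.core.base.sq z hz, one_mul]
    have e5 : z * w * w = z := by rw [mul_assoc, F.core.base.sq w hw, mul_one]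
    have h11 : (0 : ZMod 2) = 1 + 1 := by decide
    rcases hv with rfl | rfl <;>
    rcases F.core.base.cases hz hw hz1 hw1 hzw ha with rfl | rfl | rfl | rfl <;>
    rcases F.core.base.cases hz hw hz1 hw1 hzw hb with rfl | rfl | rfl | rfl <;>
    simp [χ, e1 hz, e2, e3, e4, e5, F.core.base.sq _ hz, F.core.base.sq _ hw,
      F.core.base.sq _ (U.mul_mem hz hw), hz1, hw1, hzw, Ne.symm hzw, hzw1, hzwz, hzww, ← h11]
  -- the fixed part
  let B : Subgroup X :=
    { carrier := {x | x ∈ F.layer ∧ ∀ t ∈ (S : Subgroup X), cj t x * x⁻¹ ∈ A}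
      one_mem' := ⟨one_mem _, fun t _ => by rw [map_one, inv_one, mul_one]; exact A.one_mem⟩
      mul_mem' := fun {x y} hx hy => ⟨mul_mem hx.1 hy.1, fun t ht => by
        have e : cj t (x * y) * (x * y)⁻¹ = (cj t x * x⁻¹) * (x * (cj t y * y⁻¹) * x⁻¹) := by
          rw [map_mul]; group
        rw [e, hx.1.2.1 _ (hy.2 t ht), mul_inv_cancel_right]
        exact mul_mem (hx.2 t ht) (hy.2 t ht)⟩
      inv_mem' := fun {x} hx => ⟨inv_mem hx.1, fun t ht => by
        have e : cj t x⁻¹ * x⁻¹⁻¹ = x⁻¹ * (x * (cj t x)⁻¹) * x := by rw [map_inv, inv_inv]; group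
        have h1 : x * (cj t x)⁻¹ ∈ A := by
          rw [show x * (cj t x)⁻¹ = (cj t x * x⁻¹)⁻¹ by group]; exact inv_mem (hx.2 t ht)
        rw [e, (Commute.inv_left (hx.1.2.1 _ h1)).eq, inv_mul_cancel_right]
        exact h1⟩ }
  have hsqU : ∀ x ∈ F.layer, x * x ∈ U := fun x hx => hAU ▸ hx.2.2.1
  let q : X → B → ZMod 2 := fun v x => χ v ((x : X) * x)
  let β : X → B → B → ZMod 2 := fun v x y => χ v (cj (y : X) x * (x : X)⁻¹)
  have hdeg : ∀ v, v = z ∨ v = w → Deg 2 (q v) := by
    intro v hv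
    refine deg_two_of_sq _ (β v) (fun x y => ?_) (fun x y b => ?_)
    · have hc := F.layer_comm x.2.1 y.2.1
      simp only [q, β, Subgroup.coe_mul]
      rw [hc.2, hχ v hv _ (U.mul_mem hc.1 (hsqU _ x.2.1)) _ (hsqU _ y.2.1),
        hχ v hv _ hc.1 _ (hsqU _ x.2.1)]
      ring
    · have hx := (F.layer_comm x.2.1 b.2.1).1
      have hy := (F.layer_comm y.2.1 b.2.1).1
      simp only [β, Subgroup.coe_mul]
      have e : cj (b : X) ((x : X) * y) * ((x : X) * y)⁻¹ =
          (cj (b : X) x * (x : X)⁻¹) * ((x : X) * (cj (b : X) y * (y : X)⁻¹) * (x : X)⁻¹) := by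
        rw [map_mul]; group
      rw [e, x.2.1.2.1 _ (F.le hy), mul_inv_cancel_right, hχ v hv _ hx _ hy]
  have hind : ∀ x : B, x ∈ A.subgroupOf B ↔ (x : X) * x = 1 := fun x => by
    rw [mem_subgroupOf]
    exact ⟨fun e => F.core.base.sq _ (hAU ▸ e), fun e => hno _ x.2.1 x.2.2 e⟩
  have hsq' : ∀ x : B, x * x ∈ A.subgroupOf B := fun x => mem_subgroupOf.2 x.2.1.2.2.1
  have hAB : A ≤ B := fun a ha => ⟨F.le_layer ha, fun t ht =>
    mul_mem (F.inv.smem t ht a ha) (inv_mem ha)⟩
  have hBle : B ≤ F.layer := fun x hx => hx.1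
  have hA4 : Nat.card (A.subgroupOf B) = 4 := by
    rw [Nat.card_congr (Subgroup.subgroupOfEquivOfLe hAB).toEquiv, hAU, F.core.base.card]
  -- the general bound on `B`
  have hB16 : (A.subgroupOf B).index ≤ 16 ∧
      (¬ (S : Subgroup X) ≤ cen S U → (A.subgroupOf B).index ≤ 4) := by
    have hbound : ∀ k, Deg k (fun x : B => if x ∈ A.subgroupOf B then (1 : ZMod 2) else 0) →
        (A.subgroupOf B).index ≤ 2 ^ k := fun k hk => by
      have h1 := card_le_of_deg k (A.subgroupOf B) hsq' hk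
      rw [← Subgroup.card_mul_index (A.subgroupOf B)] at h1
      exact Nat.le_of_mul_le_mul_left h1 Nat.card_pos
    refine ⟨hbound 4 ?_, fun hne => hbound 2 ?_⟩
    · have e : (fun x : B => if x ∈ A.subgroupOf B then (1 : ZMod 2) else 0) =
          ((fun _ => 1) + q z) * ((fun _ => 1) + q w) := by
        funext x
        simp only [Pi.mul_apply, Pi.add_apply, q, hind]
        rcases F.core.base.cases hz hw hz1 hw1 hzw (hsqU _ x.2.1) with e | e | e | e <;>
          simp [χ, e, hz1, hw1, hzw, Ne.symm hzw, hzw1, hzwz, hzww] <;> decide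
      rw [e]
      exact Deg.mul 4 (i := 2) (j := 2) rfl ((Deg.const_one 2).add (hdeg z (Or.inl rfl)))
        ((Deg.const_one 2).add (hdeg w (Or.inr rfl)))
    · obtain ⟨t, ht, htC⟩ := SetLike.not_le_iff_exists.1 hne
      have htw : cj t w ≠ w := fun e => htC (mem_cen.2 ⟨ht,
        fun u hu => F.core.base.two_fixed hz hw hz1 hw1 hzw (hzc t ht) e hu⟩)
      have hfixsq : ∀ x : B, (x : X) * x = 1 ∨ (x : X) * x = z := by
        intro x
        have hf : cj t ((x : X) * x) = (x : X) * x := by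
          obtain ⟨a, ha, ha'⟩ : ∃ a ∈ A, cj t x = a * x :=
            ⟨cj t x * (x : X)⁻¹, x.2.2 t ht, by rw [inv_mul_cancel_right]⟩
          rw [map_mul, ha', show a * (x : X) * (a * x) = a * ((x : X) * a) * x by group,
            x.2.1.2.1 a ha, show a * (a * (x : X)) * x = (a * a) * ((x : X) * x) by group,
            F.core.base.sq a (hAU ▸ ha), one_mul]
        rcases F.core.base.cases hz hw hz1 hw1 hzw (hsqU _ x.2.1) with e | e | e | e
        · exact Or.inl e
        · exact Or.inr e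
        · exact absurd (e ▸ hf) htw
        · exact absurd (by
            have := e ▸ hf
            rw [map_mul, hzc t ht] at this
            exact mul_left_cancel this) htw
      have e : (fun x : B => if x ∈ A.subgroupOf B then (1 : ZMod 2) else 0) =
          (fun _ => 1) + q w := by
        funext x
        simp only [Pi.add_apply, q, hind]
        rcases hfixsq x with e | e <;>
          simp [χ, e, hz1, hw1, hzw, Ne.symm hzw] <;> decide
      rw [e]
      exact (Deg.const_one 2).add (hdeg w (Or.inr rfl))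
  haveI : (A.subgroupOf F.layer).Normal := ⟨fun a ha g => mem_subgroupOf.2
    (F.inv.smem (g : X) g.2.1.1 _ ha)⟩
  rcases em ((S : Subgroup X) ≤ cen S U) with hS | hS
  · have : F.layer = B := le_antisymm (fun x hx => ⟨hx, fun t ht => hx.2.2.2 t (hS ht)⟩) hBle
    rw [this]; exact hB16.1
  obtain ⟨s, hs, hsC⟩ := SetLike.not_le_iff_exists.1 hS
  -- `x ↦ s x x⁻¹` into `B` modulo `A`
  have hlc : ∀ {u v : X}, u ∈ F.layer → v ∈ F.layer → u * v * u⁻¹ * v⁻¹ ∈ A := fun {u v} hu hv =>
    hv.2.2.2 u hu.1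
  have hsl : ∀ x ∈ F.layer, cj s x * x⁻¹ ∈ F.layer := fun x hx =>
    mul_mem (F.layer_invt.smem s hs x hx) (inv_mem hx)
  let f : F.layer →* ↥F.layer ⧸ A.subgroupOf F.layer := MonoidHom.mk'
    (fun x => QuotientGroup.mk ⟨cj s (x : X) * (x : X)⁻¹, hsl x x.2⟩) fun x y => by
      rw [← QuotientGroup.mk_mul, QuotientGroup.eq, mem_subgroupOf]
      simp only [Subgroup.coe_mul, Subgroup.coe_inv]
      have hq := F.layer.mul_mem (hsl _ y.2) (F.layer.one_mem)
      rw [mul_one] at hq
      have e : (cj s ((x : X) * y) * ((x : X) * y)⁻¹)⁻¹ *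
          ((cj s (x : X) * (x : X)⁻¹) * (cj s (y : X) * (y : X)⁻¹)) =
          ((x : X) * y) * ((cj s (y : X))⁻¹ * (x : X)⁻¹ * cj s (y : X) * (x : X)⁻¹⁻¹) *
            ((x : X) * y)⁻¹ * ((x : X) * (y : X) * (x : X)⁻¹ * (y : X)⁻¹) := by
        rw [map_mul]; group
      rw [e, show (cj s (y : X))⁻¹ * (x : X)⁻¹ * cj s (y : X) * (x : X)⁻¹⁻¹ =
        (cj s (y : X))⁻¹ * (x : X)⁻¹ * (cj s (y : X))⁻¹⁻¹ * (x : X)⁻¹⁻¹ by rw [inv_inv (cj s (y : X))]]
      have h1 := hlc (inv_mem (F.layer_invt.smem s hs _ y.2)) (inv_mem x.2)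
      rw [(mul_mem x.2 y.2).2.1 _ h1, mul_inv_cancel_right]
      exact mul_mem h1 (hlc x.2 y.2)
  have hker : f.ker = B.subgroupOf F.layer := by
    ext x
    rw [MonoidHom.mem_ker, MonoidHom.mk'_apply, QuotientGroup.eq_one_iff, mem_subgroupOf,
      mem_subgroupOf]
    refine ⟨fun e => ⟨x.2, fun t ht => ?_⟩, fun e => e.2 s hs⟩
    by_cases htC : t ∈ cen S U
    · exact x.2.2.2.2 t htC
    have hc := F.core.base.mul_mem_cen ht htC (inv_mem hs)
      (fun e' => hsC (by have := inv_mem e'; rwa [inv_inv] at this))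
    have h1 := mul_mem (F.inv.smem _ hc.1 _ e) (x.2.2.2.2 _ hc)
    have e2 : cj t (x : X) * (x : X)⁻¹ =
        cj (t * s⁻¹) (cj s (x : X) * (x : X)⁻¹) * (cj (t * s⁻¹) (x : X) * (x : X)⁻¹) := by
      rw [map_mul, map_inv, ← cj_mul, inv_mul_cancel_right]; group
    rw [e2]; exact h1
  have hrange : f.range ≤ (B.subgroupOf F.layer).map (QuotientGroup.mk' _) := by
    rintro _ ⟨x, rfl⟩
    refine ⟨⟨_, hsl x x.2⟩, ⟨hsl x x.2, fun t ht => ?_⟩, rfl⟩
    show cj t (cj s (x : X) * (x : X)⁻¹) * (cj s (x : X) * (x : X)⁻¹)⁻¹ ∈ A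
    by_cases htC : t ∈ cen S U
    · exact (hsl x x.2).2.2.2 t htC
    have hss : s * s ∈ cen S U := F.core.base.mul_mem_cen hs hsC hs hsC
    have hv := hsl x x.2
    have hsv : cj s (cj s (x : X) * (x : X)⁻¹) * (cj s (x : X) * (x : X)⁻¹)⁻¹ ∈ A := by
      have e : cj s (cj s (x : X) * (x : X)⁻¹) * (cj s (x : X) * (x : X)⁻¹)⁻¹ =
          (cj (s * s) (x : X) * (x : X)⁻¹) *
            ((x : X) * (cj s (x : X))⁻¹ * ((x : X) * (cj s (x : X))⁻¹)) := by
        rw [map_mul, map_inv, ← cj_mul]; group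
      rw [e]
      exact mul_mem (x.2.2.2.2 _ hss)
        (mul_mem x.2 (inv_mem (F.layer_invt.smem s hs _ x.2))).2.2.1
    have hc := F.core.base.mul_mem_cen ht htC (inv_mem hs)
      (fun e' => hsC (by have := inv_mem e'; rwa [inv_inv] at this))
    have h1 := mul_mem (F.inv.smem _ hc.1 _ hsv) (hv.2.2.2 _ hc)
    have e2 : cj t (cj s (x : X) * (x : X)⁻¹) * (cj s (x : X) * (x : X)⁻¹)⁻¹ =
        cj (t * s⁻¹) (cj s (cj s (x : X) * (x : X)⁻¹) * (cj s (x : X) * (x : X)⁻¹)⁻¹) *
          (cj (t * s⁻¹) (cj s (x : X) * (x : X)⁻¹) * (cj s (x : X) * (x : X)⁻¹)⁻¹) := by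
      rw [map_mul (cj (t * s⁻¹)) (cj s (cj s (x : X) * (x : X)⁻¹)), map_inv (cj (t * s⁻¹)),
        ← cj_mul (t * s⁻¹) s, inv_mul_cancel_right]
      group
    rw [e2]; exact h1
  have hc2 : (A.subgroupOf F.layer).index = (A.subgroupOf B).index * (B.subgroupOf F.layer).index :=
    (Subgroup.relIndex_mul_relIndex A B F.layer hAB hBle).symm
  have hker4 : (B.subgroupOf F.layer).index ≤ 4 := by
    rw [← hker, Subgroup.index_ker]
    refine (Subgroup.card_le_of_le hrange).trans (le_trans (le_of_eq ?_) (hB16.2 hS))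
    let g : B →* ↥F.layer ⧸ A.subgroupOf F.layer :=
      (QuotientGroup.mk' _).comp (Subgroup.inclusion hBle)
    have hg : g.range = (B.subgroupOf F.layer).map (QuotientGroup.mk' _) := by
      rw [MonoidHom.range_eq_map, ← Subgroup.map_map]
      congr 1
      rw [← MonoidHom.range_eq_map, Subgroup.inclusion_range]
    have hgk : g.ker = A.subgroupOf B := by
      ext x
      rw [MonoidHom.mem_ker, MonoidHom.comp_apply, QuotientGroup.mk'_apply, QuotientGroup.eq_one_iff]
      rfl
    rw [← hg, ← Subgroup.index_ker, hgk]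
  rw [hc2]
  calc _ ≤ 4 * 4 := Nat.mul_le_mul (hB16.2 hS) hker4
    _ = 16 := rfl

/-- `C_C(A) = A`. -/
theorem cent_le {c : X} (hc : c ∈ cen S U) (hcA : ∀ a ∈ A, c * a = a * c) : c ∈ A := by
  classical
  by_contra hne
  let D : Subgroup X := cen S U ⊓ centralizer (A : Set X)
  have hD : ∀ t ∈ (S : Subgroup X), ∀ d ∈ D, cj t d ∈ D := fun t ht d hd =>
    ⟨F.core.base.cen_normal ht hd.1, fun a ha => by
      rw [← cj_cancel_inv t a, ← map_mul, ← map_mul, hd.2 _ (F.inv.smem _ (inv_mem ht) a ha)]⟩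
  have hAD : A ≤ D := fun a ha => ⟨F.inv.le ha, fun b hb => F.comm b hb a ha⟩
  obtain ⟨b, hbD, hbA, hb2, hbfix⟩ := exists_fixed_mod (S : Subgroup X) A D S.2 hAD
    (fun d hd => hd.1.1) (fun hle => hne (hle ⟨hc, fun a ha => (hcA a ha).symm⟩)) F.inv.smem hD
  have hb : b ∈ F.layer := ⟨hbD.1, fun a ha => (hbD.2 a ha).symm, hb2, fun t ht => hbfix t ht.1⟩
  haveI : (A.subgroupOf F.layer).Normal := ⟨fun a ha g => mem_subgroupOf.2
    (F.inv.smem (g : X) g.2.1.1 _ ha)⟩
  refine F.orbit_abelian hb hbA hbfix ?_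
  rcases eq_or_lt_of_le F.npos with hn | hn
  · -- `n = 1`
    have hidx := F.layer_card hn.symm fun x hx hxfix hx2 => by
      by_contra hxA
      exact F.fixed_square hx hxA A.one_mem (by rw [mul_one, hx2]) hxfix
    set V := ↥F.layer ⧸ A.subgroupOf F.layer
    obtain ⟨k, hk⟩ := F.core.h3
    let σ0 : MulAut F.layer :=
      { toFun := fun x => ⟨cj h x, F.layer_invt.hmem x x.2⟩
        invFun := fun x => ⟨cj h⁻¹ x, F.layer_invt.hmem_inv x x.2⟩
        left_inv := fun x => Subtype.ext (cj_inv_cancel h x)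
        right_inv := fun x => Subtype.ext (cj_cancel_inv h x)
        map_mul' := fun x y => Subtype.ext (map_mul (cj h) (x : X) y) }
    have hmap : (A.subgroupOf F.layer).map σ0.toMonoidHom = A.subgroupOf F.layer := by
      ext x
      rw [Subgroup.mem_map_equiv, mem_subgroupOf, mem_subgroupOf]
      show cj h⁻¹ (x : X) ∈ A ↔ _
      exact ⟨fun e => cj_cancel_inv h x ▸ F.inv.hmem _ e, F.inv.hmem_inv _⟩
    let σ : MulAut V := QuotientGroup.congr _ _ σ0 hmap
    have hpow : ∀ (i : ℕ) (x : F.layer),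
        (σ ^ i) (x : V) = ((⟨cj (h ^ i) x, cj_pow_mem F.layer_invt.hmem i x x.2⟩ : F.layer) : V) := by
      intro i
      induction i with
      | zero => intro x; simp [cj_one]
      | succ i ih =>
        intro x
        rw [pow_succ', MulAut.mul_apply, ih]
        show ((σ0 _ : F.layer) : V) = _
        congr 1
        refine Subtype.ext ?_
        show cj h (cj (h ^ i) (x : X)) = cj (h ^ (i + 1)) x
        rw [pow_succ', cj_mul]
    have hσ : σ ^ 3 ^ k = 1 := MulEquiv.ext fun v => by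
      induction v using QuotientGroup.induction_on with
      | H x => rw [hpow, MulAut.one_apply]; congr 1; refine Subtype.ext ?_; show cj (h ^ 3 ^ k) (x : X) = x; rw [hk, cj_one]
    obtain ⟨m, hm⟩ := IsPGroup.iff_card.1
      (((S.2.to_le (fun x hx => hx.1.1) : IsPGroup 2 F.layer)).to_quotient (A.subgroupOf F.layer))
    have hm4 : m ≤ 4 := (Nat.pow_le_pow_iff_right (le_refl 2)).1 (hm ▸ hidx)
    have h3 := pow_three_eq hm hm4 σ hσ ((⟨b, hb⟩ : F.layer) : V)
    have h4 : ((⟨cj h (cj h (cj h b)), F.layer_invt.hmem _ (F.layer_invt.hmem _ (F.layer_invt.hmem b hb))⟩ :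
        F.layer) : V) = ((⟨b, hb⟩ : F.layer) : V) := h3
    exact mem_subgroupOf.1 (QuotientGroup.eq.1 h4.symm)
  · -- `n ≥ 2`
    have htop : ∀ u ∈ U, u ^ 2 ^ (n - 1) = 1 := fun u hu => by
      rw [show n - 1 = n - 2 + 1 by omega, pow_succ', pow_mul, pow_two, F.core.base.sq u hu, one_pow]
    let q : X → X := fun x => (x * x) ^ 2 ^ (n - 1)
    have hq : ∀ x ∈ F.layer, ∀ y ∈ F.layer, q (x * y) = q x * q y := by
      intro x hx y hy
      obtain ⟨h1, h2⟩ := F.layer_comm hx hy
      have c1 : Commute (cj y x * x⁻¹) (x * x) := F.comm _ (F.le h1) _ hx.2.2.1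
      have c2 : Commute (cj y x * x⁻¹ * (x * x)) (y * y) :=
        F.comm _ (mul_mem (F.le h1) hx.2.2.1) _ hy.2.2.1
      simp only [q]
      rw [h2, c2.mul_pow, c1.mul_pow, htop _ h1, one_mul]
    -- no kernel
    have hker : ∀ x ∈ F.layer, q x = 1 → x ∈ A := by
      let K : Subgroup X :=
        { carrier := {x | x ∈ F.layer ∧ q x = 1}
          one_mem' := ⟨one_mem _, by simp [q]⟩
          mul_mem' := fun {x y} hx hy => ⟨mul_mem hx.1 hy.1, by rw [hq x hx.1 y hy.1, hx.2, hy.2, mul_one]⟩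
          inv_mem' := fun {x} hx => ⟨inv_mem hx.1, by
            have := hx.2; simp only [q] at this ⊢
            rw [← mul_inv_rev, inv_pow, this, inv_one]⟩ }
      intro x hx hqx
      by_contra hxA
      obtain ⟨y, hy, hyA, -, hyfix⟩ := exists_fixed_mod (S : Subgroup X) A K S.2
        (fun a ha => ⟨F.le_layer ha, by
          have h1 := F.expo a ha
          simp only [q]
          rw [← pow_two, ← pow_mul, ← pow_succ', Nat.sub_add_cancel F.npos, h1]⟩)
        (fun d hd => hd.1.1.1) (fun hle => hxA (hle ⟨hx, hqx⟩)) F.inv.smem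
        (fun t ht d hd => ⟨F.layer_invt.smem t ht d hd.1, by
          have := hd.2; simp only [q] at this ⊢
          rw [← map_mul, ← map_pow, this, map_one]⟩)
      obtain ⟨r, hr, hr2⟩ := F.root _ hy.1.2.2.1 hy.2
      exact F.fixed_square hy.1 hyA hr hr2 hyfix
    have hb3 : cj h (cj h (cj h b)) ∈ F.layer :=
      F.layer_invt.hmem _ (F.layer_invt.hmem _ (F.layer_invt.hmem b hb))
    refine hker _ (mul_mem (inv_mem hb) hb3) ?_
    rw [hq _ (inv_mem hb) _ hb3]
    have e : q (cj h (cj h (cj h b))) = q b := by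
      simp only [q]
      rw [← map_mul, ← map_mul, ← map_mul, F.three _ hb2, ]
    rw [e]
    simp only [q]
    rw [← mul_inv_rev, inv_pow, inv_mul_cancel]

theorem exists_outside : ∃ c ∈ cen S U, c ∉ A := by
  by_contra hcon
  push Not at hcon
  obtain ⟨E, hES, hE2, hEc, hE8⟩ := F.core.base.rank
  obtain ⟨z, w, hz, hw, hz1, hw1, hzw, hzc⟩ := F.core.base.exists_basis
  have hCU : ∀ e ∈ E, e ∈ cen S U → e ∈ U := fun e he hc => F.omega e (hcon e hc) (hE2 e he)
  have h1 : Nat.card E ≤ Nat.card U * 2 := by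
    classical
    obtain ⟨e0, he0⟩ : ∃ e0 ∈ E, ∀ e ∈ E, e ∉ cen S U → e0 ∉ cen S U := by
      by_cases hh : ∃ e ∈ E, e ∉ cen S U
      · obtain ⟨e, he, hec⟩ := hh; exact ⟨e, he, fun _ _ _ => hec⟩
      · exact ⟨1, E.one_mem, fun e he hec => absurd ⟨e, he, hec⟩ hh⟩
    let f : E → U × Bool := fun e =>
      if hc : (e : X) ∈ cen S U then (⟨e, hCU e e.2 hc⟩, false)
      else (⟨e0 * e, hCU _ (mul_mem he0.1 e.2)
        (F.core.base.mul_mem_cen (hES he0.1) (he0.2 e e.2 hc) (hES e.2) hc)⟩, true)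
    have hinj : Function.Injective f := by
      intro x y e
      simp only [f] at e
      split_ifs at e <;>
        simp only [Prod.mk.injEq, Subtype.mk.injEq, Bool.false_eq_true, Bool.true_eq_false, and_false,
          and_true, mul_right_inj] at e
      · exact Subtype.ext e
      · exact Subtype.ext e
    have := Nat.card_le_card_of_injective f hinj
    rwa [Nat.card_prod, Nat.card_eq_fintype_card (α := Bool), Fintype.card_bool] at this
  rw [F.core.base.card, hE8] at h1
  have heq : Nat.card E = 8 := hE8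
  -- then `S` is elementary of order eight
  have hCS : Nat.card (S : Subgroup X) ≤ Nat.card A * 2 := by
    classical
    rcases em ((S : Subgroup X) ≤ cen S U) with hS | hS
    · exact le_trans (Subgroup.card_le_of_le fun t ht => hcon t (hS ht)) (Nat.le_mul_of_pos_right _ (by norm_num))
    obtain ⟨s, hs, hsC⟩ := SetLike.not_le_iff_exists.1 hS
    let f : ↥(S : Subgroup X) → A × Bool := fun e =>
      if hc : (e : X) ∈ cen S U then (⟨e, hcon e hc⟩, false)
      else (⟨s * e, hcon _ (F.core.base.mul_mem_cen hs hsC e.2 hc)⟩, true)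
    have hinj : Function.Injective f := by
      intro x y e
      simp only [f] at e
      split_ifs at e <;>
        simp only [Prod.mk.injEq, Subtype.mk.injEq, Bool.false_eq_true, Bool.true_eq_false, and_false,
          and_true, mul_right_inj] at e
      · exact Subtype.ext e
      · exact Subtype.ext e
    have := Nat.card_le_card_of_injective f hinj
    rwa [Nat.card_prod, Nat.card_eq_fintype_card (α := Bool), Fintype.card_bool] at this
  -- an element of `E` outside `C`
  obtain ⟨s, hsE, hsC⟩ : ∃ s ∈ E, s ∉ cen S U := by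
    by_contra hh
    push Not at hh
    have := Subgroup.card_le_of_le (H := E) (K := U) fun e he => hCU e he (hh e he)
    rw [hE8, F.core.base.card] at this
    omega
  -- `U ≤ E`, so `U` commutes with `s`
  have hUE : U ≤ E := by
    have hsub : Nat.card (E ⊓ U : Subgroup X) = 4 := by
      classical
      let f : E → ↥(E ⊓ U) × Bool := fun e =>
        if hc : (e : X) ∈ cen S U then (⟨e, e.2, hCU e e.2 hc⟩, false)
        else (⟨s * e, mul_mem hsE e.2, hCU _ (mul_mem hsE e.2)
          (F.core.base.mul_mem_cen (hES hsE) hsC (hES e.2) hc)⟩, true)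
      have hinj : Function.Injective f := by
        intro x y e
        simp only [f] at e
        split_ifs at e <;>
        simp only [Prod.mk.injEq, Subtype.mk.injEq, Bool.false_eq_true, Bool.true_eq_false, and_false,
          and_true, mul_right_inj] at e
        · exact Subtype.ext (congrArg (fun v : ↥(E ⊓ U) => (v : X)) e)
        · exact Subtype.ext (mul_left_cancel (congrArg (fun v : ↥(E ⊓ U) => (v : X)) e))
      have h3 := Nat.card_le_card_of_injective f hinj
      rw [Nat.card_prod, Nat.card_eq_fintype_card (α := Bool), Fintype.card_bool, hE8] at h3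
      have h4 := Subgroup.card_le_of_le (inf_le_right : E ⊓ U ≤ U)
      rw [F.core.base.card] at h4
      omega
    exact (Subgroup.eq_of_le_of_card_ge (inf_le_right : E ⊓ U ≤ U)
      (by rw [hsub, F.core.base.card])).ge.trans inf_le_left
  exact hsC (mem_cen.2 ⟨hES hsE, fun u hu => cj_eq_self.2 (hEc s hsE u (hUE hu))⟩)

theorem two_le : 2 ≤ n := by
  by_contra hn
  have hn1 : n = 1 := by have := F.npos; omega
  obtain ⟨c, hc, hcA⟩ := F.exists_outside
  refine hcA (F.cent_le hc fun a ha => cj_eq_self.1 ((mem_cen.1 hc).2 a (F.omega a ha ?_)))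
  have := F.expo a ha
  rwa [hn1, pow_one, pow_two] at this

end Frame

end Cfsg.Agent.Lib.NoEight59
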