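import Cfsg.Agent.Lib.NoEight59.Basic

/-!
# The centraliser of the four-group and an element of order three (S3102, helper59)
-/

set_option autoImplicit false
set_option linter.unusedSectionVars false
set_option linter.style.haveILetI false

namespace Cfsg.Agent.Lib.NoEight59

open Subgroup

/-- The hypotheses on `X`. -/
structure Hyp {X : Type*} [Group X] (S : Sylow 2 X) (U : Subgroup X) : Prop where
  idx : ∀ N : Subgroup X, N.index ≠ 2
  rank : ∃ E : Subgroup X, E ≤ (S : Subgroup X) ∧ (∀ a ∈ E, a * a = 1) ∧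
    (∀ a ∈ E, ∀ b ∈ E, a * b = b * a) ∧ Nat.card E = 8
  small : ∀ N : Subgroup X, N ≤ (S : Subgroup X) → (∀ t ∈ (S : Subgroup X), ∀ a ∈ N, cj t a ∈ N) →
    (∀ a ∈ N, a * a = 1) → (∀ a ∈ N, ∀ b ∈ N, a * b = b * a) → Nat.card N ≤ 4
  le : U ≤ (S : Subgroup X)
  norm : ∀ t ∈ (S : Subgroup X), ∀ a ∈ U, cj t a ∈ U
  sq : ∀ a ∈ U, a * a = 1
  card : Nat.card U = 4
  fus : ∀ u ∈ U, ∀ v ∈ U, u ≠ 1 → v ≠ 1 → IsConj u v

variable {X : Type*} [Group X] [Finite X] {S : Sylow 2 X} {U : Subgroup X}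

/-- The centraliser of `U` in `S`. -/
def cen (S : Sylow 2 X) (U : Subgroup X) : Subgroup X := (S : Subgroup X) ⊓ centralizer (U : Set X)

theorem mem_cen {c : X} : c ∈ cen S U ↔ c ∈ (S : Subgroup X) ∧ ∀ u ∈ U, cj c u = u := by
  simp only [cen, Subgroup.mem_inf, Subgroup.mem_centralizer_iff, cj_eq_self]
  exact and_congr_right fun _ => ⟨fun h u hu => (h u hu).symm, fun h u hu => (h u hu).symm⟩

theorem isPGroup_cen : IsPGroup 2 (cen S U) := S.2.to_le inf_le_left

namespace Hyp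

variable (H : Hyp S U)
include H

theorem comm {a b : X} (ha : a ∈ U) (hb : b ∈ U) : a * b = b * a := by
  rw [← pow_two_cases (H.sq _ (U.mul_mem ha hb)), mul_inv_rev, pow_two_cases (H.sq b hb),
    pow_two_cases (H.sq a ha)]

theorem le_cen : U ≤ cen S U := fun u hu =>
  mem_cen.2 ⟨H.le hu, fun v hv => cj_eq_self.2 (H.comm hu hv)⟩

theorem cases {a b : X} (ha : a ∈ U) (hb : b ∈ U) (ha1 : a ≠ 1) (hb1 : b ≠ 1) (hab : a ≠ b)
    {u : X} (hu : u ∈ U) : u = 1 ∨ u = a ∨ u = b ∨ u = a * b := by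
  classical
  have := Fintype.ofFinite U
  let f : Fin 4 → U := ![1, ⟨a, ha⟩, ⟨b, hb⟩, ⟨a * b, U.mul_mem ha hb⟩]
  have hab1 : a * b ≠ 1 := fun e => hab ((eq_inv_of_mul_eq_one_left e).trans (pow_two_cases (H.sq b hb)))
  have hinj : Function.Injective f := by
    intro i j hij
    have e : ((f i : U) : X) = f j := congrArg Subtype.val hij
    fin_cases i <;> fin_cases j <;>
      simp [f, mul_eq_left, mul_eq_right, ha1, hb1, hab, Ne.symm ha1, Ne.symm hb1, Ne.symm hab,
        hab1, Ne.symm hab1] at e ⊢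
  obtain ⟨i, hi⟩ := ((Fintype.bijective_iff_injective_and_card f).2
    ⟨hinj, by rw [Fintype.card_fin, ← Nat.card_eq_fintype_card, H.card]⟩).2 ⟨u, hu⟩
  have e : ((f i : U) : X) = u := congrArg Subtype.val hi
  fin_cases i <;> simp [f] at e <;> simp [← e]

theorem cen_normal {t : X} (ht : t ∈ (S : Subgroup X)) {c : X} (hc : c ∈ cen S U) :
    cj t c ∈ cen S U := by
  rw [mem_cen] at hc ⊢
  refine ⟨(S : Subgroup X).mul_mem ((S : Subgroup X).mul_mem ht hc.1) ((S : Subgroup X).inv_mem ht),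
    fun u hu => ?_⟩
  have e : cj t c = t * c * t⁻¹ := rfl
  rw [e, cj_mul, cj_mul, hc.2 _ (H.norm _ ((S : Subgroup X).inv_mem ht) _ hu), cj_cancel_inv]

/-- A central involution of `C` lies in `U`. -/
theorem mem_of_central {u : X} (hu : u ∈ cen S U) (hu2 : u * u = 1)
    (hc : ∀ c ∈ cen S U, cj c u = u) : u ∈ U := by
  let N : Subgroup X :=
    { carrier := {a | a ∈ cen S U ∧ a * a = 1 ∧ ∀ c ∈ cen S U, cj c a = a}
      one_mem' := ⟨one_mem _, mul_one 1, fun c _ => map_one _⟩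
      mul_mem' := fun {a b} ha hb => by
        refine ⟨mul_mem ha.1 hb.1, ?_, fun c hc => by rw [map_mul, ha.2.2 c hc, hb.2.2 c hc]⟩
        have hcm : a * b = b * a := cj_eq_self.1 (hb.2.2 a ha.1)
        rw [show a * b * (a * b) = a * (b * a) * b by group, ← hcm,
          show a * (a * b) * b = (a * a) * (b * b) by group, ha.2.1, hb.2.1, mul_one]
      inv_mem' := fun {a} ha => by rw [pow_two_cases ha.2.1]; exact ha }
  have hUN : U ≤ N := fun a ha => ⟨H.le_cen ha, H.sq a ha, fun c hc => (mem_cen.1 hc).2 a ha⟩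
  have hN4 : Nat.card N ≤ 4 := by
    refine H.small N (fun a ha => ha.1.1) (fun t ht a ha => ⟨H.cen_normal ht ha.1, ?_, fun c hc => ?_⟩)
      (fun a ha => ha.2.1) (fun a ha b hb => cj_eq_self.1 (hb.2.2 a ha.1))
    · rw [← map_mul, ha.2.1, map_one]
    · have e := ha.2.2 _ (H.cen_normal ((S : Subgroup X).inv_mem ht) hc)
      calc cj c (cj t a) = cj t (cj (cj t⁻¹ c) a) := by
            simp only [cj_apply]; group
        _ = cj t a := by rw [e]
  exact (eq_of_le_of_card_ge hUN (by rw [H.card]; exact hN4)).ge ⟨hu, hu2, hc⟩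

theorem map_U {g : X} (hg : ∀ c ∈ cen S U, cj g c ∈ cen S U) {u : X} (hu : u ∈ U) : cj g u ∈ U := by
  refine H.mem_of_central (hg u (H.le_cen hu)) (by rw [← map_mul, H.sq u hu, map_one]) fun c hc => ?_
  let f : cen S U → cen S U := fun c => ⟨cj g c, hg c c.2⟩
  obtain ⟨d, hd⟩ := ((Finite.injective_iff_surjective (f := f)).1
    fun a b e => Subtype.ext ((cj g).injective (congrArg Subtype.val e))) ⟨c, hc⟩
  have e : cj g (d : X) = c := congrArg Subtype.val hd
  rw [← e, show cj (cj g (d : X)) (cj g u) = cj g (cj (d : X) u) by simp only [cj_apply]; group,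
    (mem_cen.1 d.2).2 u hu]

/-- An involution central in `S` and the two others. -/
theorem exists_basis : ∃ z w, z ∈ U ∧ w ∈ U ∧ z ≠ 1 ∧ w ≠ 1 ∧ z ≠ w ∧
    ∀ t ∈ (S : Subgroup X), cj t z = z := by
  obtain ⟨z, hz, hz1, -, hzc⟩ := exists_fixed_mod (S : Subgroup X) ⊥ U S.2 bot_le H.le
    (fun h => by have := H.card; rw [le_bot_iff.1 h, Subgroup.card_bot] at this; omega)
    (fun t _ a ha => by rw [Subgroup.mem_bot.1 ha, map_one]; exact one_mem _) H.norm
  have hz1' : z ≠ 1 := fun e => hz1 (e ▸ one_mem _)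
  obtain ⟨w, hw, hwz⟩ : ∃ w ∈ U, w ∉ ({1, z} : Set X) := by
    by_contra hcon
    push Not at hcon
    have h2 : Nat.card U ≤ Nat.card ({1, z} : Set X) :=
      Nat.card_mono (Set.toFinite _) fun u hu => hcon u hu
    rw [H.card, Nat.card_coe_set_eq, Set.ncard_pair (Ne.symm hz1')] at h2
    omega
  simp only [Set.mem_insert_iff, Set.mem_singleton_iff, not_or] at hwz
  exact ⟨z, w, hz, hw, hz1', hwz.1, Ne.symm hwz.2,
    fun t ht => mul_inv_eq_one.1 (Subgroup.mem_bot.1 (hzc t ht))⟩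

/-- Two elements outside `C` differ by an element of `C`. -/
theorem mul_mem_cen {s t : X} (hs : s ∈ (S : Subgroup X)) (hsC : s ∉ cen S U)
    (ht : t ∈ (S : Subgroup X)) (htC : t ∉ cen S U) : s * t ∈ cen S U := by
  obtain ⟨z, w, hz, hw, hz1, hw1, hzw, hzc⟩ := H.exists_basis
  have key : ∀ t ∈ (S : Subgroup X), t ∉ cen S U → cj t w = z * w := by
    intro t ht htC
    rcases H.cases hz hw hz1 hw1 hzw (H.norm t ht w hw) with e | e | e | e
    · exact absurd (by rw [← cj_inv_cancel t w, e, map_one]) hw1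
    · exact absurd ((cj t).injective (e.trans (hzc t ht).symm)) (Ne.symm hzw)
    · refine absurd (mem_cen.2 ⟨ht, fun u hu => ?_⟩) htC
      rcases H.cases hz hw hz1 hw1 hzw hu with rfl | rfl | rfl | rfl
      · exact map_one _
      · exact hzc t ht
      · exact e
      · rw [map_mul, hzc t ht, e]
    · exact e
  refine mem_cen.2 ⟨mul_mem hs ht, fun u hu => ?_⟩
  have hw' : cj (s * t) w = w := by
    rw [cj_mul, key t ht htC, map_mul, hzc s hs, key s hs hsC, ← mul_assoc, H.sq z hz, one_mul]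
  have hz' : cj (s * t) z = z := hzc _ (mul_mem hs ht)
  rcases H.cases hz hw hz1 hw1 hzw hu with rfl | rfl | rfl | rfl
  · exact map_one _
  · exact hz'
  · exact hw'
  · rw [map_mul, hz', hw']

/-- A conjugate of `U` in `S` centralised by `S` forces `S = C`. -/
theorem exists_swap {a v : X} (ha : a ∈ U) (ha1 : a ≠ 1) (hv : v ∈ U) (hv1 : v ≠ 1) (hav : a ≠ v)
    (hne : ¬ (S : Subgroup X) ≤ cen S U) :
    ∃ r : X, (∀ c ∈ cen S U, cj r c ∈ cen S U) ∧ cj r a = a ∧ cj r v ≠ v := by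
  haveI : Fact (Nat.Prime 2) := ⟨Nat.prime_two⟩
  obtain ⟨z, w, hz, hw, hz1, hw1, hzw, hzc⟩ := H.exists_basis
  obtain ⟨g, hg⟩ := isConj_iff.1 (H.fus z hz a ha hz1 ha1)
  obtain ⟨R, hR⟩ : ∃ R : Subgroup X, cen S U ≤ R ∧ IsPGroup 2 R ∧ R ≤ centralizer {a} ∧
      Nat.card (S : Subgroup X) ≤ Nat.card R := by
    have hCle : cen S U ≤ centralizer {a} := fun c hc =>
      mem_centralizer_singleton_iff.2 (cj_eq_self.1 ((mem_cen.1 hc).2 a ha))
    obtain ⟨P, hP⟩ := ((isPGroup_cen (S := S) (U := U)).comap_of_injective (centralizer {a}).subtype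
      (centralizer {a}).subtype_injective).exists_le_sylow
    refine ⟨(P : Subgroup _).map (centralizer {a}).subtype, fun c hc => ?_, P.2.map _,
      Subgroup.map_subtype_le _, ?_⟩
    · exact ⟨⟨c, hCle hc⟩, hP hc, rfl⟩
    · have hle : (S : Subgroup X).map (cj g).toMonoidHom ≤ centralizer {a} := by
        rintro _ ⟨t, ht, rfl⟩
        rw [mem_centralizer_singleton_iff, ← hg, ← cj_apply]
        show cj g t * cj g z = cj g z * cj g t
        rw [← map_mul, ← map_mul, cj_eq_self.1 (hzc t ht)]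
      have hp := (S.2.map (cj g).toMonoidHom).comap_of_injective (centralizer {a}).subtype
        (centralizer {a}).subtype_injective
      obtain ⟨P', hP'⟩ := hp.exists_le_sylow
      have h1 : Nat.card (S : Subgroup X) ≤ Nat.card P' := by
        refine le_trans (le_of_eq ?_) (Subgroup.card_le_of_le hP')
        rw [← Subgroup.subgroupOf, Nat.card_congr (Subgroup.subgroupOfEquivOfLe hle).toEquiv,
          Subgroup.card_map_of_injective (f := (cj g).toMonoidHom) (cj g).injective]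
      rw [Subgroup.card_map_of_injective (centralizer {a}).subtype_injective]
      exact h1.trans (le_of_eq (by rw [P'.card_eq_multiplicity, P.card_eq_multiplicity]))
  obtain ⟨hCR, hRp, hRa, hcard⟩ := hR
  obtain ⟨Q, hQ⟩ := hRp.exists_le_sylow
  have hSQ : Nat.card (S : Subgroup X) = Nat.card Q := by
    rw [S.card_eq_multiplicity, Q.card_eq_multiplicity]
  have hRQ : R = (Q : Subgroup X) := eq_of_le_of_card_ge hQ (hSQ ▸ hcard)
  have hrel : (cen S U).relIndex R = 2 := by
    obtain ⟨t, ht, htC⟩ := SetLike.not_le_iff_exists.1 hne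
    have hidx : (cen S U).relIndex (S : Subgroup X) = 2 := by
      rw [Subgroup.relIndex, Subgroup.index_eq_two_iff]
      refine ⟨⟨t, ht⟩, fun b => ?_⟩
      rw [xor_iff_iff_not, mem_subgroupOf, mem_subgroupOf, Subgroup.coe_mul]
      refine ⟨fun h hb => htC (?_), fun h => H.mul_mem_cen b.2 h ht htC⟩
      exact ((cen S U).mul_mem_cancel_left hb).1 h
    have e1 := (cen S U).card_dvd_of_le (inf_le_left : cen S U ≤ (S : Subgroup X))
    have h1 : (cen S U).relIndex R * Nat.card (cen S U) =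
        (cen S U).relIndex (S : Subgroup X) * Nat.card (cen S U) := by
      have a1 := Subgroup.relIndex_mul_relIndex (⊥ : Subgroup X) (cen S U) R bot_le hCR
      have a2 := Subgroup.relIndex_mul_relIndex (⊥ : Subgroup X) (cen S U) (S : Subgroup X) bot_le inf_le_left
      simp only [Subgroup.relIndex_bot_left] at a1 a2
      rw [mul_comm, a1, mul_comm, a2, hRQ, hSQ]
    rw [Nat.eq_of_mul_eq_mul_right Nat.card_pos h1, hidx]
  haveI := Subgroup.normal_of_index_eq_two hrel
  by_cases hex : ∃ r ∈ R, cj r v ≠ v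
  · obtain ⟨r, hr, hrv⟩ := hex
    exact ⟨r, fun c hc => Subgroup.mem_subgroupOf.1
      (Subgroup.Normal.conj_mem inferInstance (⟨c, hCR hc⟩ : R) hc ⟨r, hr⟩),
      cj_eq_self.2 (mem_centralizer_singleton_iff.1 (hRa hr)), hrv⟩
  exfalso
  push Not at hex
  have hUR : ∀ r ∈ R, ∀ u ∈ U, cj r u = u := by
    intro r hr u hu
    have h1 : cj r a = a := cj_eq_self.2 (mem_centralizer_singleton_iff.1 (hRa hr))
    rcases H.cases ha hv ha1 hv1 hav hu with rfl | rfl | rfl | rfl
    · exact map_one _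
    · exact h1
    · exact hex r hr
    · rw [map_mul, h1, hex r hr]
  obtain ⟨k, hk⟩ := MulAction.exists_smul_eq X Q S
  have hkQ : ∀ t ∈ (S : Subgroup X), cj k⁻¹ t ∈ R := by
    intro t ht
    rw [← hk] at ht
    rw [hRQ]
    have h1 := (Subgroup.mem_pointwise_smul_iff_inv_smul_mem (a := MulAut.conj k)
      (S := (Q : Subgroup X))).1 ht
    rwa [← map_inv] at h1
  have hUQ : ∀ u ∈ U, cj k u ∈ (S : Subgroup X) := by
    intro u hu
    rw [← hk]
    exact Subgroup.smul_mem_pointwise_smul _ (MulAut.conj k) (Q : Subgroup X)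
      (hRQ ▸ hCR (H.le_cen hu))
  have hfix : ∀ t ∈ (S : Subgroup X), ∀ u ∈ U, cj t (cj k u) = cj k u := by
    intro t ht u hu
    have := hUR _ (hkQ t ht) u hu
    calc cj t (cj k u) = cj k (cj (cj k⁻¹ t) u) := by simp only [cj_apply]; group
      _ = _ := by rw [this]
  refine hne fun t ht => mem_cen.2 ⟨ht, fun u hu => ?_⟩
  have hmem : ∀ y ∈ U, cj k y ∈ U := fun y hy =>
    H.mem_of_central (mem_cen.2 ⟨hUQ y hy, fun u' hu' => cj_eq_self.2
      (cj_eq_self.1 (hfix u' (H.le hu') y hy)).symm⟩) (by rw [← map_mul, H.sq y hy, map_one])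
      fun c hc => hfix c hc.1 y hy
  let f : U → U := fun y => ⟨cj k y, hmem y y.2⟩
  obtain ⟨y, hy⟩ := ((Finite.injective_iff_surjective (f := f)).1
    fun a b e => Subtype.ext ((cj k).injective (congrArg Subtype.val e))) ⟨u, hu⟩
  have e : cj k (y : X) = u := congrArg Subtype.val hy
  rw [← e]
  exact hfix t ht y y.2

/-- An element of `X` normalising `C` with a three-cycle on `U`. -/
theorem exists_cycle : ∃ n : X, (∀ c ∈ cen S U, cj n c ∈ cen S U) ∧
    ∀ u ∈ U, u ≠ 1 → cj n u ≠ u := by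
  obtain ⟨z, w, hz, hw, hz1, hw1, hzw, hzc⟩ := H.exists_basis
  have hzw1 : z * w ≠ 1 := fun e => hzw ((eq_inv_of_mul_eq_one_left e).trans (pow_two_cases (H.sq w hw)))
  have hzwz : z * w ≠ z := fun e => hw1 (mul_eq_left.1 e)
  have hzww : z * w ≠ w := fun e => hz1 (mul_eq_right.1 e)
  -- `n` fixing no element
  have fin : ∀ n : X, (∀ c ∈ cen S U, cj n c ∈ cen S U) → cj n z = w → cj n w = z * w →
      ∃ n : X, (∀ c ∈ cen S U, cj n c ∈ cen S U) ∧ ∀ u ∈ U, u ≠ 1 → cj n u ≠ u := by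
    intro n hn h1 h2
    refine ⟨n, hn, fun u hu hu1 => ?_⟩
    rcases H.cases hz hw hz1 hw1 hzw hu with rfl | rfl | rfl | rfl
    · exact absurd rfl hu1
    · rw [h1]; exact Ne.symm hzw
    · rw [h2]; exact hzww
    · rw [map_mul, h1, h2, ← mul_assoc, H.comm hw hz, mul_assoc, H.sq w hw, mul_one]
      exact Ne.symm hzwz
  have hcomp : ∀ n m : X, (∀ c ∈ cen S U, cj n c ∈ cen S U) → (∀ c ∈ cen S U, cj m c ∈ cen S U) →
      ∀ c ∈ cen S U, cj (n * m) c ∈ cen S U := fun n m hn hm c hc => by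
    rw [cj_mul]; exact hn _ (hm c hc)
  by_cases hSC : (S : Subgroup X) ≤ cen S U
  · have hcenU : ∀ u ∈ U, u ∈ centralizer ((S : Subgroup X) : Set X) := fun u hu t ht =>
      cj_eq_self.1 ((mem_cen.1 (hSC ht)).2 u hu)
    have key : ∀ v ∈ U, v ≠ 1 → ∃ n : X, (∀ c ∈ cen S U, cj n c ∈ cen S U) ∧ cj n z = v := by
      intro v hv hv1
      obtain ⟨g, hg⟩ := isConj_iff.1 (H.fus z hz v hv hz1 hv1)
      haveI : Fact (Nat.Prime 2) := ⟨Nat.prime_two⟩
      obtain ⟨n, hn, he⟩ := S.conj_eq_normalizer_conj_of_mem_centralizer z g⁻¹ (hcenU z hz)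
        (by rw [inv_inv, hg]; exact hcenU v hv)
      refine ⟨n⁻¹, fun c hc => hSC ?_, ?_⟩
      · exact (mem_normalizer_iff.1 (Subgroup.inv_mem _ hn) c).1 hc.1
      · rw [inv_inv, hg] at he
        rw [cj_apply, inv_inv, ← he]
    obtain ⟨n, hn, hnz⟩ := key w hw hw1
    rcases H.cases hz hw hz1 hw1 hzw (H.map_U hn hw) with e | e | e | e
    · exact absurd (by rw [← cj_inv_cancel n w, e, map_one]) hw1
    · obtain ⟨m, hm, hmz⟩ := key (z * w) (U.mul_mem hz hw) hzw1
      rcases H.cases hz hw hz1 hw1 hzw (H.map_U hm hw) with e' | e' | e' | e'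
      · exact absurd (by rw [← cj_inv_cancel m w, e', map_one]) hw1
      · refine fin (m * m) (hcomp m m hm hm) ?_ ?_
        · rw [cj_mul, hmz, map_mul, hmz, e', H.comm hz hw, mul_assoc, H.sq z hz, mul_one]
        · rw [cj_mul, e', hmz]
      · refine fin (m * n) (hcomp m n hm hn) ?_ ?_
        · rw [cj_mul, hnz, e']
        · rw [cj_mul, e, hmz]
      · exact absurd ((cj m).injective (hmz.trans e'.symm)) hzw
    · exact absurd ((cj n).injective (hnz.trans e.symm)) hzw
    · exact fin n hn hnz e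
  · obtain ⟨r, hr, hra, hrz⟩ := H.exists_swap hw hw1 hz hz1 (Ne.symm hzw) hSC
    obtain ⟨t, ht, htC⟩ := SetLike.not_le_iff_exists.1 hSC
    have hrz' : cj r z = z * w := by
      rcases H.cases hz hw hz1 hw1 hzw (H.map_U hr hz) with e | e | e | e
      · exact absurd (by rw [← cj_inv_cancel r z, e, map_one]) hz1
      · exact absurd e hrz
      · exact absurd ((cj r).injective (e.trans hra.symm)) hzw
      · exact e
    have htw : cj t w = z * w := by
      rcases H.cases hz hw hz1 hw1 hzw (H.norm t ht w hw) with e | e | e | e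
      · exact absurd (by rw [← cj_inv_cancel t w, e, map_one]) hw1
      · exact absurd ((cj t).injective (e.trans (hzc t ht).symm)) (Ne.symm hzw)
      · refine absurd (mem_cen.2 ⟨ht, fun u hu => ?_⟩) htC
        rcases H.cases hz hw hz1 hw1 hzw hu with rfl | rfl | rfl | rfl
        · exact map_one _
        · exact hzc t ht
        · exact e
        · rw [map_mul, hzc t ht, e]
      · exact e
    refine fin (t * r) (hcomp t r (fun c hc => H.cen_normal ht hc) hr) ?_ ?_
    · rw [cj_mul, hrz', map_mul, hzc t ht, htw, ← mul_assoc, H.sq z hz, one_mul]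
    · rw [cj_mul, hra, htw]

end Hyp

end Cfsg.Agent.Lib.NoEight59
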