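import Cfsg.Agent.Lib.G2Fusion23.G2
import Cfsg.Agent.Lib.G2Fusion23.Model
import Mathlib.NumberTheory.LSeries.PrimesInAP

/-!
# A field whose `G₂` has the given Sylow 2-subgroup (S3102, helper59)
-/

set_option autoImplicit false
set_option linter.style.haveILetI false

namespace Cfsg.Agent.Lib.NoEight59

open Cfsg Cfsg.Lie Cfsg.Agent.Lib Cfsg.Agent.Lib.ChevStructure Cfsg.Agent.Lib.G2Fusion23

theorem two_pow_odd_eq {a b o o' : ℕ} (ho : Odd o) (ho' : Odd o') (h : 2 ^ a * o = 2 ^ b * o') :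
    a = b := by
  have key : ∀ {a b o o' : ℕ}, Odd o → 2 ^ a * o = 2 ^ b * o' → b ≤ a := fun {a b o o'} ho h => by
    by_contra hlt
    have h2 : 2 * 2 ^ a ∣ 2 ^ a * o := by
      rw [h, ← pow_succ']
      exact (pow_dvd_pow 2 (by omega : a + 1 ≤ b)).trans (dvd_mul_right _ _)
    rw [mul_comm (2 ^ a)] at h2
    exact Nat.not_even_iff_odd.2 ho
      (even_iff_two_dvd.2 (Nat.dvd_of_mul_dvd_mul_right (by positivity) h2))
  exact le_antisymm (key ho' h.symm) (key ho h)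

theorem exists_g2 {n : ℕ} (hn : 3 ≤ n) :
    ∃ (F : Type) (_ : Field F) (_ : Fintype F), (Fintype.card F % 8 = 1 ∨ Fintype.card F % 8 = 7) ∧
      ∃ P : Sylow 2 ↥(chevG2.group F),
        Nonempty (El (ZMod (2 ^ n)) ≃* ↥(P : Subgroup ↥(chevG2.group F))) := by
  classical
  haveI : Fact (Nat.Prime 2) := ⟨Nat.prime_two⟩
  obtain ⟨q, hqgt, hq, hmod⟩ := Nat.forall_exists_prime_gt_and_zmodEq 2 (q := 2 ^ (n + 1))
    (a := (1 + 2 ^ n : ℕ)) (by positivity) (by
      rw [Int.isCoprime_iff_gcd_eq_one, Int.gcd_natCast_natCast]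
      refine Nat.Coprime.pow_right _ ((Nat.coprime_two_right).2 ?_)
      exact (odd_one).add_even ((Nat.even_pow).2 ⟨even_two, by omega⟩))
  haveI : Fact q.Prime := ⟨hq⟩
  rw [Int.natCast_modEq_iff] at hmod
  have hlt : 1 + 2 ^ n < 2 ^ (n + 1) := by
    have : 2 ^ 1 ≤ 2 ^ n := Nat.pow_le_pow_right (by norm_num) (by omega)
    rw [pow_succ]; omega
  have hmod' : q % 2 ^ (n + 1) = 1 + 2 ^ n := by rw [hmod, Nat.mod_eq_of_lt hlt]
  obtain ⟨m, hqm⟩ : ∃ m, q = 2 ^ n * (2 * m + 1) + 1 := by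
    refine ⟨q / 2 ^ (n + 1), ?_⟩
    have := Nat.div_add_mod q (2 ^ (n + 1))
    rw [hmod', pow_succ] at this
    rw [pow_succ]; linarith
  have h8 : 8 ∣ 2 ^ n := (pow_dvd_pow 2 hn : 2 ^ 3 ∣ 2 ^ n)
  obtain ⟨c, hc⟩ := h8
  have hFc : Fintype.card (ZMod q) = q := ZMod.card q
  have hq8 : q % 8 = 1 := by
    rw [hqm, hc, mul_assoc]; omega
  refine ⟨ZMod q, inferInstance, inferInstance, Or.inl (by rw [hFc, hq8]), ?_⟩
  have hF : Odd (Fintype.card (ZMod q)) := by rw [hFc]; exact Nat.odd_iff.2 (by omega)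
  obtain ⟨k, φ, P, hφ, hr⟩ := exists_sylow hF
  have hk : k + 2 = n := by
    have hcard : Nat.card (P : Subgroup ↥(chevG2.group (ZMod q))) = 2 ^ (2 * k + 6) := by
      rw [← hr, ← Nat.card_congr (MonoidHom.ofInjective hφ).toEquiv, El.card]
      ring
    have hG := Order.CertG2.card_group (K := ZMod q) (q := q) hFc
    rw [Finset.prod_eq_one (fun i _ => ?_), one_mul] at hG
    swap
    · have : ∀ j < 2, Order.DataTorus.dG2.getD j 0 = 1 := by decide
      rw [this i.val i.isLt, Nat.gcd_one_right]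
    have hidx := Subgroup.card_mul_index (P : Subgroup ↥(chevG2.group (ZMod q)))
    rw [hcard, hG] at hidx
    simp only [List.map_cons, List.map_nil, List.prod_cons, List.prod_nil, mul_one] at hidx
    obtain ⟨o, ho, hq2⟩ : ∃ o, Odd o ∧ q ^ 2 - 1 = 2 ^ (n + 1) * o := by
      refine ⟨(2 * m + 1) * (2 ^ (n - 1) * (2 * m + 1) + 1), (odd_two_mul_add_one m).mul ?_, ?_⟩
      · exact ((Nat.even_pow.2 ⟨even_two, by omega⟩).mul_right _).add_one
      · have e2 : 2 ^ n = 2 * 2 ^ (n - 1) := by rw [← pow_succ', Nat.sub_add_cancel (by omega : 1 ≤ n)]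
        have : q ^ 2 = 2 ^ (n + 1) * ((2 * m + 1) * (2 ^ (n - 1) * (2 * m + 1) + 1)) + 1 := by
          rw [hqm, pow_succ 2 n, e2]; ring
        omega
    have e6 : q ^ 6 - 1 = (q ^ 2 - 1) * (q ^ 4 + q ^ 2 + 1) := by
      zify [Nat.one_le_pow 6 _ hq.pos, Nat.one_le_pow 2 _ hq.pos]
      ring
    rw [e6, hq2] at hidx
    have hidx' : 2 ^ (2 * k + 6) * (P : Subgroup ↥(chevG2.group (ZMod q))).index =
        2 ^ (2 * n + 2) * (q ^ (chevG2.nroots / 2) * (o * o) * (q ^ 4 + q ^ 2 + 1)) := by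
      rw [hidx]; ring
    have hq' : Odd q := Nat.odd_iff.2 (by omega)
    have := two_pow_odd_eq
      (Nat.not_even_iff_odd.1 fun he => P.not_dvd_index (even_iff_two_dvd.1 he))
      ((hq'.pow.mul (ho.mul ho)).mul ((hq'.pow.add_odd hq'.pow).add_one)) hidx'
    omega
  subst hk
  exact ⟨P, ⟨(MonoidHom.ofInjective hφ).trans (MulEquiv.subgroupCongr hr)⟩⟩

end Cfsg.Agent.Lib.NoEight59
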