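import Cfsg.Agent.Lib.NoEight59.Setup

/-!
# An elementary group of order eight fused so as to move its four-group (S3102, helper59)
-/

set_option autoImplicit false
set_option linter.unusedSectionVars false
set_option linter.style.haveILetI false

namespace Cfsg.Agent.Lib.NoEight59

open Subgroup

variable {X : Type*} [Group X] [Finite X] {S : Sylow 2 X} {U : Subgroup X}

/-- The part of `S` normalising `E`. -/
def nor (S : Sylow 2 X) (E : Subgroup X) : Subgroup X :=
  (S : Subgroup X) ⊓ normalizer (E : Set X)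

/-- The shape demanded from the conjugates of `E` in `S`. -/
structure Shape (S : Sylow 2 X) (U E E' : Subgroup X) : Prop where
  le : U ≤ E'
  card_nor : Nat.card (nor S E') ≤ Nat.card (nor S E)
  elation : ∀ u ∈ U, u ≠ 1 → ∃ τ : X, τ * τ = u ∧ (∀ v ∈ U, cj τ v = v) ∧
    ∀ v ∈ E', v ∉ U → cj τ v = u * v

theorem Hyp.trick (H : Hyp S U) {E : Subgroup X} (hES : E ≤ (S : Subgroup X))
    (hEab : ∀ a ∈ E, ∀ b ∈ E, a * b = b * a) (hE8 : Nat.card E = 8) (hUE : U ≤ E)
    {x : X} (hxE : x ∈ E) (hxU : x ∉ U) {g : X} (hgx : cj g x ∈ U)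
    (hgE : ∀ e ∈ E, cj g e ∈ (S : Subgroup X))
    (hshape : ∀ k : X, (∀ e ∈ E, cj k e ∈ (S : Subgroup X)) → Shape S U E (E.map (cj k).toMonoidHom))
    (hsq : ∀ t ∈ (S : Subgroup X), t ∉ cen S U → t * t ∉ U) : False := by
  classical
  haveI : Fact (Nat.Prime 2) := ⟨Nat.prime_two⟩
  set E' := E.map (cj g).toMonoidHom with hE'
  have sh := hshape g hgE
  have hmemE' : ∀ e ∈ E, cj g e ∈ E' := fun e he => ⟨e, he, rfl⟩
  have hE'8 : Nat.card E' = 8 := by
    rw [hE', Subgroup.card_map_of_injective (f := (cj g).toMonoidHom) (cj g).injective, hE8]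
  -- a common element
  obtain ⟨c', hc'U, hc'V, hc'1⟩ : ∃ c, c ∈ U ∧ cj g⁻¹ c ∈ U ∧ c ≠ 1 := by
    let f : U × U → E' := fun p => ⟨(p.1 : X) * cj g p.2, mul_mem (sh.le p.1.2) (hmemE' _ (hUE p.2.2))⟩
    have hni : ¬ Function.Injective f := fun hi => by
      have h1 := Nat.card_le_card_of_injective f hi
      rw [Nat.card_prod, H.card, hE'8] at h1
      omega
    simp only [Function.Injective, not_forall] at hni
    obtain ⟨⟨u, v⟩, ⟨u', v'⟩, e, hne⟩ := hni
    have e' : (u : X) * cj g v = (u' : X) * cj g v' := congrArg Subtype.val e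
    have e2 : (u' : X)⁻¹ * u = cj g ((v' : X) * (v : X)⁻¹) := by
      rw [map_mul, map_inv (cj g)]
      calc (u' : X)⁻¹ * u = (u' : X)⁻¹ * ((u : X) * cj g v) * (cj g (v : X))⁻¹ := by group
        _ = _ := by rw [e', inv_mul_cancel_left]
    refine ⟨(u' : X)⁻¹ * u, mul_mem (inv_mem u'.2) u.2, ?_, fun e1 => hne ?_⟩
    · rw [e2, cj_inv_cancel]; exact mul_mem v'.2 (inv_mem v.2)
    · have hu : (u : X) = u' := (inv_mul_eq_one.1 e1).symm
      rw [hu] at e'
      exact Prod.ext (Subtype.ext hu) (Subtype.ext ((cj g).injective (mul_left_cancel e')))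
  obtain ⟨τ, hτ2, hτU, hτv⟩ := sh.elation c' hc'U hc'1
  set c := cj g⁻¹ c' with hc
  have hc1 : c ≠ 1 := fun e => hc'1 (by rw [← cj_cancel_inv g c', ← hc, e, map_one])
  set t := cj g⁻¹ τ with ht
  have hact : ∀ y ∈ E, cj t y = if cj g y ∈ U then y else c * y := by
    intro y hy
    have e : cj t y = cj g⁻¹ (cj τ (cj g y)) := by rw [ht]; simp only [cj_apply]; group
    split_ifs with hyU
    · rw [e, hτU _ hyU, cj_inv_cancel]
    · rw [e, hτv _ (hmemE' y hy) hyU, map_mul, cj_inv_cancel]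
  have htE : ∀ y ∈ E, cj t y ∈ E := fun y hy => by
    rw [hact y hy]; split_ifs
    exacts [hy, mul_mem (hUE hc'V) hy]
  have htU : ∀ y ∈ U, cj t y ∈ U := fun y hy => by
    rw [hact y (hUE hy)]; split_ifs
    exacts [hy, mul_mem hc'V hy]
  -- it moves `U`
  obtain ⟨u, hu, hmove⟩ : ∃ u ∈ U, cj t u ≠ u := by
    by_contra hcon
    push Not at hcon
    have hall : ∀ u ∈ U, cj g u ∈ U := fun u hu => by
      by_contra hg
      have := hcon u hu
      rw [hact u (hUE hu), if_neg hg] at this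
      exact hc1 (mul_eq_right.1 this)
    let f : U → U := fun u => ⟨cj g u, hall u u.2⟩
    obtain ⟨u, hu⟩ := ((Finite.injective_iff_surjective (f := f)).1
      fun a b e => Subtype.ext ((cj g).injective (congrArg Subtype.val e))) ⟨_, hgx⟩
    exact hxU ((cj g).injective (congrArg Subtype.val hu) ▸ u.2)
  let K : Subgroup X := normalizer (U : Set X) ⊓ normalizer (E : Set X)
  have mem_nor : ∀ {T : Subgroup X} {k : X}, (∀ y ∈ T, cj k y ∈ T) → k ∈ normalizer (T : Set X) :=
    fun {T k} hk => mem_normalizer_iff.2 fun y => ⟨fun hy => hk y hy, fun hy => by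
      let f : T → T := fun y => ⟨cj k y, hk y y.2⟩
      obtain ⟨y', hy'⟩ := ((Finite.injective_iff_surjective (f := f)).1
        fun a b e => Subtype.ext ((cj k).injective (congrArg Subtype.val e))) ⟨_, hy⟩
      exact (cj k).injective (congrArg Subtype.val hy') ▸ y'.2⟩
  have htK : t ∈ K := ⟨mem_nor htU, mem_nor htE⟩
  have hRK : nor S E ≤ K := fun r hr => ⟨mem_nor fun y hy => H.norm r hr.1 y hy, hr.2⟩
  have hER : E ≤ nor S E := fun e he => ⟨hES he, mem_nor fun y hy => by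
    rw [cj_eq_self.2 (hEab e he y hy)]; exact hy⟩
  obtain ⟨Q, hQ⟩ := ((S.2.to_le inf_le_left : IsPGroup 2 (nor S E)).comap_of_injective K.subtype
    K.subtype_injective).exists_le_sylow
  set Q' := (Q : Subgroup K).map K.subtype with hQ'
  have hRQ : nor S E ≤ Q' := fun r hr => ⟨⟨r, hRK hr⟩, hQ hr, rfl⟩
  obtain ⟨k, -, hk⟩ := exists_conj_into (H := (⊤ : Subgroup X)) S le_top le_top (Q.2.map K.subtype)
  have hQR : Q' = nor S E := by
    refine (Subgroup.eq_of_le_of_card_ge hRQ ?_).symm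
    have hkE : ∀ e ∈ E, cj k e ∈ (S : Subgroup X) := fun e he => hk e (hRQ (hER he))
    refine le_trans ?_ (hshape k hkE).card_nor
    let f : Q' → nor S (E.map (cj k).toMonoidHom) := fun q => ⟨cj k q, hk q q.2, mem_nor (by
      rintro _ ⟨y, hy, rfl⟩
      obtain ⟨qK, -, hqe⟩ := q.2
      refine ⟨cj (q : X) y, ?_, ?_⟩
      · rw [← hqe]; exact (mem_normalizer_iff.1 qK.2.2 y).1 hy
      · simp only [MulEquiv.coe_toMonoidHom, cj_apply]; group)⟩
    exact Nat.card_le_card_of_injective f fun a b e =>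
      Subtype.ext ((cj k).injective (congrArg (fun v : nor S (E.map (cj k).toMonoidHom) => (v : X)) e))
  -- conjugate `t` into it
  have htp : IsPGroup 2 (zpowers (⟨t, htK⟩ : K)) := by
    have h4 : t ^ 2 ^ 2 = 1 := by
      rw [ht, ← map_pow, show 2 ^ 2 = 2 * 2 from rfl, pow_mul, pow_two τ, hτ2, pow_two,
        H.sq c' hc'U, map_one]
    obtain ⟨i, -, hi⟩ := (Nat.dvd_prime_pow Nat.prime_two).1 (orderOf_dvd_of_pow_eq_one h4)
    exact IsPGroup.of_card (n := i) (by rw [Nat.card_zpowers, ← Subgroup.orderOf_coe, hi])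
  obtain ⟨P, hP⟩ := htp.exists_le_sylow
  obtain ⟨m, hm⟩ := MulAction.exists_smul_eq K P Q
  set t' := cj (m : X) t with ht'
  have ht'R : t' ∈ nor S E := by
    rw [← hQR]
    refine ⟨m * ⟨t, htK⟩ * m⁻¹, ?_, rfl⟩
    rw [← hm]
    exact Subgroup.smul_mem_pointwise_smul _ (MulAut.conj m) (P : Subgroup K) (hP (mem_zpowers _))
  have hmU : ∀ y ∈ U, cj (m : X) y ∈ U := fun y hy => (mem_normalizer_iff.1 m.2.1 y).1 hy
  refine hsq t' ht'R.1 (fun hc0 => hmove ?_) ?_
  · have := (mem_cen.1 hc0).2 _ (hmU u hu)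
    rw [ht'] at this
    refine (cj (m : X)).injective (Eq.trans ?_ this)
    simp only [cj_apply]; group
  · have e : t' * t' = cj (m : X) c := by
      rw [ht', ← map_mul, ht, ← map_mul, hτ2, hc]
    rw [e]
    exact hmU c hc'V

end Cfsg.Agent.Lib.NoEight59
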