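import Mathlib

/-!
# The 2-groups with `Ω₁(A) = A²` of order four (S3102, helper59)

`B` is an extension of `A = (Z/4)²` by a four-group of semilinear elations, `C = B⟨x⟩` with `x`
inverting `A`, and `s` induces the field automorphism.
-/

set_option autoImplicit false

namespace Cfsg.Agent.Lib.NoEight59.Two

/-- Exponents of `a₀, a₁` in `ZMod 4` and of `y₀, y₁`. -/
abbrev Code : Type := (ZMod 4 × ZMod 4) × (Bool × Bool)

/-- The action of `y₀^k y₁^l` on `A`. -/
def tw (f : Bool × Bool) (v : ZMod 4 × ZMod 4) : ZMod 4 × ZMod 4 :=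
  let v := if f.2 then (3 * v.1, 2 * v.1 + 3 * v.2) else v
  if f.1 then (3 * v.1 + 2 * v.2, 3 * v.2) else v

/-- `y₀²` is `a₁²` or trivial. -/
def sqv (r : Bool) : ZMod 4 × ZMod 4 := if r then (0, 2) else (0, 0)

/-- `y₁²`, the image under `h`. -/
def sqv1 (r : Bool) : ZMod 4 × ZMod 4 := if r then (2, 2) else (0, 0)

/-- The product in `B`. -/
def bmul (r : Bool) (p q : Code) : Code :=
  (p.1 + tw p.2 q.1 + (if p.2.1 && q.2.1 then sqv r else 0) + (if p.2.2 && q.2.2 then sqv1 r else 0),
    (xor p.2.1 q.2.1, xor p.2.2 q.2.2))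

/-- An endomorphism given by its values on the generators. -/
def extend (r : Bool) (f : ZMod 4 × ZMod 4 → ZMod 4 × ZMod 4) (g₀ g₁ : Code) (p : Code) : Code :=
  bmul r (bmul r (f p.1, (false, false)) (if p.2.1 then g₀ else ((0, 0), (false, false))))
    (if p.2.2 then g₁ else ((0, 0), (false, false)))

/-- Conjugation by `x`: `y₀ ↦ y₀ a₀`, `y₁ ↦ y₁ a₁`. -/
def xact (r : Bool) : Code → Code :=
  extend r (fun v => (-v.1, -v.2)) (bmul r ((0, 0), (true, false)) ((1, 0), (false, false)))
    (bmul r ((0, 0), (false, true)) ((0, 1), (false, false)))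

/-- Conjugation by `s`, which moves the elementary groups of order 16 when `j` holds. -/
def sact (j : Bool) : Code → Code :=
  extend false (fun v => (v.1 - v.2, -v.2))
    (bmul false ((0, 0), (true, false)) (if j then ((1, 2), (false, false)) else ((0, 0), (false, false))))
    (bmul false ((0, 0), (true, true)) (if j then ((1, 3), (false, false)) else ((0, 0), (false, false))))

/-- The product in `C = B⟨x⟩`. -/
def cmul (r : Bool) (p q : Code × Bool) : Code × Bool :=
  (bmul r p.1 (if p.2 then xact r q.1 else q.1), xor p.2 q.2)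

/-- The product in `S` of type `J₂`. -/
def jmul (p q : Code × Bool) : Code × Bool :=
  (bmul false p.1 (if p.2 then sact true q.1 else q.1), xor p.2 q.2)

/-- The product in `S` of type `Ly`. -/
def lmul (p q : (Code × Bool) × Bool) : (Code × Bool) × Bool :=
  (cmul false p.1 (if p.2 then (sact false q.1.1, q.1.2) else q.1), xor p.2 q.2)

variable {G : Type*} [Group G]

/-- The power with exponent in `ZMod 4`. -/
def pw (g : G) (i : ZMod 4) : G := g ^ i.val

/-- The defining relations of `B`. -/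
structure BRel (r : Bool) (a b y y' : G) : Prop where
  a4 : a ^ 4 = 1
  b4 : b ^ 4 = 1
  ab : a * b = b * a
  ya : y * a * y⁻¹ = a ^ 3
  yb : y * b * y⁻¹ = a ^ 2 * b ^ 3
  y'a : y' * a * y'⁻¹ = a ^ 3 * b ^ 2
  y'b : y' * b * y'⁻¹ = b ^ 3
  yy : y * y = if r then b ^ 2 else 1
  y'y' : y' * y' = if r then a ^ 2 * b ^ 2 else 1
  yy' : y * y' = y' * y

/-- The element of a code. -/
def ev (a b y y' : G) (p : Code) : G :=
  pw a p.1.1 * pw b p.1.2 * ((if p.2.1 then y else 1) * (if p.2.2 then y' else 1))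

theorem pw_add {g : G} (h : g ^ 4 = 1) (i j : ZMod 4) : pw g (i + j) = pw g i * pw g j := by
  unfold pw
  rw [← pow_add, ZMod.val_add]
  conv_rhs => rw [← Nat.div_add_mod (i.val + j.val) 4, pow_add, pow_mul, h, one_pow, one_mul]

theorem pw_nat {g : G} (h : g ^ 4 = 1) (n : ℕ) : pw g (n : ZMod 4) = g ^ n := by
  unfold pw
  rw [ZMod.val_natCast]
  conv_rhs => rw [← Nat.div_add_mod n 4, pow_add, pow_mul, h, one_pow, one_mul]

theorem pw_mul {g : G} (h : g ^ 4 = 1) (n : ℕ) (i : ZMod 4) : pw g ((n : ZMod 4) * i) = (g ^ n) ^ i.val := by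
  rw [← pow_mul, ← pw_nat h, Nat.cast_mul, ZMod.natCast_zmod_val]

theorem pw_zero (g : G) : pw g 0 = 1 := by simp [pw]

theorem pw_one (g : G) : pw g 1 = g := by
  rw [pw, show (1 : ZMod 4).val = 1 from rfl, pow_one]

namespace BRel

variable {r : Bool} {a b y y' : G} (R : BRel r a b y y')
include R

theorem pw_comm (i j : ZMod 4) : pw b i * pw a j = pw a j * pw b i :=
  ((Commute.pow_pow (show Commute a b from R.ab) _ _).eq).symm

theorem vec_add (v w : ZMod 4 × ZMod 4) :
    pw a (v + w).1 * pw b (v + w).2 = pw a v.1 * pw b v.2 * (pw a w.1 * pw b w.2) := by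
  rw [Prod.fst_add, Prod.snd_add, pw_add R.a4, pw_add R.b4]
  calc pw a v.1 * pw a w.1 * (pw b v.2 * pw b w.2)
      = pw a v.1 * (pw a w.1 * pw b v.2) * pw b w.2 := by group
    _ = pw a v.1 * (pw b v.2 * pw a w.1) * pw b w.2 := by rw [R.pw_comm]
    _ = _ := by group

theorem twist_one (v : ZMod 4 × ZMod 4) :
    y * (pw a v.1 * pw b v.2) * y⁻¹ = pw a (3 * v.1 + 2 * v.2) * pw b (3 * v.2) := by
  calc y * (pw a v.1 * pw b v.2) * y⁻¹ = (y * pw a v.1 * y⁻¹) * (y * pw b v.2 * y⁻¹) := by group
    _ = (a ^ 3) ^ v.1.val * (a ^ 2 * b ^ 3) ^ v.2.val := by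
        rw [pw, pw, ← conj_pow, ← conj_pow, R.ya, R.yb]
    _ = _ := by
        have c : Commute (a ^ 2) (b ^ 3) := (show Commute a b from R.ab).pow_pow _ _
        rw [c.mul_pow, pw_add R.a4, show (3 : ZMod 4) = ((3 : ℕ) : ZMod 4) from rfl,
          show (2 : ZMod 4) = ((2 : ℕ) : ZMod 4) from rfl, pw_mul R.a4, pw_mul R.a4, pw_mul R.b4,
          mul_assoc]

theorem twist_two (v : ZMod 4 × ZMod 4) :
    y' * (pw a v.1 * pw b v.2) * y'⁻¹ = pw a (3 * v.1) * pw b (2 * v.1 + 3 * v.2) := by
  calc y' * (pw a v.1 * pw b v.2) * y'⁻¹ = (y' * pw a v.1 * y'⁻¹) * (y' * pw b v.2 * y'⁻¹) := by group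
    _ = (a ^ 3 * b ^ 2) ^ v.1.val * (b ^ 3) ^ v.2.val := by
        rw [pw, pw, ← conj_pow, ← conj_pow, R.y'a, R.y'b]
    _ = _ := by
        have c : Commute (a ^ 3) (b ^ 2) := (show Commute a b from R.ab).pow_pow _ _
        rw [c.mul_pow, pw_add R.b4, show (3 : ZMod 4) = ((3 : ℕ) : ZMod 4) from rfl,
          show (2 : ZMod 4) = ((2 : ℕ) : ZMod 4) from rfl, pw_mul R.a4, pw_mul R.b4, pw_mul R.b4,
          mul_assoc]

theorem twist (f : Bool × Bool) (v : ZMod 4 × ZMod 4) :
    ((if f.1 then y else 1) * (if f.2 then y' else 1)) * (pw a v.1 * pw b v.2) *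
      ((if f.1 then y else 1) * (if f.2 then y' else 1))⁻¹ = pw a (tw f v).1 * pw b (tw f v).2 := by
  obtain ⟨k, l⟩ := f
  cases k <;> cases l <;> simp only [tw, Bool.false_eq_true, if_false, if_true, one_mul, mul_one]
  · rw [inv_one, mul_one]
  · exact R.twist_two v
  · exact R.twist_one v
  · rw [show y * y' * (pw a v.1 * pw b v.2) * (y * y')⁻¹ =
      y * (y' * (pw a v.1 * pw b v.2) * y'⁻¹) * y⁻¹ by group, R.twist_two,
      R.twist_one (3 * v.1, 2 * v.1 + 3 * v.2)]

theorem flags (f g : Bool × Bool) :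
    ((if f.1 then y else 1) * (if f.2 then y' else 1)) * ((if g.1 then y else 1) * (if g.2 then y' else 1))
      = pw a ((if f.1 && g.1 then sqv r else 0) + (if f.2 && g.2 then sqv1 r else 0)).1 *
          pw b ((if f.1 && g.1 then sqv r else 0) + (if f.2 && g.2 then sqv1 r else 0)).2 *
          ((if xor f.1 g.1 then y else 1) * (if xor f.2 g.2 then y' else 1)) := by
  obtain ⟨k, l⟩ := f
  obtain ⟨k', l'⟩ := g
  have c : Commute y y' := R.yy'
  have hsum : (if k then y else 1) * (if l then y' else 1) * ((if k' then y else 1) * (if l' then y' else 1)) =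
      ((if k then y else 1) * (if k' then y else 1)) * ((if l then y' else 1) * (if l' then y' else 1)) := by
    have c' : Commute (if l then y' else 1) (if k' then y else 1) := by
      split_ifs <;> first | exact c.symm | exact Commute.one_left _ | exact Commute.one_right _
    calc _ = (if k then y else 1) * ((if l then y' else 1) * (if k' then y else 1)) * (if l' then y' else 1) := by group
      _ = (if k then y else 1) * ((if k' then y else 1) * (if l then y' else 1)) * (if l' then y' else 1) := by rw [c'.eq]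
      _ = _ := by group
  rw [R.vec_add]
  show (if k then y else 1) * (if l then y' else 1) * ((if k' then y else 1) * (if l' then y' else 1)) = _
  rw [hsum]
  have h1 : (if k then y else 1) * (if k' then y else 1) =
      pw a (if k && k' then sqv r else 0).1 * pw b (if k && k' then sqv r else 0).2 *
        (if xor k k' then y else 1) := by
    cases k <;> cases k' <;> simp [pw_zero, sqv, R.yy]
    cases r <;> simp [pw_zero, show pw b 2 = b ^ 2 from pw_nat R.b4 2]
  have h2 : (if l then y' else 1) * (if l' then y' else 1) =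
      pw a (if l && l' then sqv1 r else 0).1 * pw b (if l && l' then sqv1 r else 0).2 *
        (if xor l l' then y' else 1) := by
    cases l <;> cases l' <;> simp [pw_zero, sqv1, R.y'y']
    cases r <;> simp [pw_zero, show pw b 2 = b ^ 2 from pw_nat R.b4 2,
      show pw a 2 = a ^ 2 from pw_nat R.a4 2]
  rw [h1, h2]
  have hfix : ∀ w : ZMod 4 × ZMod 4, (w = sqv1 r ∨ w = 0) →
      (if xor k k' then y else 1) * (pw a w.1 * pw b w.2) =
        (pw a w.1 * pw b w.2) * (if xor k k' then y else 1) := by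
    intro w hw
    split_ifs with hk
    · have h3 := R.twist_one w
      have : (3 * w.1 + 2 * w.2, 3 * w.2) = w := by
        rcases hw with rfl | rfl
        · cases r <;> decide
        · decide
      have h4 := congrArg (fun v : ZMod 4 × ZMod 4 => pw a v.1 * pw b v.2) this
      simp only at h4
      rw [h4] at h3
      exact mul_inv_eq_iff_eq_mul.1 h3
    · rw [one_mul, mul_one]
  have h5 := hfix (if l && l' then sqv1 r else 0) (by split_ifs <;> simp)
  dsimp only
  calc _ = pw a (if k && k' then sqv r else 0).1 * pw b (if k && k' then sqv r else 0).2 *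
        ((if xor k k' then y else 1) * (pw a (if l && l' then sqv1 r else 0).1 *
          pw b (if l && l' then sqv1 r else 0).2)) * (if xor l l' then y' else 1) := by group
    _ = _ := by rw [h5]; group

theorem ev_bmul (p q : Code) : ev a b y y' (bmul r p q) = ev a b y y' p * ev a b y y' q := by
  obtain ⟨v, f⟩ := p
  obtain ⟨w, g⟩ := q
  simp only [bmul, ev]
  rw [add_assoc, R.vec_add, R.vec_add, ← R.twist f w]
  calc _ = pw a v.1 * pw b v.2 * ((((if f.1 then y else 1) * (if f.2 then y' else 1)) *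
        (pw a w.1 * pw b w.2) * ((if f.1 then y else 1) * (if f.2 then y' else 1))⁻¹) *
        (((if f.1 then y else 1) * (if f.2 then y' else 1)) *
          ((if g.1 then y else 1) * (if g.2 then y' else 1)))) := by
        rw [R.flags f g]; group; rfl
    _ = _ := by group

theorem ev_gen : ev a b y y' ((1, 0), (false, false)) = a ∧ ev a b y y' ((0, 1), (false, false)) = b ∧
    ev a b y y' ((0, 0), (true, false)) = y ∧ ev a b y y' ((0, 0), (false, true)) = y' ∧
    ev a b y y' ((0, 0), (false, false)) = 1 := by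
  simp [ev, pw_zero, pw_one]

/-- A map of the generators extends. -/
theorem ev_extend (f : ZMod 4 × ZMod 4 → ZMod 4 × ZMod 4) (g₀ g₁ : Code) (φ : G ≃* G)
    (hf : ∀ i j : ZMod 4, φ (pw a i * pw b j) = pw a (f (i, j)).1 * pw b (f (i, j)).2)
    (h0 : φ y = ev a b y y' g₀) (h1 : φ y' = ev a b y y' g₁) (p : Code) :
    φ (ev a b y y' p) = ev a b y y' (extend r f g₀ g₁ p) := by
  obtain ⟨⟨i, j⟩, ⟨k, l⟩⟩ := p
  have e1 : ev a b y y' ((0, 0), (false, false)) = 1 := R.ev_gen.2.2.2.2
  have e2 : ev a b y y' (f (i, j), (false, false)) = pw a (f (i, j)).1 * pw b (f (i, j)).2 := by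
    simp [ev]
  rw [show ev a b y y' ((i, j), (k, l)) = pw a i * pw b j * ((if k then y else 1) * (if l then y' else 1)) from rfl,
    map_mul, map_mul φ (if k then y else 1), hf, extend, R.ev_bmul, R.ev_bmul, e2]
  cases k <;> cases l <;> simp [h0, h1, e1, mul_assoc]

end BRel

/-- Gluing a pair onto an element acting by `φ`. -/
theorem glue {P : Type*} (mul : P → P → P) (act : P → P) (ev : P → G) (g : G)
    (hmul : ∀ p q, ev (mul p q) = ev p * ev q) (hact : ∀ p, g * ev p * g⁻¹ = ev (act p))
    (hg : g * g = 1) (p q : P × Bool) :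
    ev (mul p.1 (if p.2 then act q.1 else q.1)) * (if xor p.2 q.2 then g else 1) =
      (ev p.1 * (if p.2 then g else 1)) * (ev q.1 * (if q.2 then g else 1)) := by
  obtain ⟨p, k⟩ := p
  obtain ⟨q, l⟩ := q
  cases k <;> cases l <;> simp only [Bool.false_eq_true, if_false, if_true, hmul, Bool.xor_false,
    Bool.false_xor, Bool.xor_true, Bool.not_false, Bool.not_true, mul_one, one_mul]
  · group
  · rw [← hact]; group
  · rw [← hact]
    calc ev p * (g * ev q * g⁻¹) = ev p * g * ev q * g * (g * g)⁻¹ := by group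
      _ = _ := by rw [hg, inv_one, mul_one, mul_assoc (ev p * g)]

/-- The relations of `C`. -/
structure CRel (r : Bool) (a b y y' x : G) : Prop where
  base : BRel r a b y y'
  xx : x * x = 1
  xa : x * a * x⁻¹ = a⁻¹
  xb : x * b * x⁻¹ = b⁻¹
  xy : x * y * x⁻¹ = y * a
  xy' : x * y' * x⁻¹ = y' * b

/-- The element of a code of `C`. -/
def evC (a b y y' x : G) (p : Code × Bool) : G := ev a b y y' p.1 * (if p.2 then x else 1)

theorem pw_neg {g : G} (h : g ^ 4 = 1) (i : ZMod 4) : pw g (-i) = (pw g i)⁻¹ :=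
  (inv_eq_of_mul_eq_one_left (by rw [← pw_add h, neg_add_cancel, pw_zero])).symm

theorem CRel.act_x {r : Bool} {a b y y' x : G} (R : CRel r a b y y' x) (p : Code) :
    x * ev a b y y' p * x⁻¹ = ev a b y y' (xact r p) := by
  have B := R.base
  rw [← MulAut.conj_apply]
  refine B.ev_extend _ _ _ _ (fun i j => ?_) ?_ ?_ p
  · rw [map_mul, pw, pw, map_pow, map_pow, MulAut.conj_apply, MulAut.conj_apply, R.xa, R.xb, inv_pow,
      inv_pow, ← pw, ← pw, ← pw_neg B.a4, ← pw_neg B.b4]
  · rw [MulAut.conj_apply, R.xy, B.ev_bmul, B.ev_gen.2.2.1, B.ev_gen.1]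
  · rw [MulAut.conj_apply, R.xy', B.ev_bmul, B.ev_gen.2.2.2.1, B.ev_gen.2.1]

theorem CRel.evC_mul {r : Bool} {a b y y' x : G} (R : CRel r a b y y' x) (p q : Code × Bool) :
    evC a b y y' x (cmul r p q) = evC a b y y' x p * evC a b y y' x q :=
  glue (bmul r) (xact r) (ev a b y y') x R.base.ev_bmul R.act_x R.xx p q

/-- The relations of `s`, with `j` telling the type `J₂`. -/
structure SRel (j : Bool) (a b y y' s : G) : Prop where
  base : BRel false a b y y'
  ss : s * s = 1
  sa : s * a * s⁻¹ = a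
  sb : s * b * s⁻¹ = (a * b)⁻¹
  sy : s * y * s⁻¹ = y * (if j then a * b ^ 2 else 1)
  sy' : s * y' * s⁻¹ = y * y' * (if j then a * b ^ 3 else 1)

theorem SRel.act_s {j : Bool} {a b y y' s : G} (R : SRel j a b y y' s) (p : Code) :
    s * ev a b y y' p * s⁻¹ = ev a b y y' (sact j p) := by
  have B := R.base
  rw [← MulAut.conj_apply]
  refine B.ev_extend _ _ _ _ (fun i k => ?_) ?_ ?_ p
  · rw [map_mul, pw, pw, map_pow, map_pow, MulAut.conj_apply, MulAut.conj_apply, R.sa, R.sb, inv_pow,
      (show Commute a b from B.ab).mul_pow, ← pw, ← pw, ← pw, mul_inv_rev, ← pw_neg B.a4, ← pw_neg B.b4,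
      B.pw_comm, ← mul_assoc, ← pw_add B.a4, ← sub_eq_add_neg]
  · rw [MulAut.conj_apply, R.sy, B.ev_bmul, B.ev_gen.2.2.1]
    cases j <;> simp [ev, pw_zero, pw_one, show pw b 2 = b ^ 2 from pw_nat B.b4 2]
  · rw [MulAut.conj_apply, R.sy', B.ev_bmul]
    cases j <;> simp [ev, pw_zero, pw_one, show pw b 3 = b ^ 3 from pw_nat B.b4 3]

/-- The element of a code of the type `J₂`. -/
def evJ (a b y y' s : G) (p : Code × Bool) : G := ev a b y y' p.1 * (if p.2 then s else 1)

theorem SRel.evJ_mul {a b y y' s : G} (R : SRel true a b y y' s) (p q : Code × Bool) :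
    evJ a b y y' s (jmul p q) = evJ a b y y' s p * evJ a b y y' s q :=
  glue (bmul false) (sact true) (ev a b y y') s R.base.ev_bmul R.act_s R.ss p q

/-- The element of a code of the type `Ly`. -/
def evL (a b y y' x s : G) (p : (Code × Bool) × Bool) : G :=
  evC a b y y' x p.1 * (if p.2 then s else 1)

theorem evL_mul {a b y y' x s : G} (R : SRel false a b y y' s) (Q : CRel false a b y y' x)
    (hsx : s * x * s⁻¹ = x) (p q : (Code × Bool) × Bool) :
    evL a b y y' x s (lmul p q) = evL a b y y' x s p * evL a b y y' x s q := by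
  refine glue (cmul false) (fun c => (sact false c.1, c.2)) (evC a b y y' x) s Q.evC_mul
    (fun c => ?_) R.ss p q
  obtain ⟨c, k⟩ := c
  rw [evC, evC, show s * (ev a b y y' c * (if k then x else 1)) * s⁻¹ =
    (s * ev a b y y' c * s⁻¹) * (s * (if k then x else 1) * s⁻¹) by group, R.act_s]
  cases k <;> simp [hsx]

/-- A group parametrised by a code type through a bijective multiplicative map. -/
theorem nonempty_mulEquiv {P G₁ G₂ : Type*} [Group G₁] [Group G₂] (mul : P → P → P)
    (f : P → G₁) (g : P → G₂) (hf : Function.Bijective f) (hg : Function.Bijective g)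
    (hfm : ∀ p q, f (mul p q) = f p * f q) (hgm : ∀ p q, g (mul p q) = g p * g q) :
    Nonempty (G₁ ≃* G₂) := by
  let e := (Equiv.ofBijective f hf).symm.trans (Equiv.ofBijective g hg)
  refine ⟨{ e with map_mul' := fun u v => ?_ }⟩
  obtain ⟨p, rfl⟩ := hf.2 u
  obtain ⟨q, rfl⟩ := hf.2 v
  show e (f p * f q) = e (f p) * e (f q)
  have he : ∀ p, e (f p) = g p := fun p => by
    show g ((Equiv.ofBijective f hf).symm (f p)) = g p
    rw [Equiv.ofBijective_symm_apply_apply]
  rw [← hfm, he, he, he, hgm]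

end Cfsg.Agent.Lib.NoEight59.Two
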