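import Cfsg.Agent.Lib.NoEight59.Large
import Cfsg.Agent.Lib.NoEight59.Eight
import Cfsg.Agent.Lib.NoEight59.TwoModel

/-!
# The action of `C` on `A = (Z/4)²` (S3102, helper59)
-/

set_option autoImplicit false
set_option linter.unusedSectionVars false
set_option linter.style.haveILetI false

namespace Cfsg.Agent.Lib.NoEight59.Two

open Subgroup

/-- Coordinates in `A`. -/
abbrev V : Type := ZMod 4 × ZMod 4

/-- The element of `A` with coordinates `v`. -/
def va {X : Type*} [Group X] (h a : X) (v : V) : X := pw a v.1 * pw (cj h a) v.2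

/-- The linear map with images `P`, `Q` of the basis. -/
def lin (P Q v : V) : V := (v.1 * P.1 + v.2 * Q.1, v.1 * P.2 + v.2 * Q.2)

/-- The action of an element moving the basis by `P`, `Q`. -/
def img (P Q v : V) : V := v + lin P Q v

/-- The action of `h`. -/
def hv (v : V) : V := (-v.2, v.1 - v.2)

/-- `a` squares to the involution fixed by `S`. -/
structure Pre {X : Type*} [Group X] [Finite X] (S : Sylow 2 X) (U : Subgroup X) (h : X)
    (A : Subgroup X) (a : X) : Prop where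
  frame : Frame S U h A 2
  ha : a ∈ A
  sq_ne : a * a ≠ 1
  fixz : ∀ t ∈ (S : Subgroup X), cj t (a * a) = a * a

/-- How `c` moves the basis. -/
structure Dl {X : Type*} [Group X] (h a c : X) (P Q : V) : Prop where
  tP : P + P = 0
  tQ : Q + Q = 0
  eA : cj c a = va h a ((1, 0) + P)
  eB : cj c (cj h a) = va h a ((0, 1) + Q)

variable {X : Type*} [Group X] [Finite X] {S : Sylow 2 X} {U : Subgroup X} {h : X} {A : Subgroup X}
  {a : X}

theorem exists_pre (F : Frame S U h A 2) : ∃ a, Pre S U h A a := by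
  obtain ⟨z, w, hz, hw, hz1, -, -, hzc⟩ := F.core.base.exists_basis
  obtain ⟨a, ha, hau⟩ := F.top z hz
  have e : a * a = z := by rw [← hau, show (2 : ℕ) ^ (2 - 1) = 2 from rfl, pow_two]
  exact ⟨a, F, ha, e ▸ hz1, e ▸ hzc⟩

namespace Pre

variable (P0 : Pre S U h A a)
include P0

theorem hb : cj h a ∈ A := P0.frame.inv.hmem a P0.ha

theorem a4 : a ^ 4 = 1 := P0.frame.expo a P0.ha

theorem b4 : cj h a ^ 4 = 1 := P0.frame.expo _ P0.hb

theorem ab : Commute a (cj h a) := P0.frame.comm a P0.ha _ P0.hb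

theorem va_mem (v : V) : va h a v ∈ A := mul_mem (A.pow_mem P0.ha _) (A.pow_mem P0.hb _)

theorem va_cen (v : V) : va h a v ∈ cen S U := P0.frame.inv.le (P0.va_mem v)

theorem va_zero : va h a 0 = 1 := by simp [va, pw_zero]

theorem va_add (v w : V) : va h a (v + w) = va h a v * va h a w := by
  simp only [va, Prod.fst_add, Prod.snd_add, pw_add P0.a4, pw_add P0.b4]
  calc pw a v.1 * pw a w.1 * (pw (cj h a) v.2 * pw (cj h a) w.2)
      = pw a v.1 * (pw a w.1 * pw (cj h a) v.2) * pw (cj h a) w.2 := by group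
    _ = pw a v.1 * (pw (cj h a) v.2 * pw a w.1) * pw (cj h a) w.2 := by
        rw [show pw a w.1 * pw (cj h a) v.2 = pw (cj h a) v.2 * pw a w.1 from (P0.ab.pow_pow _ _).eq]
    _ = _ := by group

theorem va_neg (v : V) : va h a (-v) = (va h a v)⁻¹ :=
  eq_inv_of_mul_eq_one_left (by rw [← P0.va_add, neg_add_cancel, P0.va_zero])

theorem va_pow (v : V) (n : ℕ) : va h a v ^ n = va h a ((n : ZMod 4) * v.1, (n : ZMod 4) * v.2) := by
  induction n with
  | zero => simp [va, pw_zero]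
  | succ n ih =>
    rw [pow_succ, ih, ← P0.va_add]
    congr 1
    ext <;> simp only [Prod.fst_add, Prod.snd_add, Nat.cast_add, Nat.cast_one] <;> ring

theorem va_a : va h a (1, 0) = a := by simp [va, pw_zero, pw_one]

theorem va_b : va h a (0, 1) = cj h a := by simp [va, pw_zero, pw_one]

theorem va_inj {v w : V} (e : va h a v = va h a w) : v = w := by
  have e1 : va h a (v - w) = 1 := by
    rw [sub_eq_add_neg, P0.va_add, P0.va_neg, e, mul_inv_cancel]
  have htop : a ^ 2 ^ (2 - 1) ≠ 1 := by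
    rw [show (2 : ℕ) ^ (2 - 1) = 2 from rfl, pow_two]; exact P0.sq_ne
  obtain ⟨h1, h2⟩ := P0.frame.indep a P0.ha htop _ _ e1
  have g : ∀ i : ZMod 4, 2 ^ 2 ∣ i.val → i = 0 := fun i hi =>
    (ZMod.val_eq_zero i).1 (Nat.eq_zero_of_dvd_of_lt hi (ZMod.val_lt i))
  exact sub_eq_zero.1 (Prod.ext (g _ h1) (g _ h2))

theorem va_span {c : X} (hc : c ∈ A) : ∃ v : V, va h a v = c := by
  have htop : a ^ 2 ^ (2 - 1) ≠ 1 := by
    rw [show (2 : ℕ) ^ (2 - 1) = 2 from rfl, pow_two]; exact P0.sq_ne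
  obtain ⟨i, j, rfl⟩ := P0.frame.span a P0.ha htop c hc
  exact ⟨((i : ZMod 4), (j : ZMod 4)), by rw [va, pw_nat P0.a4, pw_nat P0.b4]⟩

theorem mem_U_iff {v : V} : va h a v ∈ U ↔ v + v = 0 := by
  refine ⟨fun e => P0.va_inj ?_, fun e => P0.frame.omega _ (P0.va_mem v) ?_⟩
  · rw [P0.va_add, P0.frame.core.base.sq _ e, P0.va_zero]
  · rw [← P0.va_add, e, P0.va_zero]

theorem exists_U {u : X} (hu : u ∈ U) : ∃ v : V, v + v = 0 ∧ va h a v = u := by
  obtain ⟨v, rfl⟩ := P0.va_span (P0.frame.le hu)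
  exact ⟨v, P0.mem_U_iff.1 hu, rfl⟩

/-- An automorphism given on the basis. -/
theorem map_va (f : X ≃* X) {P Q : V} (hA : f a = va h a P) (hB : f (cj h a) = va h a Q) (v : V) :
    f (va h a v) = va h a (lin P Q v) := by
  rw [va, pw, pw, map_mul, map_pow, map_pow, hA, hB, P0.va_pow, P0.va_pow, ← P0.va_add]
  congr 1
  simp [lin]

theorem h_va (v : V) : cj h (va h a v) = va h a (hv v) := by
  have hB : cj h (cj h a) = va h a (-1, -1) := by
    have e := P0.frame.norm a P0.ha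
    rw [show ((-1 : ZMod 4), (-1 : ZMod 4)) = -((1, 1) : V) from rfl, P0.va_neg]
    refine eq_inv_of_mul_eq_one_right ?_
    rw [show ((1, 1) : V) = (1, 0) + (0, 1) by decide, P0.va_add, P0.va_a, P0.va_b, e]
  rw [P0.map_va (cj h) P0.va_b.symm hB]
  congr 1
  simp [lin, hv, sub_eq_add_neg]

theorem z_eq : va h a (2, 0) = a * a := by
  rw [show ((2, 0) : V) = (1, 0) + (1, 0) by decide, P0.va_add, P0.va_a]

theorem w_eq : va h a (0, 2) = cj h a ^ 2 := by
  rw [show ((0, 2) : V) = (0, 1) + (0, 1) by decide, P0.va_add, P0.va_b, pow_two]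

theorem dl_va {c : X} {P Q : V} (d : Dl h a c P Q) (v : V) :
    cj c (va h a v) = va h a (img P Q v) := by
  rw [P0.map_va (cj c) d.eA d.eB]
  congr 1
  obtain ⟨p, p'⟩ := P
  obtain ⟨q, q'⟩ := Q
  ext <;> simp [img, lin] <;> ring

theorem dl_unique {c : X} {P Q P' Q' : V} (d : Dl h a c P Q) (d' : Dl h a c P' Q') :
    P = P' ∧ Q = Q' :=
  ⟨add_left_cancel (P0.va_inj (d.eA.symm.trans d'.eA)),
    add_left_cancel (P0.va_inj (d.eB.symm.trans d'.eB))⟩

theorem dl_zero {c : X} (hc : c ∈ A) : Dl h a c 0 0 :=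
  ⟨rfl, rfl, by rw [add_zero, P0.va_a, cj_eq_self.2 (P0.frame.comm c hc a P0.ha)],
    by rw [add_zero, P0.va_b, cj_eq_self.2 (P0.frame.comm c hc _ P0.hb)]⟩

theorem exists_dl {c : X} (hc : c ∈ cen S U) : ∃ P Q, Dl h a c P Q := by
  have key : ∀ v : V, ∃ P, P + P = 0 ∧ cj c (va h a v) = va h a (v + P) := fun v => by
    have h1 := P0.frame.delta_mem hc (P0.va_mem v)
    have h2 := P0.frame.delta_top hc (P0.va_mem v)
    rw [show (2 : ℕ) ^ (2 - 1) = 2 from rfl, pow_two] at h2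
    obtain ⟨P, hP, e⟩ := P0.exists_U (P0.frame.omega _ h1 h2)
    exact ⟨P, hP, by rw [add_comm, P0.va_add, e, inv_mul_cancel_right]⟩
  obtain ⟨P, hP, eP⟩ := key (1, 0)
  obtain ⟨Q, hQ, eQ⟩ := key (0, 1)
  exact ⟨P, Q, hP, hQ, by rw [← eP, P0.va_a], by rw [← eQ, P0.va_b]⟩

theorem dl_mul {c d : X} {P Q P' Q' : V} (hc : Dl h a c P Q) (hd : Dl h a d P' Q') :
    Dl h a (c * d) (P + P') (Q + Q') := by
  have h1 : ∀ P Q : V, P + P = 0 → Q + Q = 0 → ∀ P' : V, P' + P' = 0 →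
      img P Q ((1, 0) + P') = (1, 0) + (P + P') ∧ img P Q ((0, 1) + P') = (0, 1) + (Q + P') ∧
        P + P' + (P + P') = 0 ∧ Q + P' + (Q + P') = 0 := by decide +kernel
  obtain ⟨a1, -, a3, -⟩ := h1 P Q hc.tP hc.tQ P' hd.tP
  obtain ⟨-, b2, -, b4⟩ := h1 P Q hc.tP hc.tQ Q' hd.tQ
  exact ⟨a3, b4, by rw [cj_mul, hd.eA, P0.dl_va hc, a1], by rw [cj_mul, hd.eB, P0.dl_va hc, b2]⟩

theorem dl_inv {c : X} {P Q : V} (hc : Dl h a c P Q) : Dl h a c⁻¹ P Q := by
  have h1 : ∀ P Q : V, P + P = 0 → Q + Q = 0 →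
      img P Q ((1, 0) + P) = (1, 0) ∧ img P Q ((0, 1) + Q) = (0, 1) := by decide +kernel
  obtain ⟨a1, a2⟩ := h1 P Q hc.tP hc.tQ
  refine ⟨hc.tP, hc.tQ, ?_, ?_⟩
  · have := P0.dl_va hc ((1, 0) + P)
    rw [a1, P0.va_a] at this
    rw [← cj_inv_cancel c (va h a ((1, 0) + P)), this]
  · have := P0.dl_va hc ((0, 1) + Q)
    rw [a2, P0.va_b] at this
    rw [← cj_inv_cancel c (va h a ((0, 1) + Q)), this]

theorem mem_A_of_dl {c : X} (hc : c ∈ cen S U) (d : Dl h a c 0 0) : c ∈ A :=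
  P0.frame.cent_le hc fun x hx => cj_eq_self.1 (by
    obtain ⟨v, rfl⟩ := P0.va_span hx
    rw [P0.dl_va d]; congr 1; simp [img, lin])

/-- Two elements moving the basis alike differ by an element of `A`. -/
theorem eq_mod {c d : X} (hc : c ∈ cen S U) (hd : d ∈ cen S U) {P Q : V} (h1 : Dl h a c P Q)
    (h2 : Dl h a d P Q) : ∃ v, d = c * va h a v := by
  have h3 := P0.dl_mul (P0.dl_inv h1) h2
  rw [h1.tP, h1.tQ] at h3
  obtain ⟨v, hv⟩ := P0.va_span (P0.mem_A_of_dl (mul_mem (inv_mem hc) hd) h3)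
  exact ⟨v, by rw [hv, mul_inv_cancel_left]⟩

theorem dl_hconj {c : X} {P Q : V} (hc : Dl h a c P Q) :
    Dl h a (cj h c) (hv (P + Q)) (hv P) := by
  have key : ∀ g, cj (cj h c) (cj h g) = cj h (cj c g) := fun g => by simp only [cj_apply]; group
  have h1 : ∀ P Q : V, P + P = 0 → Q + Q = 0 →
      hv (img P Q (-1, -1)) = (1, 0) + hv (P + Q) ∧ hv (img P Q (1, 0)) = (0, 1) + hv P ∧
      hv (P + Q) + hv (P + Q) = 0 ∧ hv P + hv P = 0 := by decide +kernel
  obtain ⟨a1, a2, a3, a4⟩ := h1 P Q hc.tP hc.tQ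
  refine ⟨a3, a4, ?_, ?_⟩
  · have e : cj h (va h a (-1, -1)) = a := by
      rw [P0.h_va, show hv (-1, -1) = (1, 0) by decide, P0.va_a]
    conv_lhs => rw [← e, key, P0.dl_va hc, P0.h_va, a1]
  · have e : cj h (va h a (1, 0)) = cj h a := by rw [P0.va_a]
    rw [← e, key, P0.dl_va hc, P0.h_va, a2]

/-- Commutators in `C` lie in `A`. -/
theorem comm_mod {c d : X} (hc : c ∈ cen S U) (hd : d ∈ cen S U) : cj c d * d⁻¹ ∈ A := by
  obtain ⟨P, Q, h1⟩ := P0.exists_dl hc
  obtain ⟨P', Q', h2⟩ := P0.exists_dl hd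
  refine P0.mem_A_of_dl (mul_mem (P0.frame.core.base.cen_normal hc.1 hd) (inv_mem hd)) ?_
  rw [cj_apply]
  have h3 := P0.dl_mul (P0.dl_mul (P0.dl_mul h1 h2) (P0.dl_inv h1)) (P0.dl_inv h2)
  rwa [add_right_comm P, h1.tP, zero_add, h2.tP, add_right_comm Q, h1.tQ, zero_add, h2.tQ] at h3

/-- `h³` centralises `C`. -/
theorem three {c : X} (hc : c ∈ cen S U) : cj h (cj h (cj h c)) = c := by
  have F := P0.frame
  have hm : cj h (cj h (cj h c)) ∈ cen S U := F.core.hC _ (F.core.hC _ (F.core.hC c hc))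
  obtain ⟨P, Q, d⟩ := P0.exists_dl hc
  have d3 := P0.dl_hconj (P0.dl_hconj (P0.dl_hconj d))
  have h1 : ∀ P Q : V, P + P = 0 → Q + Q = 0 →
      hv (hv (hv (P + Q) + hv P) + hv (hv (P + Q))) = P ∧ hv (hv (hv (P + Q) + hv P)) = Q := by
    decide +kernel
  rw [(h1 P Q d.tP d.tQ).1, (h1 P Q d.tP d.tQ).2] at d3
  obtain ⟨v, hv'⟩ := P0.eq_mod hc hm d d3
  have hit : ∀ j : ℕ, cj ((h ^ 3) ^ j) c = c * va h a v ^ j := fun j => by
    induction j with
    | zero => rw [pow_zero, pow_zero, cj_one, mul_one]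
    | succ j ih =>
      rw [pow_succ', cj_mul, ih, map_mul, map_pow, show cj (h ^ 3) c = c * va h a v by
        rw [pow_succ, pow_two, cj_mul, cj_mul, hv'], show cj (h ^ 3) (va h a v) = va h a v by
        rw [pow_succ, pow_two, cj_mul, cj_mul, F.three _ (P0.va_mem v)], mul_assoc, ← pow_succ']
  obtain ⟨k, hk⟩ := F.core.h3
  have h2 := hit (3 ^ k)
  rw [← pow_mul, mul_comm 3, pow_mul, hk, one_pow, cj_one] at h2
  have h4 : va h a v ^ 4 = 1 := F.expo _ (P0.va_mem v)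
  have h5 : va h a v ^ Nat.gcd 4 (3 ^ k) = 1 := pow_gcd_eq_one.2 ⟨h4, mul_eq_left.1 h2.symm⟩
  rw [Nat.Coprime.gcd_eq_one ((by norm_num : Nat.Coprime 4 3).pow_right k), pow_one] at h5
  rw [hv', h5, mul_one]

/-- An element of `C` fixed by `h` is trivial or an involution inverting `A`. -/
theorem fixed_cases {p : X} (hp : p ∈ cen S U) (hfix : cj h p = p) :
    p = 1 ∨ (p * p = 1 ∧ Dl h a p (2, 0) (0, 2)) := by
  classical
  have F := P0.frame
  have H := F.core.base
  -- the fixed part is elementary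
  have hsq : ∀ p ∈ cen S U, cj h p = p → p * p = 1 := fun p hp hf => by
    obtain ⟨P, Q, d⟩ := P0.exists_dl hp
    have d2 := P0.dl_mul d d
    rw [d.tP, d.tQ] at d2
    exact F.fpf _ (P0.mem_A_of_dl (mul_mem hp hp) d2) (by rw [map_mul, hf])
  have hfix2 : ∀ p, cj h p = p → ∀ P Q, Dl h a p P Q → Q = hv P := fun p hf P Q d => by
    have := P0.dl_hconj d
    rw [hf] at this
    exact (P0.dl_unique d this).2
  have hdec : ∀ P : V, P + P = 0 → P = 0 ∨ P = (2, 0) ∨
      ∀ v : V, v + img P (hv P) v = 0 → v + v = 0 := by decide +kernel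
  have hprop : ∀ p ∈ cen S U, cj h p = p → p = 1 ∨ (p * p = 1 ∧ Dl h a p (2, 0) (0, 2)) ∨
      ∀ v : V, va h a v * p * (va h a v * p) = 1 → va h a v ∈ U := by
    intro p hp hf
    obtain ⟨P, Q, d⟩ := P0.exists_dl hp
    obtain rfl := hfix2 p hf P Q d
    rcases hdec P d.tP with rfl | rfl | hv'
    · refine Or.inl (F.fpf _ (P0.mem_A_of_dl hp ?_) hf)
      rwa [show hv 0 = 0 by decide] at d
    · exact Or.inr (Or.inl ⟨hsq p hp hf, d⟩)
    · refine Or.inr (Or.inr fun v e => P0.mem_U_iff.2 (hv' v (P0.va_inj ?_)))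
      rw [P0.va_zero, P0.va_add, ← P0.dl_va d, ← e, cj_apply, pow_two_cases (hsq p hp hf)]
      group
  by_cases hp1 : p = 1
  · exact Or.inl hp1
  rcases hprop p hp hfix with e | e | hbad
  · exact Or.inl e
  · exact Or.inr e
  exfalso
  -- `U` with the fixed part
  let Φ : Subgroup X :=
    { carrier := {q | q ∈ cen S U ∧ cj h q = q}
      one_mem' := ⟨one_mem _, map_one _⟩
      mul_mem' := fun {q r} hq hr => ⟨mul_mem hq.1 hr.1, by rw [map_mul, hq.2, hr.2]⟩
      inv_mem' := fun {q} hq => ⟨inv_mem hq.1, by rw [map_inv, hq.2]⟩ }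
  have hΦc : ∀ q ∈ Φ, ∀ r ∈ Φ, q * r = r * q := fun q hq r hr => by
    rw [← pow_two_cases (hsq _ (mul_mem hq.1 hr.1) (Φ.mul_mem hq hr).2), mul_inv_rev,
      pow_two_cases (hsq r hr.1 hr.2), pow_two_cases (hsq q hq.1 hq.2)]
  let N0 : Subgroup X :=
    { carrier := {g | ∃ u ∈ U, ∃ q ∈ Φ, g = u * q}
      one_mem' := ⟨1, U.one_mem, 1, Φ.one_mem, (mul_one 1).symm⟩
      mul_mem' := by
        rintro _ _ ⟨u, hu, q, hq, rfl⟩ ⟨u', hu', q', hq', rfl⟩
        refine ⟨u * u', mul_mem hu hu', q * q', mul_mem hq hq', ?_⟩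
        calc u * q * (u' * q') = u * (q * u') * q' := by group
          _ = u * (u' * q) * q' := by rw [H.cen_comm hq.1 hu']
          _ = _ := by group
      inv_mem' := by
        rintro _ ⟨u, hu, q, hq, rfl⟩
        refine ⟨u⁻¹, inv_mem hu, q⁻¹, inv_mem hq, ?_⟩
        rw [mul_inv_rev, H.cen_comm (inv_mem hq.1) (inv_mem hu)] }
  have hN0c : ∀ g ∈ N0, ∀ g' ∈ N0, g * g' = g' * g := by
    rintro _ ⟨u, hu, q, hq, rfl⟩ _ ⟨u', hu', q', hq', rfl⟩
    have c1 : Commute u u' := H.comm hu hu'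
    have c2 : Commute q q' := hΦc q hq q' hq'
    have c3 : Commute q u' := H.cen_comm hq.1 hu'
    have c4 : Commute u q' := (H.cen_comm hq'.1 hu).symm
    exact ((c1.mul_right c4).mul_left (c3.mul_right c2)).eq
  have hN0sq : ∀ g ∈ N0, g * g = 1 := by
    rintro _ ⟨u, hu, q, hq, rfl⟩
    calc u * q * (u * q) = u * (q * u) * q := by group
      _ = u * u * (q * q) := by rw [H.cen_comm hq.1 hu]; group
      _ = 1 := by rw [H.sq u hu, hsq q hq.1 hq.2, mul_one]
  -- conjugates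
  have hconj : ∀ t ∈ (S : Subgroup X), cj t p ∈ N0 := by
    intro t ht
    have hcase : ∀ c ∈ cen S U, ∀ q ∈ cen S U, cj h q = q →
        (∀ v : V, va h a v * q * (va h a v * q) = 1 → va h a v ∈ U) → cj c q ∈ N0 := by
      intro c hc q hq hqf hqv
      obtain ⟨v, hv'⟩ := P0.va_span (P0.comm_mod hc hq)
      refine ⟨va h a v, hqv v ?_, q, ⟨hq, hqf⟩, by rw [hv', inv_mul_cancel_right]⟩
      rw [hv', inv_mul_cancel_right, ← map_mul, hsq q hq hqf, map_one]
    by_cases htC : t ∈ cen S U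
    · exact hcase t htC p hp hfix hbad
    rcases F.core.swap with hS | ⟨s, hs, hsC, hsh⟩
    · exact absurd (hS ht) htC
    have hc : t * s⁻¹ ∈ cen S U := H.mul_mem_cen ht htC (inv_mem hs)
      (fun e => hsC (by have := inv_mem e; rwa [inv_inv] at this))
    have hsf : cj h (cj s p) = cj s p := by
      have e : cj s (cj h⁻¹ p) = cj h (cj s p) := by
        rw [← cj_mul, ← cj_mul, show s * h⁻¹ = h * s by
          calc s * h⁻¹ = (s * h * s⁻¹)⁻¹ * s := by group
            _ = h * s := by rw [hsh, inv_inv]]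
      rw [← e, ← hfix, cj_inv_cancel, hfix]
    have hsp := H.cen_normal hs hp
    rw [show cj t p = cj (t * s⁻¹) (cj s p) by rw [← cj_mul, inv_mul_cancel_right]]
    refine hcase _ hc _ hsp hsf ?_
    rcases hprop _ hsp hsf with e | ⟨-, e⟩ | e
    · exact absurd (by rw [← cj_inv_cancel s p, e, map_one]) hp1
    · exfalso
      have hinv : ∀ x ∈ A, cj p x = x⁻¹ := fun x hx => by
        obtain ⟨v, hv'⟩ := P0.va_span (F.cj_mem hs hx)
        have h1 : cj (cj s p) (cj s x) = (cj s x)⁻¹ := by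
          rw [← hv', P0.dl_va e, ← P0.va_neg]
          congr 1
          revert v; exact fun v _ => (by decide +kernel : ∀ v : V, img (2, 0) (0, 2) v = -v) v
        apply (cj s).injective
        rw [map_inv, ← h1]
        simp only [cj_apply]; group
      have hp2 := hsq p hp hfix
      have h2 := hbad (1, 0) (by
        rw [P0.va_a]
        calc a * p * (a * p) = a * (p * a * p⁻¹) * (p * p) := by group
          _ = 1 := by rw [← cj_apply, hinv a P0.ha, hp2, mul_one, mul_inv_cancel])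
      rw [P0.va_a] at h2
      exact P0.sq_ne (H.sq a h2)
    · exact e
  let N : Subgroup X := Subgroup.closure ((U : Set X) ∪ {g | ∃ t ∈ (S : Subgroup X), g = cj t p})
  have hNN : N ≤ N0 := by
    rw [Subgroup.closure_le]
    rintro g (hg | ⟨t, ht, rfl⟩)
    · exact ⟨g, hg, 1, Φ.one_mem, (mul_one g).symm⟩
    · exact hconj t ht
  have h4 := H.small N (fun g hg => ?_) (fun t ht g hg => ?_) (fun g hg => hN0sq g (hNN hg))
    (fun g hg g' hg' => hN0c g (hNN hg) g' (hNN hg'))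
  · have hUN : U ≤ N := fun u hu => Subgroup.subset_closure (Or.inl hu)
    have hpN : p ∈ N := Subgroup.subset_closure (Or.inr ⟨1, one_mem _, (cj_one p).symm⟩)
    have hpU : p ∈ U := (eq_of_le_of_card_ge hUN (by rw [H.card]; exact h4)).ge hpN
    exact hp1 (F.fpf p (F.le hpU) hfix)
  · obtain ⟨u, hu, q, hq, rfl⟩ := hNN hg
    exact mul_mem (H.le hu) hq.1.1
  · induction hg using Subgroup.closure_induction with
    | mem g hg =>
      rcases hg with hg | ⟨t', ht', rfl⟩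
      · exact Subgroup.subset_closure (Or.inl (H.norm t ht g hg))
      · exact Subgroup.subset_closure (Or.inr ⟨t * t', mul_mem ht ht', by rw [cj_mul]⟩)
    | one => rw [map_one]; exact one_mem _
    | mul x y _ _ hx hy => rw [map_mul]; exact mul_mem hx hy
    | inv x _ hx => rw [map_inv]; exact inv_mem hx

end Pre

end Cfsg.Agent.Lib.NoEight59.Two
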