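import Cfsg.Agent.Lib.NoEight59.TwoMid

/-!
# The cases for `Ω₁(A) = A²` (S3102, helper59)
-/

set_option autoImplicit false
set_option linter.unusedSectionVars false
set_option linter.style.haveILetI false

namespace Cfsg.Agent.Lib.NoEight59

open Subgroup

/-- The rank forces involutions in `C` outside `U`. -/
theorem Hyp.rank_false {X : Type*} [Group X] [Finite X] {S : Sylow 2 X} {U : Subgroup X}
    (H : Hyp S U) (hU : ∀ c ∈ cen S U, c * c = 1 → c ∈ U) : False := by
  classical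
  obtain ⟨E, hES, hE2, hEc, hE8⟩ := H.rank
  have hCU : ∀ e ∈ E, e ∈ cen S U → e ∈ U := fun e he hc => hU e hc (hE2 e he)
  obtain ⟨s, hsE, hsC⟩ : ∃ s ∈ E, s ∉ cen S U := by
    by_contra hh
    push Not at hh
    have := Subgroup.card_le_of_le (H := E) (K := U) fun e he => hCU e he (hh e he)
    rw [hE8, H.card] at this
    omega
  have hsub : Nat.card (E ⊓ U : Subgroup X) = 4 := by
    let f : E → ↥(E ⊓ U) × Bool := fun e =>
      if hc : (e : X) ∈ cen S U then (⟨e, e.2, hCU e e.2 hc⟩, false)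
      else (⟨s * e, mul_mem hsE e.2, hCU _ (mul_mem hsE e.2)
        (H.mul_mem_cen (hES hsE) hsC (hES e.2) hc)⟩, true)
    have hinj : Function.Injective f := by
      intro x y e
      simp only [f] at e
      split_ifs at e <;>
      simp only [Prod.mk.injEq, Subtype.mk.injEq, Bool.false_eq_true, Bool.true_eq_false, and_false,
        and_true, mul_right_inj] at e
      · exact Subtype.ext (congrArg (fun v : ↥(E ⊓ U) => (v : X)) e)
      · exact Subtype.ext (mul_left_cancel (congrArg (fun v : ↥(E ⊓ U) => (v : X)) e))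
    have h3 := Nat.card_le_card_of_injective f hinj
    rw [Nat.card_prod, Nat.card_eq_fintype_card (α := Bool), Fintype.card_bool, hE8] at h3
    have h4 := Subgroup.card_le_of_le (inf_le_right : E ⊓ U ≤ U)
    rw [H.card] at h4
    omega
  have hUE : U ≤ E := (Subgroup.eq_of_le_of_card_ge (inf_le_right : E ⊓ U ≤ U)
    (by rw [hsub, H.card])).ge.trans inf_le_left
  exact hsC (mem_cen.2 ⟨hES hsE, fun u hu => cj_eq_self.2 (hEc s hsE u (hUE hu))⟩)

namespace Two

variable {X : Type*} [Group X] [Finite X] {S : Sylow 2 X} {U : Subgroup X} {h : X} {A : Subgroup X}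
  {a : X}

/-- A group of the type `J₂`. -/
def IsJ (G : Type*) [Group G] : Prop :=
  ∃ f : Code × Bool → G, Function.Bijective f ∧ ∀ p q, f (jmul p q) = f p * f q

/-- A group of the type `Ly`. -/
def IsL (G : Type*) [Group G] : Prop :=
  ∃ f : (Code × Bool) × Bool → G, Function.Bijective f ∧ ∀ p q, f (lmul p q) = f p * f q

/-- The fixed involution inverting `A`. -/
structure Xs (S : Sylow 2 X) (U : Subgroup X) (h a x : X) : Prop where
  mem : x ∈ cen S U
  sq : x * x = 1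
  fix : cj h x = x
  dl : Dl h a x (2, 0) (0, 2)

/-- An element outside `C` inverting `h`. -/
structure Ss (S : Sylow 2 X) (U : Subgroup X) (h s : X) : Prop where
  mem : s ∈ (S : Subgroup X)
  notC : s ∉ cen S U
  inv : s * h * s⁻¹ = h⁻¹

/-- The action on `A` of an element inverting `h` and moving `a` by `u`. -/
def sv (u v : V) : V := lin ((1, 0) + u) (hv (hv ((1, 0) + u))) v

theorem Ss.h_inv {s : X} (Q : Ss S U h s) (g : X) : cj s (cj h g) = cj h⁻¹ (cj s g) := by
  rw [← cj_mul, ← cj_mul, ← Q.inv, inv_mul_cancel_right]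

theorem Ss.sh {s : X} (Q : Ss S U h s) : s * h⁻¹ = h * s := by
  calc s * h⁻¹ = (s * h * s⁻¹)⁻¹ * s := by group
    _ = h * s := by rw [Q.inv, inv_inv]

namespace Pre

variable (P0 : Pre S U h A a)
include P0

theorem hyp : Hyp S U := P0.frame.core.base

theorem va_change {u : V} (v : V) : va h (va h a ((1, 0) + u)) v =
    va h a (lin ((1, 0) + u) ((0, 1) + hv u) v) := by
  rw [va, P0.h_va, pw, pw, P0.va_pow, P0.va_pow, ← P0.va_add]
  congr 1
  simp [lin, hv]
  ring_nf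

theorem change {u : V} (hu : u + u = 0) : Pre S U h A (va h a ((1, 0) + u)) := by
  have e : va h a ((1, 0) + u) * va h a ((1, 0) + u) = a * a := by
    rw [← P0.va_add, ← P0.z_eq]
    congr 1
    rw [add_add_add_comm, hu, add_zero]; decide
  exact ⟨P0.frame, P0.va_mem _, e ▸ P0.sq_ne, e ▸ P0.fixz⟩

theorem dl_change {c : X} {u P Q : V} (hu : u + u = 0) (d : Dl h a c P Q)
    (hd : ∀ u : V, u + u = 0 → img P Q ((1, 0) + u) = lin ((1, 0) + u) ((0, 1) + hv u) ((1, 0) + P) ∧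
      img P Q ((0, 1) + hv u) = lin ((1, 0) + u) ((0, 1) + hv u) ((0, 1) + Q)) :
    Dl h (va h a ((1, 0) + u)) c P Q :=
  ⟨d.tP, d.tQ, by rw [P0.dl_va d, P0.va_change, (hd u hu).1],
    by rw [P0.h_va, P0.dl_va d, P0.va_change, ← (hd u hu).2]; congr 1; simp [img, lin, hv]; ring_nf; trivial⟩

theorem xs_inv {x : X} (Q : Xs S U h a x) (v : V) : cj x (va h a v) = va h a (-v) := by
  rw [P0.dl_va Q.dl]
  congr 1
  revert v
  decide +kernel

/-- `s` fixes the fixed involution. -/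
theorem s_fix {x s : X} (Q : Xs S U h a x) (Qs : Ss S U h s) : cj s x = x := by
  have hsx := P0.hyp.cen_normal Qs.mem Q.mem
  have hf : cj h (cj s x) = cj s x := by
    rw [← cj_mul h s, ← Qs.sh, cj_mul, ← Q.fix, cj_inv_cancel, Q.fix]
  rcases P0.fixed_cases hsx hf with e | ⟨-, d⟩
  · exfalso
    have h1 : x = 1 := by rw [← cj_inv_cancel s x, e, map_one]
    exact P0.x_not_Mg Q.dl (h1 ▸ one_mem _)
  · exact P0.x_unique Q.mem hsx Q.fix hf Q.dl d Q.sq

theorem ss_cases {s : X} (Qs : Ss S U h s) : s * s = 1 ∨ Xs S U h a (s * s) := by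
  have hm := P0.hyp.mul_mem_cen Qs.mem Qs.notC Qs.mem Qs.notC
  have hf : cj h (s * s) = s * s := by
    rw [cj_eq_self]
    calc h * (s * s) = (h * s) * s := by group
      _ = s * (h⁻¹ * s) := by rw [← Qs.sh]; group
      _ = s * (s * h) := by
          rw [show h⁻¹ * s = s * h by rw [← Qs.inv, inv_mul_cancel_right]]
      _ = _ := by group
  rcases P0.fixed_cases hm hf with e | ⟨e, d⟩
  · exact Or.inl e
  · exact Or.inr ⟨hm, e, hf, d⟩

theorem s_a {s : X} (Qs : Ss S U h s) :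
    ∃ u : V, u + u = 0 ∧ ∀ v, cj s (va h a v) = va h a (sv u v) := by
  obtain ⟨w, hw⟩ := P0.va_span (P0.frame.cj_mem Qs.mem P0.ha)
  have h2 : w + w = (2, 0) := P0.va_inj (by
    rw [P0.va_add, hw, ← map_mul, P0.fixz s Qs.mem, P0.z_eq])
  refine ⟨w - (1, 0), (by decide +kernel : ∀ w : V, w + w = (2, 0) → w - (1, 0) + (w - (1, 0)) = 0) w h2,
    fun v => ?_⟩
  refine P0.map_va (cj s) ?_ ?_ v
  · rw [add_sub_cancel]; exact hw.symm
  · rw [Qs.h_inv, ← hw, add_sub_cancel]
    refine (cj h).injective ?_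
    rw [cj_cancel_inv, P0.h_va]
    congr 1
    revert w
    exact fun w _ _ => (by decide +kernel : ∀ w : V, w = hv (hv (hv w))) w

/-- `x` with its images under `C` generates a normal subgroup. -/
theorem xs_no_normal {x : X} (Q : Xs S U h a x) (hfix : ∀ c ∈ cen S U, cj c x * x⁻¹ ∈ U) : False := by
  refine P0.frame.core.no_normal_eight Q.mem Q.sq (fun e => P0.x_not_Mg Q.dl
    (P0.le_Mg (P0.frame.le e))) fun t ht => ?_
  by_cases htC : t ∈ cen S U
  · exact hfix t htC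
  rcases P0.frame.core.swap with hS | ⟨s, hs, hsC, hsh⟩
  · exact absurd (hS ht) htC
  have hc : t * s⁻¹ ∈ cen S U := P0.hyp.mul_mem_cen ht htC (inv_mem hs)
    (fun e => hsC (by have := inv_mem e; rwa [inv_inv] at this))
  rw [show cj t x = cj (t * s⁻¹) (cj s x) by rw [← cj_mul, inv_mul_cancel_right],
    P0.s_fix Q ⟨hs, hsC, hsh⟩]
  exact hfix _ hc

theorem xs_split {x c : X} (Q : Xs S U h a x) (hc : c ∈ cen S U) : c ∈ P0.Mg ∨ c * x ∈ P0.Mg := by
  rcases P0.split hc with e | ⟨x', hx', hx2, hxf, hxd, hcx⟩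
  · exact Or.inl e
  · rw [P0.x_unique Q.mem hx' Q.fix hxf Q.dl hxd Q.sq] at hcx
    exact Or.inr hcx

end Pre

namespace Bs

variable {r : Bool} {y : X} (B : Bs S U h A a r y)
include B

theorem change_a {u : V} (hu : u + u = 0) : Bs S U h A (va h a ((1, 0) + u)) r y := by
  refine ⟨B.pre.change hu, B.mem, B.pre.dl_change hu B.dl (by decide +kernel), ?_⟩
  rw [B.pre.va_change, B.sq]
  congr 1
  exact (by decide +kernel : ∀ (r : Bool) (u : V), u + u = 0 →
    (if r = true then (0, 2) else 0) = lin ((1, 0) + u) ((0, 1) + hv u) (if r = true then (0, 2) else 0))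
      r u hu

theorem change_y {w : V} (hw : img (2, 0) (2, 2) w + w = 0) : Bs S U h A a r (y * va h a w) := by
  refine ⟨B.pre, mul_mem B.mem (B.pre.va_cen w), B.pre.dl_mul_A B.dl (B.pre.va_mem w), ?_⟩
  rw [B.pre.mul_sq B.dl B.sq, add_right_comm, hw, zero_add]

theorem sq_mem_U : y * y ∈ U := by
  rw [B.sq, B.pre.mem_U_iff]; cases r <;> decide

/-- The image of `y` under an element with the same action. -/
theorem img_y (f : X ≃* X) (hfC : f y ∈ cen S U) (d : Dl h a (f y) (2, 0) (2, 2)) :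
    ∃ v, f y = y * va h a v ∧
      f (va h a (if r then (0, 2) else 0)) = va h a (img (2, 0) (2, 2) v + (if r then (0, 2) else 0) + v) := by
  obtain ⟨v, e⟩ := B.pre.eq_mod B.mem hfC B.dl d
  exact ⟨v, e, by rw [← B.sq, map_mul, e, B.pre.mul_sq B.dl B.sq]⟩

theorem x_y {x : X} (Q : Xs S U h a x) :
    ∃ v, cj x y = y * va h a v ∧ img (2, 0) (2, 2) v + v = 0 := by
  have P0 := B.pre
  have d : Dl h a (cj x y) (2, 0) (2, 2) := by
    have := P0.dl_mul (P0.dl_mul Q.dl B.dl) (P0.dl_inv Q.dl)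
    rwa [show (2, 0) + (2, 0) + (2, 0) = ((2, 0) : V) by decide,
      show (0, 2) + (2, 2) + (0, 2) = ((2, 2) : V) by decide, ← cj_apply] at this
  obtain ⟨v, e, e2⟩ := B.img_y (cj x) (P0.hyp.cen_normal Q.mem.1 B.mem) d
  refine ⟨v, e, ?_⟩
  rw [(mem_cen.1 Q.mem).2 _ (P0.mem_U_iff.2 (by cases r <;> decide))] at e2
  have := P0.va_inj e2
  revert this
  revert v
  exact fun v _ _ => (by decide +kernel : ∀ (r : Bool) (v : V),
    (if r then (0, 2) else 0) = img (2, 0) (2, 2) v + (if r then (0, 2) else 0) + v →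
      img (2, 0) (2, 2) v + v = 0) r v

theorem s_y {s : X} {u : V} (Qs : Ss S U h s) (hu : u + u = 0)
    (hs : ∀ v, cj s (va h a v) = va h a (sv u v)) :
    ∃ v, cj s y = y * va h a v ∧
      sv u (if r then (0, 2) else 0) = img (2, 0) (2, 2) v + (if r then (0, 2) else 0) + v := by
  have P0 := B.pre
  have h1 : ∀ u : V, u + u = 0 → ∀ w : V,
      (sv u w = (1, 0) → sv u (img (2, 0) (2, 2) w) = (1, 0) + (2, 0)) ∧
      (sv u w = (0, 1) → sv u (img (2, 0) (2, 2) w) = (0, 1) + (2, 2)) := by decide +kernel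
  have h2 : ∀ u : V, u + u = 0 → (∃ w, sv u w = (1, 0)) ∧ ∃ w, sv u w = (0, 1) := by decide +kernel
  obtain ⟨⟨w1, e1⟩, ⟨w2, e2⟩⟩ := h2 u hu
  have key : ∀ w, cj (cj s y) (cj s (va h a w)) = va h a (sv u (img (2, 0) (2, 2) w)) := fun w => by
    rw [← hs, ← P0.dl_va B.dl]; simp only [cj_apply]; group
  have d : Dl h a (cj s y) (2, 0) (2, 2) := by
    refine ⟨B.dl.tP, B.dl.tQ, ?_, ?_⟩
    · have := key w1
      rwa [hs, e1, P0.va_a, (h1 u hu w1).1 e1] at this
    · have := key w2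
      rwa [hs, e2, P0.va_b, (h1 u hu w2).2 e2] at this
  obtain ⟨v, e, e3⟩ := B.img_y (cj s) (P0.hyp.cen_normal Qs.mem B.mem) d
  exact ⟨v, e, P0.va_inj ((hs _).symm.trans e3)⟩

theorem s_y' {s : X} {v : V} (Qs : Ss S U h s) (e : cj s y = y * va h a v) :
    cj s (cj h y) = (y * cj h y)⁻¹ * va h a (hv (hv v)) := by
  refine (cj h).injective ?_
  rw [Qs.h_inv, cj_cancel_inv, e, ← B.third, ← B.pre.h_va, ← B.pre.h_va, ← map_mul, ← map_mul,
    B.pre.three (mul_mem B.mem (B.pre.va_cen v))]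

/-- An involution squaring condition on `v`. -/
theorem s_sq {s : X} {u v : V} (hs : ∀ w, cj s (va h a w) = va h a (sv u w))
    (e : cj s y = y * va h a v) : cj (s * s) y = y * va h a (v + sv u v) := by
  rw [cj_mul, e, map_mul, e, hs, mul_assoc, ← B.pre.va_add]

/-- An involution outside `C` may be assumed to fix `a`. -/
theorem fix_a {s : X} (Qs : Ss S U h s) (hss : s * s = 1) :
    ∃ a', Bs S U h A a' r y ∧ a' * a' = a * a ∧ ∀ w, cj s (va h a' w) = va h a' (sv 0 w) := by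
  have P0 := B.pre
  obtain ⟨u, hu, hs⟩ := P0.s_a Qs
  have h1 : cj s (cj s a) = a := by rw [← cj_mul, hss, cj_one]
  rw [← P0.va_a, hs, hs] at h1
  obtain ⟨w, hw, hwfix⟩ := (by decide +kernel : ∀ u : V, u + u = 0 → sv u (sv u (1, 0)) = (1, 0) →
    ∃ w : V, w + w = 0 ∧ sv u ((1, 0) + w) = (1, 0) + w) u hu (P0.va_inj h1)
  have B' := B.change_a hw
  refine ⟨_, B', ?_, fun v => ?_⟩
  · rw [← P0.va_add, ← P0.z_eq]
    congr 1
    rw [add_add_add_comm, hw, add_zero]; decide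
  obtain ⟨u', hu', hs'⟩ := B'.pre.s_a Qs
  have h2 : cj s (va h (va h a ((1, 0) + w)) (1, 0)) = va h (va h a ((1, 0) + w)) (1, 0) := by
    rw [B'.pre.va_a, hs, hwfix]
  rw [hs'] at h2
  have h3 := B'.pre.va_inj h2
  rw [hs', show u' = 0 from (by decide +kernel : ∀ u : V, sv u (1, 0) = (1, 0) → u = 0) u' h3]

/-- `y` with its images generates a normal subgroup. -/
theorem y_no_normal (B0 : Bs S U h A a false y) (hnx : ∀ c ∈ cen S U, c ∈ B.pre.Mg)
    (hs : ∀ s, Ss S U h s → cj s y * y⁻¹ ∈ U) : False := by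
  have P0 := B.pre
  have hy2 : y * y = 1 := by rw [B0.sq]; simp [P0.va_zero]
  have hyU : y ∉ U := fun e => by
    have := (P0.dl_unique B.dl (P0.dl_zero (P0.frame.le e))).1
    exact absurd this (by decide)
  have hC : ∀ c ∈ cen S U, cj c y * y⁻¹ ∈ U := fun c hc => by
    obtain ⟨p, rfl⟩ := B0.mem_Mg (hnx c hc)
    obtain ⟨u, hu, e⟩ := (by decide +kernel : ∀ p : Code, ∃ u : V, u + u = 0 ∧
      bmul false p ((0, 0), (true, false)) =
        bmul false (bmul false (u, (false, false)) ((0, 0), (true, false))) p) p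
    have := congrArg (ev a (cj h a) y (cj h y)) e
    rw [B0.rel.ev_bmul, B0.rel.ev_bmul, B0.rel.ev_bmul, B0.rel.ev_gen.2.2.1, B0.ev_va] at this
    rw [cj_apply, this, show va h a u * y * ev a (cj h a) y (cj h y) p * (ev a (cj h a) y (cj h y) p)⁻¹
      * y⁻¹ = va h a u by group]
    exact P0.mem_U_iff.2 hu
  refine P0.frame.core.no_normal_eight B.mem hy2 hyU fun t ht => ?_
  by_cases htC : t ∈ cen S U
  · exact hC t htC
  rcases P0.frame.core.swap with hS | ⟨s, hs', hsC, hsh⟩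
  · exact absurd (hS ht) htC
  have hc : t * s⁻¹ ∈ cen S U := P0.hyp.mul_mem_cen ht htC (inv_mem hs')
    (fun e => hsC (by have := inv_mem e; rwa [inv_inv] at this))
  have h1 := hs s ⟨hs', hsC, hsh⟩
  have h2 := hC _ hc
  have e : cj t y * y⁻¹ = cj (t * s⁻¹) (cj s y * y⁻¹) * (cj (t * s⁻¹) y * y⁻¹) := by
    rw [map_mul, ← cj_mul, inv_mul_cancel_right, map_inv]; group
  rw [e, (mem_cen.1 hc).2 _ h1]
  exact mul_mem h1 h2

/-- The normalised `x`. -/
theorem x_shift {x : X} (Q : Xs S U h a x) (hne : ∀ v, cj x y = y * va h a v → v + v = 0 → False) :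
    ∃ c ∈ A, cj x y = y * c ∧ c * c = a * a := by
  obtain ⟨v, e, hv'⟩ := B.x_y Q
  rcases (by decide +kernel : ∀ v : V, img (2, 0) (2, 2) v + v = 0 → v + v = 0 ∨ v + v = (2, 0)) v hv'
    with h0 | h0
  · exact (hne v e h0).elim
  · exact ⟨_, B.pre.va_mem v, e, by rw [← B.pre.va_add, h0, B.pre.z_eq]⟩

/-- If `x` moves `y` within `U` it generates a normal subgroup. -/
theorem x_no_normal {x : X} (Q : Xs S U h a x) {v : V} (e : cj x y = y * va h a v) (hv' : v + v = 0) :
    False := by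
  have P0 := B.pre
  have hU := P0.mem_U_iff.2 hv'
  let K : Subgroup X :=
    { carrier := {m | m ∈ cen S U ∧ cj m x * x⁻¹ ∈ U}
      one_mem' := ⟨one_mem _, by rw [cj_one, mul_inv_cancel]; exact one_mem _⟩
      mul_mem' := fun {m n} hm hn => ⟨mul_mem hm.1 hn.1, by
        rw [show cj (m * n) x * x⁻¹ = cj m (cj n x * x⁻¹) * (cj m x * x⁻¹) by
          rw [map_mul, ← cj_mul, map_inv]; group, (mem_cen.1 hm.1).2 _ hn.2]
        exact mul_mem hn.2 hm.2⟩
      inv_mem' := fun {m} hm => ⟨inv_mem hm.1, by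
        have h1 := inv_mem hm.2
        rwa [← (mem_cen.1 (inv_mem hm.1)).2 _ h1, map_inv, map_mul, cj_inv_cancel, map_inv,
          mul_inv_rev, inv_inv] at h1⟩ }
  have hA : ∀ c ∈ A, c ∈ K := fun c hc => ⟨P0.frame.inv.le hc, by
    obtain ⟨w, rfl⟩ := P0.va_span hc
    have e1 : cj (va h a w) x * x⁻¹ = va h a w * cj x (va h a w)⁻¹ := by
      simp only [cj_apply]; group
    rw [e1, ← P0.va_neg, P0.xs_inv Q, neg_neg, ← P0.va_add, P0.mem_U_iff]
    revert w
    exact fun w _ _ => (by decide +kernel : ∀ w : V, w + w + (w + w) = 0) w⟩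
  have hy : y ∈ K := ⟨B.mem, by
    have e1 : cj y x * x⁻¹ = (cj x y * y⁻¹)⁻¹ := by simp only [cj_apply]; group
    rw [e1, e, show y * va h a v * y⁻¹ = cj y (va h a v) from rfl, (mem_cen.1 B.mem).2 _ hU]
    exact inv_mem hU⟩
  have hy' : cj h y ∈ K := ⟨B.mem', by
    have := P0.frame.core.invt_U.hmem _ hy.2
    rwa [map_mul, map_inv, show cj h (cj y x) = cj (cj h y) (cj h x) by simp only [cj_apply]; group,
      Q.fix] at this⟩
  have hx : x ∈ K := ⟨Q.mem, by rw [cj_eq_self.2 rfl, mul_inv_cancel]; exact one_mem _⟩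
  have hMK : ∀ c ∈ P0.Mg, c ∈ K := fun c hc => by
    obtain ⟨p, rfl⟩ := B.mem_Mg hc
    refine mul_mem (hA _ (P0.va_mem p.1)) (mul_mem ?_ ?_) <;> split_ifs
    exacts [hy, one_mem _, hy', one_mem _]
  refine P0.xs_no_normal Q fun c hc => ?_
  have hcK : c ∈ K := by
    rcases P0.xs_split Q hc with h1 | h1
    · exact hMK c h1
    · exact (K.mul_mem_cancel_right hx).1 (hMK _ h1)
  exact hcK.2

/-- The relations of `C`. -/
theorem crel {x : X} (Q : Xs S U h a x) (e : cj x y = y * a) :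
    CRel r a (cj h a) y (cj h y) x := by
  have P0 := B.pre
  refine ⟨B.rel, Q.sq, ?_, ?_, e, ?_⟩
  · have := P0.xs_inv Q (1, 0)
    rwa [P0.va_neg, P0.va_a] at this
  · have := P0.xs_inv Q (0, 1)
    rwa [P0.va_neg, P0.va_b] at this
  · show cj x (cj h y) = cj h y * cj h a
    rw [← map_mul, ← e, show cj h (cj x y) = cj (cj h x) (cj h y) by simp only [cj_apply]; group, Q.fix]

theorem evC_inj {x : X} (Q : Xs S U h a x) {p q : Code × Bool}
    (e : evC a (cj h a) y (cj h y) x p = evC a (cj h a) y (cj h y) x q) : p = q := by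
  obtain ⟨p, k⟩ := p
  obtain ⟨q, l⟩ := q
  simp only [evC] at e
  cases k <;> cases l <;> simp only [Bool.false_eq_true, if_false, if_true, mul_one] at e
  · rw [B.ev_inj e]
  · exact absurd ((B.pre.Mg.mul_mem_cancel_left (B.ev_mem q)).1 (e ▸ B.ev_mem p)) (B.pre.x_not_Mg Q.dl)
  · exact absurd ((B.pre.Mg.mul_mem_cancel_left (B.ev_mem p)).1 (e.symm ▸ B.ev_mem q)) (B.pre.x_not_Mg Q.dl)
  · rw [B.ev_inj (mul_right_cancel e)]

theorem evC_surj {x c : X} (Q : Xs S U h a x) (hc : c ∈ cen S U) :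
    ∃ p, evC a (cj h a) y (cj h y) x p = c := by
  rcases B.pre.xs_split Q hc with h1 | h1
  · obtain ⟨p, hp⟩ := B.mem_Mg h1
    exact ⟨(p, false), by simp only [evC, Bool.false_eq_true, if_false, mul_one, hp]⟩
  · obtain ⟨p, hp⟩ := B.mem_Mg h1
    exact ⟨(p, true), by simp only [evC, if_true, hp, mul_assoc, Q.sq, mul_one]⟩

theorem evC_mem {x : X} (Q : Xs S U h a x) (p : Code × Bool) :
    evC a (cj h a) y (cj h y) x p ∈ cen S U :=
  mul_mem (B.pre.Mg_le (B.ev_mem p.1)) (by split_ifs <;> first | exact Q.mem | exact one_mem _)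

end Bs

/-- Glueing an involution outside `C` onto a parametrisation of `C`. -/
theorem bij_outer (H : Hyp S U) {P : Type*} (ev : P → X) {s : X} (Qs : Ss S U h s) (hss : s * s = 1)
    (hmem : ∀ p, ev p ∈ cen S U) (hinj : Function.Injective ev)
    (hsurj : ∀ c ∈ cen S U, ∃ p, ev p = c) :
    ∃ hm : ∀ p : P × Bool, ev p.1 * (if p.2 then s else 1) ∈ (S : Subgroup X),
      Function.Bijective (fun p : P × Bool => (⟨_, hm p⟩ : ↥(S : Subgroup X))) := by
  refine ⟨fun p => mul_mem (hmem p.1).1 (by split_ifs <;> first | exact Qs.mem | exact one_mem _), ?_, ?_⟩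
  · rintro ⟨p, k⟩ ⟨q, l⟩ e
    have e' := congrArg Subtype.val e
    simp only at e'
    cases k <;> cases l <;> simp only [Bool.false_eq_true, if_false, if_true, mul_one] at e'
    · rw [hinj e']
    · exact absurd (((cen S U).mul_mem_cancel_left (hmem q)).1 (e' ▸ hmem p)) Qs.notC
    · exact absurd (((cen S U).mul_mem_cancel_left (hmem p)).1 (e'.symm ▸ hmem q)) Qs.notC
    · rw [hinj (mul_right_cancel e')]
  · rintro ⟨t, ht⟩
    by_cases htC : t ∈ cen S U
    · obtain ⟨p, hp⟩ := hsurj t htC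
      exact ⟨(p, false), Subtype.ext (by simp [hp])⟩
    · obtain ⟨p, hp⟩ := hsurj _ (H.mul_mem_cen ht htC Qs.mem Qs.notC)
      exact ⟨(p, true), Subtype.ext (by simp [hp, mul_assoc, hss])⟩

/-- No fixed involution: type `J₂`. -/
theorem Bs.isJ {r : Bool} {y : X} (B : Bs S U h A a r y) (hnx : ∀ c ∈ cen S U, c ∈ B.pre.Mg) :
    IsJ ↥(S : Subgroup X) := by
  have P0 := B.pre
  have H := P0.hyp
  cases r
  swap
  · exfalso
    refine H.rank_false fun c hc hc2 => ?_
    obtain ⟨p, rfl⟩ := B.mem_Mg (hnx c hc)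
    have e : bmul true p p = 0 := B.ev_inj (by
      rw [B.rel.ev_bmul, hc2]; exact B.rel.ev_gen.2.2.2.2.symm)
    obtain ⟨v, f⟩ := p
    obtain ⟨hf, hv'⟩ := (by decide +kernel : ∀ (v : V) (f : Bool × Bool),
      bmul true (v, f) (v, f) = ((0, 0), (false, false)) → f = (false, false) ∧ v + v = 0) v f e
    subst hf
    rw [B.ev_va]
    exact P0.mem_U_iff.2 hv'
  rcases P0.frame.core.swap with hS | ⟨s, hs, hsC, hsh⟩
  · exfalso
    exact B.y_no_normal B hnx fun s Qs => absurd (hS Qs.mem) Qs.notC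
  have hs1 : ∀ t, Ss S U h t → t * t = 1 := fun t Qt => (P0.ss_cases Qt).resolve_right fun Q => by
    obtain ⟨P, hP⟩ := (hnx _ Q.mem).2
    exact P0.x_not_Mg Q.dl ⟨Q.mem, P, hP⟩
  have Qs : Ss S U h s := ⟨hs, hsC, hsh⟩
  have hss := hs1 s Qs
  obtain ⟨a', B', -, hsv⟩ := B.fix_a Qs hss
  obtain ⟨v, e, hv1⟩ := B'.s_y Qs (by decide) hsv
  have hv2 : v + sv 0 v = 0 := B'.pre.va_inj (mul_left_cancel (a := y) (by
    rw [← B'.s_sq hsv e, hss, cj_one, B'.pre.va_zero, mul_one]))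
  obtain ⟨y', B'', e'⟩ : ∃ y', Bs S U h A a' false y' ∧ cj s y' = y' * va h a' (1, 2) := by
    rcases (by decide +kernel : ∀ v : V,
        sv 0 0 = img (2, 0) (2, 2) v + 0 + v → v + sv 0 v = 0 →
        v + v = 0 ∨ v = (1, 2) ∨ v = (3, 2)) v (by simpa using hv1) hv2 with h0 | rfl | rfl
    · exfalso
      refine B'.y_no_normal B' (fun c hc => ?_) fun t Qt => ?_
      · rcases B'.pre.split hc with h1 | ⟨x, hx, hx2, hxf, hxd, -⟩
        · exact h1
        · exfalso
          rcases P0.fixed_cases hx hxf with h1 | ⟨h1, h2⟩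
          · exact B'.pre.x_not_Mg hxd (h1 ▸ one_mem _)
          · exact P0.x_not_Mg h2 (hnx x hx)
      have hc : s * t ∈ cen S U := H.mul_mem_cen Qs.mem Qs.notC Qt.mem Qt.notC
      have hfix : cj h (s * t) = s * t := by
        rw [cj_eq_self]
        calc h * (s * t) = (h * s) * t := by group
          _ = s * (h⁻¹ * t) := by rw [← Qs.sh]; group
          _ = s * (t * h) := by rw [show h⁻¹ * t = t * h by rw [← Qt.inv, inv_mul_cancel_right]]
          _ = _ := by group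
      have : s * t = 1 := by
        rcases P0.fixed_cases hc hfix with h1 | ⟨-, h1⟩
        · exact h1
        · exact absurd (hnx _ hc) (P0.x_not_Mg h1)
      obtain rfl : t = s := mul_left_cancel (this.trans hss.symm)
      rw [e, show y * va h a' v * y⁻¹ = cj y (va h a' v) from rfl,
        (mem_cen.1 B'.mem).2 _ (B'.pre.mem_U_iff.2 h0)]
      exact B'.pre.mem_U_iff.2 h0
    · exact ⟨y, B', e⟩
    · refine ⟨_, B'.change_y (w := (0, 2)) (by decide), ?_⟩
      rw [map_mul, e, hsv, mul_assoc, mul_assoc, ← B'.pre.va_add, ← B'.pre.va_add]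
      congr 2
  have P' := B''.pre
  have hyy : y' * cj h y' * (y' * cj h y') = 1 := by
    have c := B''.comm
    calc y' * cj h y' * (y' * cj h y') = y' * (cj h y' * y') * cj h y' := by group
      _ = (y' * y') * (cj h y' * cj h y') := by rw [← c]; group
      _ = 1 := by rw [B''.sq, B''.sq']; simp [P'.va_zero]
  have R : SRel true a' (cj h a') y' (cj h y') s := by
    refine ⟨B''.rel, hss, ?_, ?_, ?_, ?_⟩
    · have := hsv (1, 0)
      rwa [show sv 0 (1, 0) = (1, 0) by decide, P'.va_a] at this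
    · have := hsv (0, 1)
      rwa [show sv 0 (0, 1) = -((1, 0) + (0, 1)) by decide, P'.va_neg, P'.va_add, P'.va_a, P'.va_b] at this
    · show cj s y' = _
      rw [e', va, if_pos rfl, pw_one, show (2 : ZMod 4) = ((2 : ℕ) : ZMod 4) from rfl, pw_nat P'.b4]
    · show cj s (cj h y') = _
      rw [B''.s_y' Qs e', show hv (hv (1, 2)) = (((1 : ℕ) : ZMod 4), ((3 : ℕ) : ZMod 4)) by decide,
        pow_two_cases hyy, va, pw_nat P'.a4, pw_nat P'.b4, pow_one]
      simp
  obtain ⟨hm, hb⟩ := bij_outer H (ev a' (cj h a') y' (cj h y')) Qs hss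
    (fun p => P'.Mg_le (B''.ev_mem p)) (fun p q e => B''.ev_inj e) fun c hc => B''.mem_Mg (by
      rcases P'.split hc with h1 | ⟨x, hx, hx2, hxf, hxd, -⟩
      · exact h1
      · exfalso
        rcases P0.fixed_cases hx hxf with h1 | ⟨h1, h2⟩
        · exact P'.x_not_Mg hxd (h1 ▸ one_mem _)
        · exact P0.x_not_Mg h2 (hnx x hx))
  exact ⟨_, hb, fun p q => Subtype.ext (R.evJ_mul p q)⟩

/-- With a fixed involution and `y² = 1`: type `Ly`. -/
theorem Bs.isL {y x s c : X} (B : Bs S U h A a false y) (Q : Xs S U h a x) (hc : c ∈ A)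
    (exy : cj x y = y * c) (hcc : c * c = a * a) (Qs0 : Ss S U h s) :
    IsL ↥(S : Subgroup X) := by
  have P0 := B.pre
  have H := P0.hyp
  obtain ⟨w, rfl⟩ := P0.va_span hc
  have hw : w + w = (2, 0) := P0.va_inj (by rw [P0.va_add, hcc, P0.z_eq])
  -- the right element outside `C`
  obtain ⟨s, Qs, u, v, hu, hsv, esy, hv'⟩ : ∃ s, Ss S U h s ∧ ∃ u v, u + u = 0 ∧
      (∀ z, cj s (va h a z) = va h a (sv u z)) ∧ cj s y = y * va h a v ∧ v + v = 0 := by
    obtain ⟨u, hu, hsv⟩ := P0.s_a Qs0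
    obtain ⟨v, esy, hv1⟩ := B.s_y Qs0 hu hsv
    rcases (by decide +kernel : ∀ u : V, u + u = 0 → ∀ v : V, sv u 0 = img (2, 0) (2, 2) v + 0 + v →
        ∀ w : V, w + w = (2, 0) → v + v = 0 ∨ v + sv u w + (v + sv u w) = 0)
        u hu v (by simpa using hv1) w hw with h0 | h0
    · exact ⟨s, Qs0, u, v, hu, hsv, esy, h0⟩
    have Qsx : Ss S U h (s * x) := by
      refine ⟨mul_mem Qs0.mem Q.mem.1, fun e => Qs0.notC (((cen S U).mul_mem_cancel_right Q.mem).1 e), ?_⟩
      calc s * x * h * (s * x)⁻¹ = s * (x * h) * x⁻¹ * s⁻¹ := by group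
        _ = s * (h * x) * x⁻¹ * s⁻¹ := by rw [(cj_eq_self.1 Q.fix).symm]
        _ = _ := by rw [← Qs0.inv]; group
    obtain ⟨u', hu', hsv'⟩ := P0.s_a Qsx
    refine ⟨s * x, Qsx, u', v + sv u w, hu', hsv', ?_, h0⟩
    rw [cj_mul, exy, map_mul, esy, hsv, mul_assoc, ← P0.va_add]
  have hss : s * s = 1 := (P0.ss_cases Qs).resolve_right fun Q' => by
    have h1 : cj (s * s) y = y * va h a w := by
      rw [P0.x_unique Q.mem Q'.mem Q.fix Q'.fix Q.dl Q'.dl Q.sq, exy]
    rw [B.s_sq hsv esy] at h1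
    exact (by decide +kernel : ∀ u : V, u + u = 0 → ∀ v : V, v + v = 0 → ∀ w : V, w + w = (2, 0) →
      v + sv u v ≠ w) u hu v hv' w hw (P0.va_inj (mul_left_cancel h1))
  obtain ⟨a', B', haa, hsv'⟩ := B.fix_a Qs hss
  have P' := B'.pre
  obtain ⟨v1, hv1⟩ : ∃ v1, va h a' v1 = va h a v := P'.va_span (P0.va_mem v)
  obtain ⟨w1, hw1⟩ : ∃ w1, va h a' w1 = va h a w := P'.va_span (P0.va_mem w)
  rw [← hv1] at esy
  rw [← hw1] at exy hcc
  have hv1' : v1 + v1 = 0 := P'.mem_U_iff.1 (hv1 ▸ P0.mem_U_iff.2 hv')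
  have hw1' : w1 + w1 = (2, 0) := P'.va_inj (by rw [P'.va_add, hcc, P'.z_eq, haa])
  have Q' : Xs S U h a' x := by
    obtain ⟨-, d⟩ := (P'.fixed_cases Q.mem Q.fix).resolve_left fun e =>
      P0.x_not_Mg Q.dl (e ▸ one_mem _)
    exact ⟨Q.mem, Q.sq, Q.fix, d⟩
  have hsx := P'.s_fix Q' Qs
  have e1 : sv 0 w1 = w1 := by
    have h1 : cj s (cj x y) = cj x (cj s y) := by
      rw [← cj_mul, ← cj_mul, cj_eq_self.1 hsx]
    rw [exy, esy, map_mul, map_mul, esy, exy, hsv', P'.xs_inv Q', mul_assoc, mul_assoc,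
      ← P'.va_add, ← P'.va_add] at h1
    exact (by decide +kernel : ∀ v w : V, v + v = 0 → v + sv 0 w = w + -v → sv 0 w = w)
      v1 w1 hv1' (P'.va_inj (mul_left_cancel h1))
  have e2 : v1 + sv 0 v1 = 0 := P'.va_inj (mul_left_cancel (a := y) (by
    rw [← B'.s_sq hsv' esy, hss, cj_one, P'.va_zero, mul_one]))
  obtain ⟨d, hd, hd1, hd2⟩ : ∃ d : V, img (2, 0) (2, 2) d + d = 0 ∧ w1 + -d = d + (1, 0) ∧
      v1 + sv 0 d = d :=
    (by decide +kernel : ∀ v w : V, v + v = 0 → w + w = (2, 0) → sv 0 w = w → v + sv 0 v = 0 →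
      ∃ d : V, img (2, 0) (2, 2) d + d = 0 ∧ w + -d = d + (1, 0) ∧ v + sv 0 d = d)
      v1 w1 hv1' hw1' e1 e2
  set y' := y * va h a' d with hy'
  have B'' : Bs S U h A a' false y' := B'.change_y hd
  have exy' : cj x y' = y' * a' := by
    rw [hy', map_mul, exy, P'.xs_inv Q', mul_assoc, mul_assoc, ← P'.va_add, hd1, P'.va_add, P'.va_a]
  have esy' : cj s y' = y' := by
    rw [hy', map_mul, esy, hsv', mul_assoc, ← P'.va_add, hd2]
  have R : SRel false a' (cj h a') y' (cj h y') s := by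
    refine ⟨B''.rel, hss, ?_, ?_, ?_, ?_⟩
    · have := hsv' (1, 0)
      rwa [show sv 0 (1, 0) = (1, 0) by decide, P'.va_a] at this
    · have := hsv' (0, 1)
      rwa [show sv 0 (0, 1) = -((1, 0) + (0, 1)) by decide, P'.va_neg, P'.va_add, P'.va_a, P'.va_b] at this
    · show cj s y' = _
      simp [esy']
    · show cj s (cj h y') = _
      have e0 : cj s y' = y' * va h a' 0 := by rw [esy', P'.va_zero, mul_one]
      have c := B''.comm
      have hyy : y' * cj h y' * (y' * cj h y') = 1 := by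
        calc y' * cj h y' * (y' * cj h y') = y' * (cj h y' * y') * cj h y' := by group
          _ = (y' * y') * (cj h y' * cj h y') := by rw [← c]; group
          _ = 1 := by rw [B''.sq, B''.sq']; simp [P'.va_zero]
      rw [B''.s_y' Qs e0, show hv (hv 0) = 0 by decide, P'.va_zero, pow_two_cases hyy]
      simp
  obtain ⟨hm, hb⟩ := bij_outer H (evC a' (cj h a') y' (cj h y') x) Qs hss (fun p => B''.evC_mem Q' p)
    (fun p q e => B''.evC_inj Q' e) fun c hc => B''.evC_surj Q' hc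
  exact ⟨_, hb, fun p q => Subtype.ext (evL_mul R (B''.crel Q' exy') hsx p q)⟩

end Two

end Cfsg.Agent.Lib.NoEight59
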