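import Cfsg.Agent.Lib.NoEight59.TwoCases

/-!
# Fusion of the fixed involution for `Ω₁(A) = A²` (S3102, helper59)
-/

set_option autoImplicit false
set_option linter.unusedSectionVars false
set_option linter.style.haveILetI false

namespace Cfsg.Agent.Lib.NoEight59.Two

open Subgroup

/-- A code of `U`. -/
abbrev IsU (p : Code × Bool) : Prop := p.2 = false ∧ p.1.2 = (false, false) ∧ p.1.1 + p.1.1 = 0

/-- The code of the identity. -/
abbrev one' : Code × Bool := (((0, 0), (false, false)), false)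

/-- The code of `x`. -/
abbrev xc (v : V) : Code × Bool := ((v, (false, false)), true)

theorem code_x : ∀ (r : Bool) (p : Code × Bool), cmul r p p = one' → p.2 = true →
    p.1.2 = (false, false) := by decide +kernel

theorem code_M : ∀ (r : Bool) (p : Code), cmul r (p, false) (p, false) = one' →
    p.2 = (false, false) → p.1 + p.1 = 0 := by decide +kernel

theorem code_U : ∀ p : Code, cmul true (p, false) (p, false) = one' → p.2 = (false, false) := by
  decide +kernel

theorem code_cen : ∀ (r : Bool) (v : V) (q : Code × Bool),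
    cmul r (xc v) q = cmul r q (xc v) → IsU q ∨ IsU (cmul r (xc v) q) := by decide +kernel

theorem code_conj : ∀ (r : Bool) (v : V), ∃ t : Code × Bool,
    cmul r t (xc 0) = cmul r (xc v) t := by decide +kernel

theorem code_norm : ∀ (r : Bool) (e : Code), bmul r e e = ((0, 0), (false, false)) → ∀ p : Code,
    ∃ u : V, u + u = 0 ∧ bmul r p e = bmul r (bmul r (u, (false, false)) e) p := by decide +kernel

set_option synthInstance.maxSize 4096 in
theorem code_plane : ∀ (r : Bool) (e : Code), bmul r e e = ((0, 0), (false, false)) →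
    e.2 ≠ (false, false) → ∀ p : Code, bmul r p p = ((2, 0), (false, false)) →
    bmul r (bmul r (bmul r e p) e) p = ((0, 0), (false, false)) →
    ∀ q : Code, bmul r q q = ((0, 2), (false, false)) →
    bmul r (bmul r (bmul r e q) e) q = ((0, 0), (false, false)) → bmul r p q ≠ bmul r q p := by
  decide +kernel

set_option synthInstance.maxSize 4096 in
theorem code_sixteen_comm : ∀ (r : Bool) (e : Code), bmul r e e = ((0, 0), (false, false)) →
    e.2 ≠ (false, false) → ∀ q : Code × Bool, cmul r q q = one' →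
    cmul r (e, false) q = cmul r q (e, false) → ∀ q' : Code × Bool, cmul r q' q' = one' →
    cmul r (e, false) q' = cmul r q' (e, false) → cmul r q q' = cmul r q' q := by decide +kernel

/-- The involutions commuting with `e`. -/
def cset (r : Bool) (e : Code) : Finset (Code × Bool) :=
  Finset.univ.filter fun q : Code × Bool =>
    cmul r q q = one' ∧ cmul r (e, false) q = cmul r q (e, false)

theorem mem_filter_univ_iff {α : Type*} [Fintype α] (P : α → Prop) [DecidablePred P] (x : α) :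
    x ∈ Finset.univ.filter P ↔ P x := by simp

theorem mem_cset (r : Bool) (e : Code) (q : Code × Bool) :
    q ∈ cset r e ↔ cmul r q q = one' ∧ cmul r (e, false) q = cmul r q (e, false) :=
  mem_filter_univ_iff _ q

theorem code_sixteen_card : ∀ (r : Bool) (e : Code), bmul r e e = ((0, 0), (false, false)) →
    e.2 ≠ (false, false) → 8 < (cset r e).card := by decide +kernel

attribute [local irreducible] cset

variable {X : Type*} [Group X] [Finite X] {S : Sylow 2 X} {U : Subgroup X} {h : X} {A : Subgroup X}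
  {a : X}

theorem mem_normalizer_of_cj {T : Subgroup X} {k : X} (hk : ∀ y ∈ T, cj k y ∈ T) :
    k ∈ normalizer (T : Set X) :=
  mem_normalizer_iff.2 fun y => ⟨fun hy => hk y hy, fun hy => by
    let f : T → T := fun y => ⟨cj k y, hk y y.2⟩
    obtain ⟨y', hy'⟩ := ((Finite.injective_iff_surjective (f := f)).1
      fun a b e => Subtype.ext ((cj k).injective (congrArg Subtype.val e))) ⟨_, hy⟩
    exact (cj k).injective (congrArg Subtype.val hy') ▸ y'.2⟩

/-- A 2-group centralising `x` follows it to an extremal conjugate in `S`. -/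
theorem exists_move (S : Sylow 2 X) {x v : X} (hv : v ∈ (S : Subgroup X)) (hxv : IsConj x v)
    (hmax : ∀ y ∈ (S : Subgroup X), IsConj x y →
      Nat.card ↥((S : Subgroup X) ⊓ centralizer ({y} : Set X)) ≤
        Nat.card ↥((S : Subgroup X) ⊓ centralizer ({v} : Set X)))
    {T : Subgroup X} (hT : IsPGroup 2 T) (hTx : ∀ t ∈ T, x * t = t * x) :
    ∃ g : X, cj g x = v ∧ ∀ t ∈ T, cj g t ∈ (S : Subgroup X) := by
  haveI : Fact (Nat.Prime 2) := ⟨Nat.prime_two⟩
  obtain ⟨g0, hg0⟩ := isConj_iff.1 hxv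
  set K := centralizer ({v} : Set X)
  set Tv := (S : Subgroup X) ⊓ K with hTv
  obtain ⟨P, hP⟩ := ((S.2.to_le inf_le_left : IsPGroup 2 Tv).comap_of_injective K.subtype
    K.subtype_injective).exists_le_sylow
  set P' := (P : Subgroup K).map K.subtype with hP'
  have hTP : Tv ≤ P' := fun t ht => ⟨⟨t, ht.2⟩, hP ht, rfl⟩
  obtain ⟨k, -, hk⟩ := exists_conj_into (H := (⊤ : Subgroup X)) S le_top le_top (P.2.map K.subtype)
  have hvT : v ∈ Tv := ⟨hv, mem_centralizer_singleton_iff.2 rfl⟩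
  have hy : cj k v ∈ (S : Subgroup X) := hk v (hTP hvT)
  have hle : P'.map (cj k).toMonoidHom ≤ (S : Subgroup X) ⊓ centralizer ({cj k v} : Set X) := by
    rintro _ ⟨p, hp, rfl⟩
    refine ⟨hk p hp, mem_centralizer_singleton_iff.2 ?_⟩
    obtain ⟨pK, -, hpe⟩ := hp
    have hc : p * v = v * p := hpe ▸ mem_centralizer_singleton_iff.1 pK.2
    show cj k p * cj k v = cj k v * cj k p
    rw [← map_mul, ← map_mul, hc]
  have hcard : Nat.card P' ≤ Nat.card Tv := by
    have h1 := Subgroup.card_le_of_le hle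
    rw [Subgroup.card_map_of_injective (f := (cj k).toMonoidHom) (cj k).injective] at h1
    exact h1.trans (hmax _ hy (hxv.trans (isConj_iff.2 ⟨k, rfl⟩)))
  have hPT : P' = Tv := (eq_of_le_of_card_ge hTP hcard).symm
  have hTK : T.map (cj g0).toMonoidHom ≤ K := by
    rintro _ ⟨t, ht, rfl⟩
    rw [mem_centralizer_singleton_iff, ← hg0, ← cj_apply]
    show cj g0 t * cj g0 x = cj g0 x * cj g0 t
    rw [← map_mul, ← map_mul, hTx t ht]
  obtain ⟨P2, hP2⟩ := ((hT.map (cj g0).toMonoidHom).comap_of_injective K.subtype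
    K.subtype_injective).exists_le_sylow
  obtain ⟨m, hm⟩ := MulAction.exists_smul_eq K P2 P
  refine ⟨(m : X) * g0, ?_, fun t ht => ?_⟩
  · rw [cj_mul, cj_apply g0, hg0]
    exact cj_eq_self.2 (mem_centralizer_singleton_iff.1 m.2)
  · have h1 : m * ⟨cj g0 t, hTK ⟨t, ht, rfl⟩⟩ * m⁻¹ ∈ (P : Subgroup K) := by
      rw [← hm]
      exact Subgroup.smul_mem_pointwise_smul _ (MulAut.conj m) (P2 : Subgroup K) (hP2 ⟨t, ht, rfl⟩)
    have h2 : cj (m : X) (cj g0 t) ∈ P' := ⟨_, h1, rfl⟩
    rw [hPT] at h2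
    rw [cj_mul]
    exact h2.1

/-- `C` with its generators. -/
structure Cs (S : Sylow 2 X) (U : Subgroup X) (h : X) (A : Subgroup X) (a : X) (r : Bool) (y x : X) :
    Prop where
  bs : Bs S U h A a r y
  xs : Xs S U h a x
  xy : cj x y = y * a

namespace Cs

variable {r : Bool} {y x : X} (C : Cs S U h A a r y x)

/-- The parametrisation. -/
abbrev f (_C : Cs S U h A a r y x) (p : Code × Bool) : X := evC a (cj h a) y (cj h y) x p

include C

theorem H : Hyp S U := C.bs.pre.hyp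

theorem f_mul (p q : Code × Bool) : C.f (cmul r p q) = C.f p * C.f q :=
  (C.bs.crel C.xs C.xy).evC_mul p q

theorem f_inj {p q : Code × Bool} (e : C.f p = C.f q) : p = q := C.bs.evC_inj C.xs e

theorem f_surj {c : X} (hc : c ∈ cen S U) : ∃ p, C.f p = c := C.bs.evC_surj C.xs hc

theorem f_mem (p : Code × Bool) : C.f p ∈ cen S U := C.bs.evC_mem C.xs p

theorem f_va (v : V) : C.f ((v, (false, false)), false) = va h a v := by
  simp only [f, evC, Bool.false_eq_true, if_false, mul_one, C.bs.ev_va]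

theorem f_one : C.f one' = 1 := by
  rw [C.f_va]; exact C.bs.pre.va_zero

theorem f_xc (v : V) : C.f (xc v) = va h a v * x := by
  simp only [f, evC, if_true, C.bs.ev_va]

theorem f_sq {p : Code × Bool} (e : C.f p * C.f p = 1) : cmul r p p = one' :=
  C.f_inj (by rw [C.f_mul, e, C.f_one])

theorem f_comm {p q : Code × Bool} (e : C.f p * C.f q = C.f q * C.f p) : cmul r p q = cmul r q p :=
  C.f_inj (by rw [C.f_mul, C.f_mul, e])

theorem isU {p : Code × Bool} : IsU p ↔ C.f p ∈ U := by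
  constructor
  · obtain ⟨⟨v, f⟩, k⟩ := p
    rintro ⟨rfl, rfl, hv⟩
    rw [C.f_va, C.bs.pre.mem_U_iff]; exact hv
  · intro e
    obtain ⟨v, hv, e'⟩ := C.bs.pre.exists_U e
    obtain rfl : p = ((v, (false, false)), false) := C.f_inj (by rw [C.f_va, e'])
    exact ⟨rfl, rfl, hv⟩

theorem mem_Mg {p : Code × Bool} : C.f p ∈ C.bs.pre.Mg ↔ p.2 = false := by
  constructor
  · intro e
    obtain ⟨q, hq⟩ := C.bs.mem_Mg e
    obtain rfl : p = (q, false) := C.f_inj (by rw [← hq]; simp only [f, evC, Bool.false_eq_true, if_false, mul_one])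
    rfl
  · obtain ⟨q, k⟩ := p
    rintro rfl
    simp only [f, evC, Bool.false_eq_true, if_false, mul_one]
    exact C.bs.ev_mem q

theorem exists_M {c : X} (hc : c ∈ C.bs.pre.Mg) : ∃ q : Code, C.f (q, false) = c := by
  obtain ⟨⟨q, k⟩, hp⟩ := C.f_surj (C.bs.pre.Mg_le hc)
  obtain rfl : k = false := C.mem_Mg.1 (hp ▸ hc)
  exact ⟨q, hp⟩

theorem x_not_U : x ∉ U := fun e => C.bs.pre.x_not_Mg C.xs.dl (C.bs.pre.le_Mg (C.bs.pre.frame.le e))

theorem eight_sq {e : X} (he : e ∈ eight U x) : e * e = 1 := by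
  rcases (C.H.mem_eight C.xs.mem C.xs.sq).1 he with h1 | h1
  · exact C.H.sq e h1
  · have h3 := C.H.sq _ h1
    have hc : x * e = e * x := C.H.eight_comm C.xs.mem x (self_mem_eight x) e he
    rw [show x * e * (x * e) = x * (e * x) * e by group, ← hc,
      show x * (x * e) * e = (x * x) * (e * e) by group, C.xs.sq, one_mul] at h3
    exact h3

/-- An elementary group of order eight meeting `M` in `U` is conjugate to `U⟨x⟩` in `S`. -/
theorem conjugate_eight {E' : Subgroup X} (hE : E' ≤ cen S U) (h2 : ∀ e ∈ E', e * e = 1)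
    (hc : ∀ e ∈ E', ∀ e' ∈ E', e * e' = e' * e) (h8 : Nat.card E' = 8)
    (hM : ∀ e ∈ E', e ∈ C.bs.pre.Mg → e ∈ U) :
    ∃ t ∈ cen S U, E' = (eight U x).map (cj t).toMonoidHom := by
  obtain ⟨e, he, heU⟩ : ∃ e ∈ E', e ∉ U := by
    by_contra hcon
    push Not at hcon
    have := Subgroup.card_le_of_le (H := E') (K := U) hcon
    rw [h8, C.H.card] at this
    omega
  obtain ⟨⟨⟨v, fl⟩, k⟩, rfl⟩ := C.f_surj (hE he)
  obtain rfl : k = true := by
    cases k
    · exact absurd (hM _ he (C.mem_Mg.2 rfl)) heU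
    · rfl
  obtain rfl : fl = (false, false) := code_x r _ (C.f_sq (h2 _ he)) rfl
  have hsub : E' ≤ eight U (C.f (xc v)) := fun q hq => by
    obtain ⟨p, rfl⟩ := C.f_surj (hE hq)
    rw [C.H.mem_eight (C.f_mem _) (h2 _ he)]
    rcases code_cen r v p (C.f_comm (hc _ he _ hq)) with h1 | h1
    · exact Or.inl (C.isU.1 h1)
    · exact Or.inr (by rw [← C.f_mul]; exact C.isU.1 h1)
  have heq : E' = eight U (C.f (xc v)) := eq_of_le_of_card_ge hsub
    (by rw [h8, C.H.eight_card (C.f_mem _) (h2 _ he) heU])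
  obtain ⟨t, ht⟩ := code_conj r v
  have hconj : cj (C.f t) x = C.f (xc v) := by
    have e1 := congrArg C.f ht
    rw [C.f_mul, C.f_mul, C.f_xc 0, C.bs.pre.va_zero, one_mul] at e1
    rw [cj_apply, e1, mul_inv_cancel_right]
  refine ⟨C.f t, C.f_mem t, ?_⟩
  rw [heq, eight, eight, MonoidHom.map_closure, Set.image_union, Set.image_singleton]
  congr 2
  · ext u
    simp only [Set.mem_image, SetLike.mem_coe, MulEquiv.coe_toMonoidHom]
    exact ⟨fun hu => ⟨u, hu, (mem_cen.1 (C.f_mem t)).2 u hu⟩,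
      fun ⟨u', hu', e'⟩ => e' ▸ by rw [(mem_cen.1 (C.f_mem t)).2 u' hu']; exact hu'⟩
  · rw [MulEquiv.coe_toMonoidHom, hconj]

/-- No conjugation moves `x` into `M` while moving `U⟨x⟩` into `S`. -/
theorem fused_false
    (hcond : ∀ k : X, (∀ e ∈ eight U x, cj k e ∈ (S : Subgroup X)) →
      (∀ e ∈ eight U x, cj k e ∈ cen S U) ∧
        ∀ e ∈ eight U x, cj k e ∈ C.bs.pre.Mg → cj k e ∈ U)
    (hsq : ∀ t ∈ (S : Subgroup X), t ∉ cen S U → t * t ∉ U)
    {g : X} (hgE : ∀ e ∈ eight U x, cj g e ∈ (S : Subgroup X)) (hgx : cj g x ∈ C.bs.pre.Mg) : False := by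
  have H := C.H
  have P0 := C.bs.pre
  set E := eight U x with hE
  have hEc := H.eight_comm C.xs.mem
  have hE8 := H.eight_card C.xs.mem C.xs.sq C.x_not_U
  have hgU : cj g x ∈ U := (hcond g hgE).2 x (self_mem_eight x) hgx
  refine H.trick (fun e he => (H.eight_le C.xs.mem he).1) hEc hE8 (le_eight x) (self_mem_eight x)
    C.x_not_U hgU hgE (fun k hk => ?_) hsq
  obtain ⟨hkC, hkM⟩ := hcond k hk
  obtain ⟨t, ht, heq⟩ := C.conjugate_eight (E' := E.map (cj k).toMonoidHom)
    (by rintro _ ⟨e, he, rfl⟩; exact hkC e he)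
    (by rintro _ ⟨e, he, rfl⟩; show cj k e * cj k e = 1; rw [← map_mul, C.eight_sq he, map_one])
    (by
      rintro _ ⟨e, he, rfl⟩ _ ⟨e', he', rfl⟩
      show cj k e * cj k e' = cj k e' * cj k e
      rw [← map_mul, ← map_mul, hEc e he e' he'])
    (by rw [Subgroup.card_map_of_injective (f := (cj k).toMonoidHom) (cj k).injective, hE8])
    (by rintro _ ⟨e, he, rfl⟩ hm; exact hkM e he hm)
  rw [heq]
  refine ⟨fun u hu => ⟨u, le_eight x hu, (mem_cen.1 ht).2 u hu⟩, ?_, fun u hu hu1 => ?_⟩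
  · let φ : nor S (E.map (cj t).toMonoidHom) → nor S E := fun q => ⟨cj t⁻¹ q,
      mul_mem (mul_mem ((S : Subgroup X).inv_mem ht.1) q.2.1) ((S : Subgroup X).inv_mem ((S : Subgroup X).inv_mem ht.1)), mem_normalizer_of_cj fun e he => by
        have h1 := (mem_normalizer_iff.1 q.2.2 (cj t e)).1 ⟨e, he, rfl⟩
        obtain ⟨e', he', h2⟩ := h1
        have h3 : cj (cj t⁻¹ (q : X)) e = e' := by
          refine (cj t).injective ?_
          rw [show cj t e' = _ from h2]; simp only [cj_apply]; group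
        rw [h3]; exact he'⟩
    exact Nat.card_le_card_of_injective φ fun p q e =>
      Subtype.ext ((cj t⁻¹).injective (congrArg Subtype.val e))
  · obtain ⟨τ, hτ, hτu⟩ := P0.frame.top u hu
    rw [show (2 : ℕ) ^ (2 - 1) = 2 from rfl, pow_two] at hτu
    refine ⟨τ, hτu, (mem_cen.1 (P0.frame.inv.le hτ)).2, ?_⟩
    rintro _ ⟨e, he, rfl⟩ hv'
    simp only [MulEquiv.coe_toMonoidHom] at hv' ⊢
    have heU : e ∉ U := fun h1 => hv' (by rw [(mem_cen.1 ht).2 e h1]; exact h1)
    have hxe := ((H.mem_eight C.xs.mem C.xs.sq).1 he).resolve_left heU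
    have hinv : ∀ w ∈ A, cj (cj t e) w = w⁻¹ := fun w hw => by
      have hw' := P0.frame.cj_mem (inv_mem ht.1) hw
      have e1 : cj e (cj t⁻¹ w) = (cj t⁻¹ w)⁻¹ := by
        obtain ⟨z, hz⟩ := P0.va_span hw'
        rw [show e = x * (x * e) by rw [← mul_assoc, C.xs.sq, one_mul], cj_mul,
          cj_eq_self.2 (P0.frame.comm _ (P0.frame.le hxe) _ hw'), ← hz, P0.xs_inv C.xs, P0.va_neg]
      calc cj (cj t e) w = cj t (cj e (cj t⁻¹ w)) := by simp only [cj_apply]; group
        _ = w⁻¹ := by rw [e1, map_inv, cj_cancel_inv]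
    calc cj τ (cj t e) = τ * cj (cj t e) τ⁻¹ * cj t e := by simp only [cj_apply]; group
      _ = _ := by rw [hinv _ (inv_mem hτ), inv_inv, hτu]

theorem relIndex_Mg : C.bs.pre.Mg.relIndex (cen S U) = 2 := by
  rw [Subgroup.relIndex, Subgroup.index_eq_two_iff]
  refine ⟨⟨x, C.xs.mem⟩, fun b => ?_⟩
  rw [xor_iff_iff_not, mem_subgroupOf, mem_subgroupOf, Subgroup.coe_mul]
  exact ⟨fun e hb => C.bs.pre.x_not_Mg C.xs.dl ((C.bs.pre.Mg.mul_mem_cancel_left hb).1 e),
    fun hb => (C.bs.pre.xs_split C.xs b.2).resolve_left hb⟩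

/-- For `S = C` no conjugate of `x` under `C(U)` lies in `M`. -/
theorem no_fusion (hS : (S : Subgroup X) ≤ cen S U) {γ : X} (hγ : ∀ u ∈ U, cj γ u = u)
    (hv : cj γ x ∈ C.bs.pre.Mg) : False := by
  haveI : Fact (Nat.Prime 2) := ⟨Nat.prime_two⟩
  have H := C.H
  have P0 := C.bs.pre
  have hxU := C.x_not_U
  have hfix : ∀ {g : X}, (∀ u ∈ U, cj g u = u) → cj g x ∉ U := fun {g} hg e =>
    hxU ((cj g).injective (hg _ e) ▸ e)
  have hK : ∀ {g : X}, g ∈ centralizer (U : Set X) ↔ ∀ u ∈ U, cj g u = u := fun {g} =>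
    ⟨fun e u hu => cj_eq_self.2 (e u hu).symm, fun e u hu => (cj_eq_self.1 (e u hu)).symm⟩
  set v := cj γ x with hvdef
  have hvC := P0.Mg_le hv
  have hv2 : v * v = 1 := by rw [hvdef, ← map_mul, C.xs.sq, map_one]
  set E := eight U x
  set F8 := eight U v with hF8
  let N : Subgroup X := normalizer (F8 : Set X) ⊓ centralizer (U : Set X)
  have hnorm : ∀ g : X, (∀ u ∈ U, cj g u = u) → cj g v ∈ F8 → g ∈ N := fun g hg hgv =>
    ⟨mem_normalizer_of_cj fun y hy => by
      rcases (H.mem_eight hvC hv2).1 hy with h1 | h1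
      · rw [hg y h1]; exact le_eight v h1
      · rw [show y = v * (v * y) by rw [← mul_assoc, hv2, one_mul], map_mul, hg _ h1]
        exact mul_mem hgv (le_eight v h1), hK.2 hg⟩
  have hMN : P0.Mg ≤ N := fun m hm => by
    refine hnorm m (mem_cen.1 (P0.Mg_le hm)).2 ?_
    obtain ⟨p, rfl⟩ := C.exists_M hm
    obtain ⟨q, hq⟩ := C.exists_M hv
    have hq2 : bmul r q q = ((0, 0), (false, false)) :=
      congrArg Prod.fst (C.f_sq (p := (q, false)) (by rw [hq]; exact hv2))
    obtain ⟨u, hu, e⟩ := code_norm r q hq2 p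
    have e' : C.f (cmul r (p, false) (q, false)) =
        C.f (cmul r (cmul r ((u, (false, false)), false) (q, false)) (p, false)) :=
      congrArg (fun z => C.f (z, false)) e
    rw [C.f_mul, C.f_mul, C.f_mul, hq, C.f_va] at e'
    rw [cj_apply, e', mul_inv_cancel_right]
    exact mul_mem (le_eight v (P0.mem_U_iff.2 hu)) (self_mem_eight v)
  -- `M` is a Sylow subgroup of `N`
  obtain ⟨Q, hQ⟩ := ((S.2.to_le fun m hm => (P0.Mg_le hm).1 : IsPGroup 2 P0.Mg).comap_of_injective
    N.subtype N.subtype_injective).exists_le_sylow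
  set Q' := (Q : Subgroup N).map N.subtype with hQ'
  have hMQ : P0.Mg ≤ Q' := fun m hm => ⟨⟨m, hMN hm⟩, hQ hm, rfl⟩
  have hSC : cen S U = (S : Subgroup X) := le_antisymm inf_le_left hS
  have hQM : Q' = P0.Mg := by
    by_contra hne
    obtain ⟨k, -, hk⟩ := exists_conj_into (H := (⊤ : Subgroup X)) S le_top le_top (Q.2.map N.subtype)
    have hle : Q'.map (cj k).toMonoidHom ≤ (S : Subgroup X) := by
      rintro _ ⟨q, hq, rfl⟩; exact hk q hq
    have h1 : Nat.card P0.Mg * 2 = Nat.card (S : Subgroup X) := by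
      have := Subgroup.relIndex_mul_relIndex (⊥ : Subgroup X) P0.Mg (cen S U) bot_le P0.Mg_le
      rw [Subgroup.relIndex_bot_left, Subgroup.relIndex_bot_left, C.relIndex_Mg, hSC] at this
      exact this
    have h2 := Subgroup.card_dvd_of_le hMQ
    have h3 := Subgroup.card_dvd_of_le hle
    rw [Subgroup.card_map_of_injective (f := (cj k).toMonoidHom) (cj k).injective, ← h1] at h3
    obtain ⟨i, hi⟩ := h2
    rw [hi] at h3
    have hi2 := Nat.dvd_of_mul_dvd_mul_left Nat.card_pos h3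
    have hi1 : i ≠ 1 := fun e => hne (eq_of_le_of_card_ge hMQ (by rw [hi, e, mul_one])).symm
    have hi0 : i = 2 := ((Nat.dvd_prime Nat.prime_two).1 hi2).resolve_left hi1
    have heq : Q'.map (cj k).toMonoidHom = (S : Subgroup X) := eq_of_le_of_card_ge hle (by
      rw [Subgroup.card_map_of_injective (f := (cj k).toMonoidHom) (cj k).injective, hi, hi0, h1])
    have hFQ : ∀ e ∈ F8, e ∈ Q' := fun e he => hMQ (by
      rcases (H.mem_eight hvC hv2).1 he with h4 | h4
      · exact P0.le_Mg (P0.frame.le h4)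
      · exact (P0.Mg.mul_mem_cancel_left hv).1 (P0.le_Mg (P0.frame.le h4)))
    have hF8c := H.eight_comm hvC
    have h4 := H.small (F8.map (cj k).toMonoidHom)
      (by rintro _ ⟨e, he, rfl⟩; exact hk e (hFQ e he))
      (fun t ht => by
        rintro _ ⟨e, he, rfl⟩
        rw [← heq] at ht
        obtain ⟨q, ⟨qN, -, rfl⟩, rfl⟩ := ht
        refine ⟨cj (qN : X) e, (mem_normalizer_iff.1 qN.2.1 e).1 he, ?_⟩
        simp only [MulEquiv.coe_toMonoidHom, Subgroup.coe_subtype, cj_apply]; group)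
      (by
        rintro _ ⟨e, he, rfl⟩
        show cj k e * cj k e = 1
        rw [← map_mul]
        rcases (H.mem_eight hvC hv2).1 he with h4 | h4
        · rw [H.sq e h4, map_one]
        · have h5 := H.sq _ h4
          rw [show v * e * (v * e) = v * (e * v) * e by group, ← hF8c v (self_mem_eight v) e he,
            show v * (v * e) * e = (v * v) * (e * e) by group, hv2, one_mul] at h5
          rw [h5, map_one])
      (by
        rintro _ ⟨e, he, rfl⟩ _ ⟨e', he', rfl⟩
        show cj k e * cj k e' = cj k e' * cj k e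
        rw [← map_mul, ← map_mul, hF8c e he e' he'])
    rw [Subgroup.card_map_of_injective (f := (cj k).toMonoidHom) (cj k).injective,
      H.eight_card hvC hv2 (hfix hγ)] at h4
    omega
  -- move `A⟨x⟩` into it
  let T : Subgroup X := A ⊔ zpowers x
  have hTS : T ≤ (S : Subgroup X) :=
    sup_le (fun w hw => P0.frame.mem_S hw) (zpowers_le.2 C.xs.mem.1)
  have hTN : T.map (cj γ).toMonoidHom ≤ N := by
    rw [Subgroup.map_le_iff_le_comap]
    refine sup_le (fun w hw => ?_) (zpowers_le.2 ?_) <;> refine hnorm _ (fun u hu => ?_) ?_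
    · conv_lhs => rw [← hγ u hu]
      show cj (cj γ w) (cj γ u) = u
      rw [show cj (cj γ w) (cj γ u) = cj γ (cj w u) by simp only [cj_apply]; group,
        (mem_cen.1 (P0.frame.inv.le hw)).2 u hu, hγ u hu]
    · show cj (cj γ w) (cj γ x) ∈ F8
      obtain ⟨z, rfl⟩ := P0.va_span hw
      have e1 : cj (va h a z) x = va h a (z + z) * x := by
        calc cj (va h a z) x = va h a z * cj x (va h a z)⁻¹ * x := by simp only [cj_apply]; group
          _ = _ := by rw [← P0.va_neg, P0.xs_inv C.xs, neg_neg, ← P0.va_add]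
      have hzz : va h a (z + z) ∈ U := P0.mem_U_iff.2 ((by decide +kernel :
        ∀ z : V, z + z + (z + z) = 0) z)
      rw [show cj (cj γ (va h a z)) (cj γ x) = cj γ (cj (va h a z) x) by simp only [cj_apply]; group,
        e1, map_mul, hγ _ hzz]
      exact mul_mem (le_eight v hzz) (self_mem_eight v)
    · conv_lhs => rw [← hγ u hu]
      show cj (cj γ x) (cj γ u) = u
      rw [show cj (cj γ x) (cj γ u) = cj γ (cj x u) by simp only [cj_apply]; group,
        (mem_cen.1 C.xs.mem).2 u hu, hγ u hu]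
    · show cj v v ∈ F8
      rw [cj_eq_self.2 rfl]; exact self_mem_eight v
  obtain ⟨P, hP⟩ := (((S.2.to_le hTS).map (cj γ).toMonoidHom).comap_of_injective N.subtype
    N.subtype_injective).exists_le_sylow
  obtain ⟨m, hm⟩ := MulAction.exists_smul_eq N P Q
  set g := (m : X) * γ with hg
  have hgU : ∀ u ∈ U, cj g u = u := fun u hu => by rw [hg, cj_mul, hγ u hu, hK.1 m.2.2 u hu]
  have hgT : ∀ t ∈ T, cj g t ∈ P0.Mg := fun t ht => by
    rw [← hQM, hg, cj_mul]
    refine ⟨m * ⟨cj γ t, hTN ⟨t, ht, rfl⟩⟩ * m⁻¹, ?_, rfl⟩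
    rw [← hm]
    exact Subgroup.smul_mem_pointwise_smul _ (MulAut.conj m) (P : Subgroup N) (hP ⟨t, ht, rfl⟩)
  obtain ⟨e, he⟩ := C.exists_M (hgT x (mem_sup_right (mem_zpowers x)))
  obtain ⟨p, hp⟩ := C.exists_M (hgT a (mem_sup_left P0.ha))
  obtain ⟨q, hq⟩ := C.exists_M (hgT _ (mem_sup_left P0.hb))
  have code : ∀ {z w : Code}, C.f (z, false) = C.f (w, false) → z = w := fun e =>
    congrArg Prod.fst (C.f_inj e)
  have mulM : ∀ z w : Code, C.f (bmul r z w, false) = C.f (z, false) * C.f (w, false) := fun z w =>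
    C.f_mul (z, false) (w, false)
  have one : C.f (((0, 0), (false, false)), false) = 1 := C.f_one
  have he2 : bmul r e e = ((0, 0), (false, false)) := code (by
    rw [mulM, he, one, ← map_mul, C.xs.sq, map_one])
  have hinv : ∀ (w : X) (z : Code), cj x w = w⁻¹ → C.f (z, false) = cj g w →
      bmul r (bmul r (bmul r e z) e) z = ((0, 0), (false, false)) := fun w z hw hz => code (by
    rw [mulM, mulM, mulM, he, hz, one, ← map_mul, ← map_mul, ← map_mul]
    have : x * w * x * w = 1 := by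
      calc x * w * x * w = cj x w * (x * x) * w := by rw [cj_apply]; group
        _ = 1 := by rw [hw, C.xs.sq, mul_one, inv_mul_cancel]
    rw [this, map_one])
  refine code_plane r e he2 (fun e0 => hfix hgU ?_) p ?_ (hinv a p ?_ hp) q ?_ (hinv _ q ?_ hq) ?_
  · rw [← he]
    exact C.isU.1 ⟨rfl, e0, code_M r e (congrArg (fun z => (z, false)) he2) e0⟩
  · refine code ?_
    rw [mulM, hp, ← map_mul, C.f_va, P0.z_eq]
    refine hgU _ ?_
    rw [← P0.z_eq, P0.mem_U_iff]; decide
  · have := P0.xs_inv C.xs (1, 0)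
    rwa [P0.va_neg, P0.va_a] at this
  · refine code ?_
    rw [mulM, hq, ← map_mul, C.f_va, P0.w_eq, ← pow_two]
    refine hgU _ ?_
    rw [← P0.w_eq, P0.mem_U_iff]; decide
  · have := P0.xs_inv C.xs (0, 1)
    rwa [P0.va_neg, P0.va_b] at this
  · refine code ?_
    rw [mulM, mulM, hp, hq, ← map_mul, ← map_mul, P0.ab.eq]

/-- For `S = C` the group `U⟨x⟩` is a Sylow subgroup of its centraliser. -/
theorem cent_le_eight (hS : (S : Subgroup X) ≤ cen S U) {R : Subgroup X} (hR : IsPGroup 2 R)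
    (hRE : ∀ t ∈ R, ∀ e ∈ eight U x, t * e = e * t) : R ≤ eight U x := by
  have H := C.H
  set E := eight U x
  have hEp : IsPGroup 2 E := S.2.to_le fun e he => (H.eight_le C.xs.mem he).1
  have hRN : R ≤ normalizer (E : Set X) := fun t ht => mem_normalizer_of_cj fun e he => by
    rw [cj_eq_self.2 (hRE t ht e he)]; exact he
  have hRK : R ≤ centralizer (U : Set X) := fun t ht u hu => (hRE t ht u (le_eight x hu)).symm
  have hEK : E ≤ centralizer (U : Set X) := fun e he => (H.eight_le C.xs.mem he).2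
  obtain ⟨k, hkK, hk⟩ := exists_conj_into S (hS.trans inf_le_right) (sup_le hRK hEK)
    (hR.to_sup_of_normal_right' hEp hRN)
  have hkU : ∀ u ∈ U, cj k u = u := fun u hu => cj_eq_self.2 (hkK u hu).symm
  obtain ⟨⟨⟨v, fl⟩, b⟩, hp⟩ := C.f_surj (hS (hk x (mem_sup_right (self_mem_eight x))))
  obtain rfl : b = true := by
    cases b
    · exact (C.no_fusion hS hkU (hp ▸ C.mem_Mg.2 rfl)).elim
    · rfl
  obtain rfl : fl = (false, false) :=
    code_x r _ (C.f_sq (by rw [hp, ← map_mul, C.xs.sq, map_one])) rfl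
  intro t ht
  obtain ⟨q, hq⟩ := C.f_surj (hS (hk t (mem_sup_left ht)))
  have hcm : cmul r (xc v) q = cmul r q (xc v) :=
    C.f_comm (by rw [hp, hq, ← map_mul, ← map_mul, hRE t ht x (self_mem_eight x)])
  rw [H.mem_eight C.xs.mem C.xs.sq]
  have hback : ∀ g : X, cj k g ∈ U → g ∈ U := fun g hg => by
    have : cj k g = g := by
      have e := hkU _ hg
      exact (cj k).injective e
    exact this ▸ hg
  rcases code_cen r v q hcm with h1 | h1
  · exact Or.inl (hback t (hq ▸ C.isU.1 h1))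
  · refine Or.inr (hback (x * t) ?_)
    rw [map_mul, ← hp, ← hq, ← C.f_mul]
    exact C.isU.1 h1

theorem not_le : ¬ (S : Subgroup X) ≤ cen S U := by
  classical
  intro hS
  have H := C.H
  have P0 := C.bs.pre
  set E := eight U x
  have hEc := H.eight_comm C.xs.mem
  have hx1 : x ≠ 1 := fun e => C.x_not_U (e ▸ U.one_mem)
  obtain ⟨v, hv, hxv, hmax⟩ := G2Fusion23.exists_extremal_mem S P0.Mg
    (fun m hm => (P0.Mg_le hm).1) (by rw [← le_antisymm inf_le_left hS]; exact C.relIndex_Mg)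
    H.idx x (orderOf_eq_prime (by rw [pow_two, C.xs.sq]) hx1) C.xs.mem.1
  obtain ⟨g, hg, hgE⟩ := exists_move S (P0.Mg_le hv).1 hxv hmax
    (S.2.to_le fun e he => (H.eight_le C.xs.mem he).1 : IsPGroup 2 E)
    (fun e he => hEc x (self_mem_eight x) e he)
  refine C.fused_false (fun k hk => ⟨fun e he => hS (hk e he), fun e he hm => ?_⟩)
    (fun t ht htC => absurd (hS ht) htC) hgE (hg ▸ hv)
  by_contra heU
  obtain ⟨q, hq⟩ := C.exists_M hm
  have hq2 : bmul r q q = ((0, 0), (false, false)) := congrArg Prod.fst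
    (C.f_sq (p := (q, false)) (by rw [hq, ← map_mul, C.eight_sq he, map_one]))
  have hqf : q.2 ≠ (false, false) := fun e0 =>
    heU (hq ▸ C.isU.1 ⟨rfl, e0, code_M r q (congrArg (fun z => (z, false)) hq2) e0⟩)
  have hmemW : ∀ e' ∈ E, ∃ p ∈ cset r q, C.f p = cj k e' := fun e' he' => by
    obtain ⟨p, hp⟩ := C.f_surj (hS (hk e' he'))
    refine ⟨p, (mem_cset r q p).2 ⟨C.f_sq ?_, C.f_comm ?_⟩, hp⟩
    · rw [hp, ← map_mul, C.eight_sq he', map_one]
    · rw [hq, hp, ← map_mul, ← map_mul, hEc e he e' he']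
  let R : Subgroup X := (((S : Subgroup X) ⊓ centralizer ((E.map (cj k).toMonoidHom : Subgroup X) : Set X))).map
    (cj k⁻¹).toMonoidHom
  have hR : R ≤ E := by
    refine C.cent_le_eight hS ((S.2.to_le inf_le_left).map _) ?_
    rintro _ ⟨t, ht, rfl⟩ e' he'
    refine (cj k).injective ?_
    show cj k (cj k⁻¹ t * e') = cj k (e' * cj k⁻¹ t)
    rw [map_mul, map_mul, cj_cancel_inv]
    exact (ht.2 (cj k e') ⟨e', he', rfl⟩).symm
  have hW : ∀ p ∈ cset r q, cj k⁻¹ (C.f p) ∈ E := fun p hp => by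
    refine hR ⟨C.f p, ⟨(C.f_mem p).1, ?_⟩, rfl⟩
    rintro _ ⟨e', he', rfl⟩
    obtain ⟨p', hp', e1⟩ := hmemW e' he'
    show cj k e' * C.f p = C.f p * cj k e'
    rw [← e1, ← C.f_mul, ← C.f_mul]
    obtain ⟨h1, h2⟩ := (mem_cset r q p).1 hp
    obtain ⟨h3, h4⟩ := (mem_cset r q p').1 hp'
    rw [code_sixteen_comm r q hq2 hqf p' h3 h4 p h1 h2]
  let φ : ↥(cset r q) → E := fun p => ⟨cj k⁻¹ (C.f p), hW p p.2⟩
  have h16 := Nat.card_le_card_of_injective φ fun p p' e' =>
    Subtype.ext (C.f_inj ((cj k⁻¹).injective (congrArg Subtype.val e')))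
  rw [Nat.card_eq_finsetCard, H.eight_card C.xs.mem C.xs.sq C.x_not_U] at h16
  exact absurd (code_sixteen_card r q hq2 hqf) (not_lt.2 h16)

end Cs

/-- `s` preserves `M`. -/
theorem Bs.s_Mg {r : Bool} {y s : X} (B : Bs S U h A a r y) (Qs : Ss S U h s) {c : X}
    (hc : c ∈ B.pre.Mg) : cj s c ∈ B.pre.Mg := by
  have P0 := B.pre
  obtain ⟨u, hu, hs⟩ := P0.s_a Qs
  obtain ⟨v, e, -⟩ := B.s_y Qs hu hs
  obtain ⟨p, rfl⟩ := B.mem_Mg hc
  obtain ⟨w, f⟩ := p
  rw [ev, map_mul, show pw a w.1 * pw (cj h a) w.2 = va h a w from rfl, hs]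
  refine mul_mem (P0.le_Mg (P0.va_mem _)) ?_
  have h1 : cj s y ∈ P0.Mg := e ▸ mul_mem B.y_mem (P0.le_Mg (P0.va_mem _))
  have h2 : cj s (cj h y) ∈ P0.Mg := by
    rw [B.s_y' Qs e]
    exact mul_mem (inv_mem (mul_mem B.y_mem (P0.Mg_h B.y_mem))) (P0.le_Mg (P0.va_mem _))
  rw [map_mul]
  refine mul_mem ?_ ?_ <;> split_ifs
  exacts [h1, by rw [map_one]; exact one_mem _, h2, by rw [map_one]; exact one_mem _]

/-- With `y² ≠ 1` no element lies outside `C`. -/
theorem Cs.false_of_outer {y x s : X} (C : Cs S U h A a true y x) (Qs : Ss S U h s) : False := by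
  haveI : Fact (Nat.Prime 2) := ⟨Nat.prime_two⟩
  have H := C.H
  have P0 := C.bs.pre
  have hss : s * s = x := by
    rcases P0.ss_cases Qs with hss | Q
    · exfalso
      obtain ⟨a', B', -, hsv⟩ := C.bs.fix_a Qs hss
      obtain ⟨v, e, hv1⟩ := B'.s_y Qs (by decide) hsv
      have hv2 : v + sv 0 v = 0 := B'.pre.va_inj (mul_left_cancel (a := y) (by
        rw [← B'.s_sq hsv e, hss, cj_one, B'.pre.va_zero, mul_one]))
      simp only [if_true] at hv1
      exact (by decide +kernel : ∀ v : V, sv 0 (0, 2) =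
        img (2, 0) (2, 2) v + (0, 2) + v → v + sv 0 v ≠ 0) v hv1 hv2
    · exact P0.x_unique C.xs.mem Q.mem C.xs.fix Q.fix C.xs.dl Q.dl C.xs.sq
  have hout : ∀ t ∈ (S : Subgroup X), t ∉ cen S U → t * t ∉ P0.Mg := fun t ht htC hm => by
    set c := t * s⁻¹ with hcdef
    have hc : c ∈ cen S U := H.mul_mem_cen ht htC (inv_mem Qs.mem)
      (fun e => Qs.notC (by have := inv_mem e; rwa [inv_inv] at this))
    have e : t * t = c * cj s c * x := by
      rw [← hss, hcdef]; simp only [cj_apply]; group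
    have h1 : c * cj s c ∈ P0.Mg := by
      rcases P0.xs_split C.xs hc with h1 | h1
      · exact mul_mem h1 (C.bs.s_Mg Qs h1)
      · have h2 := mul_mem h1 (P0.Mg_cj C.xs.mem (C.bs.s_Mg Qs h1))
        rwa [map_mul (cj s), P0.s_fix C.xs Qs, cj_apply x,
          show c * x * (x * (cj s c * x) * x⁻¹) = c * (x * x) * cj s c by group, C.xs.sq, mul_one] at h2
    rw [e] at hm
    exact P0.x_not_Mg C.xs.dl ((P0.Mg.mul_mem_cancel_left h1).1 hm)
  have hMU : ∀ c ∈ P0.Mg, c * c = 1 → c ∈ U := fun c hc hc2 => by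
    obtain ⟨q, rfl⟩ := C.exists_M hc
    have h1 := C.f_sq hc2
    exact C.isU.1 ⟨rfl, code_U q h1, code_M true q h1 (code_U q h1)⟩
  have hfuse : ∀ v ∈ P0.Mg, IsConj x v → False := fun v hv hxv => by
    obtain ⟨g0, hg0⟩ := isConj_iff.1 hxv
    have hv2 : v * v = 1 := by rw [← hg0, ← cj_apply, ← map_mul, C.xs.sq, map_one]
    have hv1 : v ≠ 1 := fun e => C.x_not_U (by
      rw [← cj_inv_cancel g0 x, cj_apply g0, hg0, e, map_one]; exact U.one_mem)
    obtain ⟨g, hgx, -, -, hgE⟩ := H.fuse (eight U x)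
      (S.2.to_le fun e he => (H.eight_le C.xs.mem he).1)
      (fun e he => H.eight_comm C.xs.mem x (self_mem_eight x) e he) (hMU v hv hv2) hv1 hxv
    refine C.fused_false (fun k hk => ⟨fun e he => ?_, fun e he hm => hMU _ hm ?_⟩)
      (fun t ht htC e => hout t ht htC (P0.le_Mg (P0.frame.le e))) hgE (P0.le_Mg (P0.frame.le hgx))
    · by_contra hn
      refine hout _ (hk e he) hn ?_
      rw [← map_mul, C.eight_sq he, map_one]; exact one_mem _
    · rw [← map_mul, C.eight_sq he, map_one]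
  have hidx : (cen S U).relIndex (S : Subgroup X) = 2 := by
    rw [Subgroup.relIndex, Subgroup.index_eq_two_iff]
    refine ⟨⟨s, Qs.mem⟩, fun b => ?_⟩
    rw [xor_iff_iff_not, mem_subgroupOf, mem_subgroupOf, Subgroup.coe_mul]
    exact ⟨fun e hb => Qs.notC (((cen S U).mul_mem_cancel_left hb).1 e),
      fun hb => H.mul_mem_cen b.2 hb Qs.mem Qs.notC⟩
  have hcard : Nat.card (X ⧸ P0.Mg) % 8 = 4 := by
    have h2 := Subgroup.relIndex_mul_index (fun m hm => (P0.Mg_le hm).1 : P0.Mg ≤ (S : Subgroup X))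
    rw [← Subgroup.relIndex_mul_relIndex P0.Mg (cen S U) (S : Subgroup X) P0.Mg_le inf_le_left,
      C.relIndex_Mg, hidx] at h2
    obtain ⟨k, hk⟩ := Nat.odd_iff.2 (Nat.two_dvd_ne_zero.1 S.not_dvd_index)
    show P0.Mg.index % 8 = 4
    omega
  obtain ⟨N, hN⟩ := exists_index_two_of_four (α := X ⧸ P0.Mg) hcard s
    (by rw [show 4 = 2 * 2 from rfl, pow_mul, pow_two s, hss, pow_two, C.xs.sq]) fun z => by
      induction z using QuotientGroup.induction_on with
      | H g =>
        rw [hss, MulAction.Quotient.smul_mk, smul_eq_mul, ne_eq, QuotientGroup.eq]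
        intro e
        have e' := inv_mem e
        rw [show ((x * g)⁻¹ * g)⁻¹ = g⁻¹ * x * g by group] at e'
        exact hfuse _ e' (isConj_iff.2 ⟨g⁻¹, by rw [inv_inv]⟩)
  exact H.idx N hN

/-- The result for `Ω₁(A) = A²`. -/
theorem main (F : Frame S U h A 2) : IsJ ↥(S : Subgroup X) ∨ IsL ↥(S : Subgroup X) := by
  obtain ⟨a, P0⟩ := exists_pre F
  obtain ⟨c0, hc0, hc0A⟩ := F.exists_outside
  by_cases hx : ∃ x, Xs S U h a x
  swap
  · push Not at hx
    have hnx : ∀ c ∈ cen S U, c ∈ P0.Mg := fun c hc => (P0.split hc).resolve_right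
      fun ⟨x, hxC, hx2, hxf, hxd, _⟩ => hx x ⟨hxC, hx2, hxf, hxd⟩
    obtain ⟨r, y, B⟩ := P0.exists_bs (hnx c0 hc0) hc0A
    exact Or.inl (B.isJ hnx)
  obtain ⟨x, Q⟩ := hx
  obtain ⟨r, y, B⟩ : ∃ r y, Bs S U h A a r y := by
    by_contra hno
    have hMA : ∀ c ∈ P0.Mg, c ∈ A := fun c hc => by
      by_contra hcA
      exact hno (P0.exists_bs hc hcA)
    refine P0.xs_no_normal Q fun c hc => ?_
    have key : ∀ w ∈ A, cj w x * x⁻¹ ∈ U := fun w hw => by
      obtain ⟨z, rfl⟩ := P0.va_span hw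
      rw [show cj (va h a z) x * x⁻¹ = va h a z * cj x (va h a z)⁻¹ by simp only [cj_apply]; group,
        ← P0.va_neg, P0.xs_inv Q, neg_neg, ← P0.va_add, P0.mem_U_iff]
      exact (by decide +kernel : ∀ z : V, z + z + (z + z) = 0) z
    rcases P0.xs_split Q hc with h1 | h1
    · exact key c (hMA c h1)
    · have h2 := key _ (hMA _ h1)
      rwa [cj_mul, cj_eq_self.2 rfl] at h2
  obtain ⟨c, hc, exy, hcc⟩ := B.x_shift Q fun v e hv' => B.x_no_normal Q e hv'
  by_cases hout : r = false ∧ ∃ s, Ss S U h s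
  · obtain ⟨rfl, s, Qs⟩ := hout
    exact Or.inr (B.isL Q hc exy hcc Qs)
  exfalso
  obtain ⟨w, rfl⟩ := P0.va_span hc
  have hw : w + w = (2, 0) := P0.va_inj (by rw [P0.va_add, hcc, P0.z_eq])
  obtain ⟨u, hu, rfl⟩ : ∃ u : V, u + u = 0 ∧ (1, 0) + u = w :=
    (by decide +kernel : ∀ w : V, w + w = (2, 0) → ∃ u : V, u + u = 0 ∧ (1, 0) + u = w) w hw
  have B' := B.change_a hu
  have Q' : Xs S U h (va h a ((1, 0) + u)) x := by
    obtain ⟨-, d⟩ := (B'.pre.fixed_cases Q.mem Q.fix).resolve_left fun e =>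
      P0.x_not_Mg Q.dl (e ▸ one_mem _)
    exact ⟨Q.mem, Q.sq, Q.fix, d⟩
  have C : Cs S U h A (va h a ((1, 0) + u)) r y x := ⟨B', Q', exy⟩
  rcases F.core.swap with hS | ⟨s, hs, hsC, hsh⟩
  · exact C.not_le hS
  · cases r
    · exact hout ⟨rfl, s, hs, hsC, hsh⟩
    · exact C.false_of_outer ⟨hs, hsC, hsh⟩

end Cfsg.Agent.Lib.NoEight59.Two
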