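import Cfsg.Agent.Lib.NoEight59.TwoBase

/-!
# The part of `C` acting semilinearly and its generators (S3102, helper59)
-/

set_option autoImplicit false
set_option linter.unusedSectionVars false
set_option linter.style.haveILetI false

namespace Cfsg.Agent.Lib.NoEight59.Two

open Subgroup

variable {X : Type*} [Group X] [Finite X] {S : Sylow 2 X} {U : Subgroup X} {h : X} {A : Subgroup X}
  {a : X}

/-- The elements of `C` with semilinear action on `A`. -/
def Pre.Mg (P0 : Pre S U h A a) : Subgroup X where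
  carrier := {c | c ∈ cen S U ∧ ∃ P, Dl h a c P (hv (hv P))}
  one_mem' := ⟨one_mem _, 0, P0.dl_zero A.one_mem⟩
  mul_mem' := fun {c d} hc hd => by
    obtain ⟨P, hP⟩ := hc.2
    obtain ⟨Q, hQ⟩ := hd.2
    refine ⟨mul_mem hc.1 hd.1, P + Q, ?_⟩
    rw [show hv (hv (P + Q)) = hv (hv P) + hv (hv Q) by ext <;> simp [hv] <;> ring]
    exact P0.dl_mul hP hQ
  inv_mem' := fun {c} hc => by
    obtain ⟨P, hP⟩ := hc.2
    exact ⟨inv_mem hc.1, P, P0.dl_inv hP⟩

namespace Pre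

variable (P0 : Pre S U h A a)
include P0

theorem Mg_le : P0.Mg ≤ cen S U := fun _ hc => hc.1

theorem le_Mg : A ≤ P0.Mg := fun _ hc => ⟨P0.frame.inv.le hc, 0, P0.dl_zero hc⟩

theorem Mg_h {c : X} (hc : c ∈ P0.Mg) : cj h c ∈ P0.Mg := by
  obtain ⟨P, hP⟩ := hc.2
  have h1 : ∀ P : V, P + P = 0 → hv P = hv (hv (hv (P + hv (hv P)))) := by decide +kernel
  have h2 := P0.dl_hconj hP
  refine ⟨P0.frame.core.hC c hc.1, hv (P + hv (hv P)), ?_⟩
  rwa [← h1 P hP.tP]

theorem Mg_cj {c d : X} (hd : d ∈ cen S U) (hc : c ∈ P0.Mg) : cj d c ∈ P0.Mg := by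
  have h1 := P0.le_Mg (P0.comm_mod hd hc.1)
  have := mul_mem h1 hc
  rwa [inv_mul_cancel_right] at this

/-- An element of `C` is in `M` up to a fixed involution. -/
theorem split {c : X} (hc : c ∈ cen S U) : c ∈ P0.Mg ∨ ∃ x ∈ cen S U,
    x * x = 1 ∧ cj h x = x ∧ Dl h a x (2, 0) (0, 2) ∧ c * x ∈ P0.Mg := by
  have F := P0.frame
  obtain ⟨P, Q, d⟩ := P0.exists_dl hc
  have hc1 := F.core.hC c hc
  have hc2 := F.core.hC _ hc1
  have d1 := P0.dl_hconj d
  have d2 := P0.dl_hconj d1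
  set t := c * cj h c * cj h (cj h c) with ht
  have dt := P0.dl_mul (P0.dl_mul d d1) d2
  have dt' := P0.dl_hconj dt
  have h1 : ∀ P Q : V, P + P = 0 → Q + Q = 0 →
      (P + hv (P + Q) + hv (hv (P + Q) + hv P) = hv (hv P) + Q ∧
        Q + hv P + hv (hv (P + Q)) = hv (hv (hv P) + Q)) ∧
      hv ((hv (hv P) + Q) + hv (hv (hv P) + Q)) = hv (hv P) + Q := by decide +kernel
  obtain ⟨⟨e1, e2⟩, e3⟩ := h1 P Q d.tP d.tQ
  rw [e1, e2] at dt dt'
  rw [e3] at dt'
  have htC : t ∈ cen S U := mul_mem (mul_mem hc hc1) hc2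
  obtain ⟨v, hv'⟩ := P0.eq_mod htC (F.core.hC t htC) dt dt'
  obtain ⟨w, hw⟩ := (by decide +kernel : ∀ v : V, ∃ w : V, v + hv w = w) v
  have hfix : cj h (t * va h a w) = t * va h a w := by
    rw [map_mul, hv', P0.h_va, mul_assoc, ← P0.va_add, hw]
  have hpC : t * va h a w ∈ cen S U := mul_mem htC (P0.va_cen w)
  have dp := P0.dl_mul dt (P0.dl_zero (P0.va_mem w))
  rw [add_zero, add_zero] at dp
  rcases P0.fixed_cases hpC hfix with e | ⟨esq, ed⟩
  · rw [e] at dp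
    have e0 := (P0.dl_unique dp (P0.dl_zero A.one_mem)).1
    refine Or.inl ⟨hc, P, ?_⟩
    rwa [show hv (hv P) = Q by rw [← add_left_inj Q, e0, d.tQ]]
  · have e0 := (P0.dl_unique dp ed).1
    refine Or.inr ⟨_, hpC, esq, hfix, ed, mul_mem hc hpC, P + (2, 0), ?_⟩
    have e4 := P0.dl_mul d ed
    have h2 : ∀ P Q : V, Q + Q = 0 → P + P = 0 → hv (hv P) + Q = (2, 0) →
        Q + (0, 2) = hv (hv (P + (2, 0))) := by decide +kernel
    rwa [h2 P Q d.tQ d.tP e0] at e4

theorem x_not_Mg {x : X} (dx : Dl h a x (2, 0) (0, 2)) : x ∉ P0.Mg := fun hx => by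
  obtain ⟨P, hP⟩ := hx.2
  obtain ⟨rfl, e⟩ := P0.dl_unique dx hP
  exact absurd e (by decide)

theorem x_unique {x x' : X} (hx : x ∈ cen S U) (hx' : x' ∈ cen S U) (fx : cj h x = x)
    (fx' : cj h x' = x') (d : Dl h a x (2, 0) (0, 2)) (d' : Dl h a x' (2, 0) (0, 2))
    (hx2 : x * x = 1) : x' = x := by
  have e := P0.dl_mul d d'
  rw [d.tP, d.tQ] at e
  have h1 := P0.frame.fpf _ (P0.mem_A_of_dl (mul_mem hx hx') e) (by rw [map_mul, fx, fx'])
  exact mul_left_cancel (h1.trans hx2.symm)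

theorem dl_mul_A {c w : X} {P Q : V} (d : Dl h a c P Q) (hw : w ∈ A) : Dl h a (c * w) P Q := by
  have := P0.dl_mul d (P0.dl_zero hw)
  rwa [add_zero, add_zero] at this

/-- The square of `y · w`. -/
theorem mul_sq {y : X} {P Q v w : V} (d : Dl h a y P Q) (hy : y * y = va h a v) :
    y * va h a w * (y * va h a w) = va h a (img P Q w + v + w) := by
  calc y * va h a w * (y * va h a w) = cj y (va h a w) * (y * y) * va h a w := by
        rw [cj_apply]; group
    _ = _ := by rw [P0.dl_va d, hy, P0.va_add, P0.va_add]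

end Pre

/-- The generator `y`. -/
structure Bs (S : Sylow 2 X) (U : Subgroup X) (h : X) (A : Subgroup X) (a : X) (r : Bool) (y : X) :
    Prop where
  pre : Pre S U h A a
  mem : y ∈ cen S U
  dl : Dl h a y (2, 0) (2, 2)
  sq : y * y = va h a (if r then (0, 2) else 0)

theorem Pre.exists_bs (P0 : Pre S U h A a) {c : X} (hc : c ∈ P0.Mg) (hcA : c ∉ A) :
    ∃ r y, Bs S U h A a r y := by
  obtain ⟨P, hP⟩ := hc.2
  obtain ⟨y, hy, dy⟩ : ∃ y ∈ P0.Mg, Dl h a y (2, 0) (2, 2) := by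
    have h1 : ∀ P : V, P + P = 0 → P = 0 ∨ (P = (2, 0) ∧ hv (hv P) = (2, 2)) ∨
        (hv (P + hv (hv P)) = (2, 0) ∧ hv P = (2, 2)) ∨
        (hv (hv (P + hv (hv P)) + hv P) = (2, 0) ∧ hv (hv (P + hv (hv P))) = (2, 2)) := by
      decide +kernel
    rcases h1 P hP.tP with rfl | ⟨e1, e2⟩ | ⟨e1, e2⟩ | ⟨e1, e2⟩
    · exact absurd (P0.mem_A_of_dl hc.1 hP) hcA
    · exact ⟨c, hc, e2 ▸ e1 ▸ hP⟩
    · exact ⟨_, P0.Mg_h hc, e2 ▸ e1 ▸ P0.dl_hconj hP⟩
    · exact ⟨_, P0.Mg_h (P0.Mg_h hc), e2 ▸ e1 ▸ P0.dl_hconj (P0.dl_hconj hP)⟩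
  have d2 := P0.dl_mul dy dy
  rw [dy.tP, dy.tQ] at d2
  obtain ⟨v, hv'⟩ := P0.va_span (P0.mem_A_of_dl (mul_mem hy.1 hy.1) d2)
  have hfix : img (2, 0) (2, 2) v = v := P0.va_inj (by
    rw [← P0.dl_va dy, hv', cj_apply]; group)
  have h2 : ∀ v : V, img (2, 0) (2, 2) v = v → v = 0 ∨ v = (0, 2) ∨
      img (2, 0) (2, 2) (0, 1) + v + (0, 1) = 0 ∨ img (2, 0) (2, 2) (0, 1) + v + (0, 1) = (0, 2) := by
    decide +kernel
  have hyb := P0.mul_sq (w := (0, 1)) dy hv'.symm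
  have hbC : y * va h a (0, 1) ∈ cen S U := mul_mem hy.1 (P0.va_cen _)
  have db := P0.dl_mul_A dy (P0.va_mem (0, 1))
  rcases h2 v hfix with e | e | e | e
  · exact ⟨false, y, P0, hy.1, dy, by simp [← hv', e]⟩
  · exact ⟨true, y, P0, hy.1, dy, by simp [← hv', e]⟩
  · exact ⟨false, _, P0, hbC, db, by simp [hyb, e]⟩
  · exact ⟨true, _, P0, hbC, db, by simp [hyb, e]⟩

namespace Bs

variable {r : Bool} {y : X} (B : Bs S U h A a r y)
include B

theorem mem' : cj h y ∈ cen S U := B.pre.frame.core.hC y B.mem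

theorem dl' : Dl h a (cj h y) (2, 2) (0, 2) := by
  have := B.pre.dl_hconj B.dl
  rwa [show hv ((2, 0) + (2, 2)) = (2, 2) by decide, show hv (2, 0) = (0, 2) by decide] at this

theorem sq' : cj h y * cj h y = va h a (if r then (2, 2) else 0) := by
  rw [← map_mul, B.sq, B.pre.h_va]
  congr 1
  cases r <;> decide

theorem y_mem : y ∈ B.pre.Mg := ⟨B.mem, (2, 0), B.dl⟩

/-- `y, hy, h²y` multiply to one. -/
theorem third : cj h (cj h y) = (y * cj h y)⁻¹ := by
  have P0 := B.pre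
  have d2 := P0.dl_hconj B.dl'
  have d3 := P0.dl_mul (P0.dl_mul B.dl B.dl') d2
  rw [show (2, 0) + (2, 2) + hv ((2, 2) + (0, 2)) = (0 : V) by decide,
    show (2, 2) + (0, 2) + hv (2, 2) = (0 : V) by decide] at d3
  obtain ⟨v, e⟩ := P0.va_span (P0.mem_A_of_dl
    (mul_mem (mul_mem B.mem B.mem') (P0.frame.core.hC _ B.mem')) d3)
  have hh : hv v = img (2, 0) (2, 2) v := P0.va_inj (by
    rw [← P0.h_va, ← P0.dl_va (P0.dl_inv B.dl), e, map_mul (cj h), map_mul (cj h), P0.three B.mem,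
      cj_apply y⁻¹]
    group)
  have hv0 : v = 0 := (by decide +kernel : ∀ v : V, hv v = img (2, 0) (2, 2) v → v = 0) v hh
  rw [hv0, P0.va_zero] at e
  exact eq_inv_of_mul_eq_one_right e.symm

theorem comm : y * cj h y = cj h y * y := by
  have P0 := B.pre
  obtain ⟨v, e⟩ := P0.va_span (P0.comm_mod B.mem' B.mem)
  have e1 : cj (cj h y) y = va h a v * y := by rw [e, inv_mul_cancel_right]
  have hU : va h a (if r then (0, 2) else 0) ∈ U :=
    P0.mem_U_iff.2 (by cases r <;> decide)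
  -- the commutator lies in `U`
  have h1 : v + img (2, 0) (2, 2) v = 0 := P0.va_inj (by
    have e2 : cj (cj h y) (y * y) = y * y := by
      rw [B.sq]; exact (mem_cen.1 B.mem').2 _ hU
    rw [P0.va_zero, P0.va_add, ← P0.dl_va B.dl]
    calc va h a v * cj y (va h a v) = va h a v * y * (va h a v * y) * (y * y)⁻¹ := by
          rw [cj_apply]; group
      _ = 1 := by rw [← e1, ← map_mul, e2, mul_inv_cancel])
  have h2 : -v + img (2, 2) (0, 2) (-v) = 0 := P0.va_inj (by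
    have e3 : cj y (cj h y) = va h a (-v) * cj h y := by
      rw [P0.va_neg, e]; simp only [cj_apply]; group
    have hU' : va h a (if r then (2, 2) else 0) ∈ U := P0.mem_U_iff.2 (by cases r <;> decide)
    have e2 : cj y (cj h y * cj h y) = cj h y * cj h y := by
      rw [B.sq']; exact (mem_cen.1 B.mem).2 _ hU'
    rw [P0.va_zero, P0.va_add, ← P0.dl_va B.dl']
    calc va h a (-v) * cj (cj h y) (va h a (-v))
        = va h a (-v) * cj h y * (va h a (-v) * cj h y) * (cj h y * cj h y)⁻¹ := by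
          rw [cj_apply (cj h y)]; group
      _ = 1 := by rw [← e3, ← map_mul, e2, mul_inv_cancel])
  have hvU : va h a v ∈ U := P0.mem_U_iff.2 ((by decide +kernel : ∀ v : V,
    v + img (2, 0) (2, 2) v = 0 → -v + img (2, 2) (0, 2) (-v) = 0 → v + v = 0) v h1 h2)
  have hfix : cj h (va h a v) = va h a v := by
    have hc : cj (y * cj h y)⁻¹ (va h a v) = va h a v :=
      (mem_cen.1 (inv_mem (mul_mem B.mem B.mem'))).2 _ hvU
    calc cj h (va h a v) = cj (cj h (cj h y)) (cj h y) * (cj h y)⁻¹ := by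
          rw [e, map_mul, map_inv]; simp only [cj_apply]; group
      _ = cj (y * cj h y)⁻¹ (va h a v) := by rw [B.third, e]; simp only [cj_apply]; group
      _ = _ := hc
  rw [P0.frame.fpf _ (P0.va_mem v) hfix, one_mul] at e1
  exact (cj_eq_self.1 e1).symm

theorem rel : BRel r a (cj h a) y (cj h y) := by
  have P0 := B.pre
  have e : ∀ i j : ℕ, va h a ((i : ZMod 4), (j : ZMod 4)) = a ^ i * cj h a ^ j := fun i j => by
    rw [va, pw_nat P0.a4, pw_nat P0.b4]
  refine ⟨P0.a4, P0.b4, P0.ab, ?_, ?_, ?_, ?_, ?_, ?_, B.comm⟩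
  · have h1 := B.dl.eA
    rw [show ((1, 0) : V) + (2, 0) = (((3 : ℕ) : ZMod 4), ((0 : ℕ) : ZMod 4)) by decide, e] at h1
    simp only [pow_zero, mul_one, one_mul] at h1
    exact h1
  · have h1 := B.dl.eB
    rw [show ((0, 1) : V) + (2, 2) = (((2 : ℕ) : ZMod 4), ((3 : ℕ) : ZMod 4)) by decide, e] at h1
    exact h1
  · have h1 := B.dl'.eA
    rw [show ((1, 0) : V) + (2, 2) = (((3 : ℕ) : ZMod 4), ((2 : ℕ) : ZMod 4)) by decide, e] at h1
    exact h1
  · have h1 := B.dl'.eB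
    rw [show ((0, 1) : V) + (0, 2) = (((0 : ℕ) : ZMod 4), ((3 : ℕ) : ZMod 4)) by decide, e] at h1
    simp only [pow_zero, mul_one, one_mul] at h1
    exact h1
  · rw [B.sq]
    cases r
    · simp [P0.va_zero]
    · simp only [if_true]
      rw [show ((0, 2) : V) = (((0 : ℕ) : ZMod 4), ((2 : ℕ) : ZMod 4)) by decide, e, pow_zero, one_mul]
  · rw [B.sq']
    cases r
    · simp [P0.va_zero]
    · simp only [if_true]
      rw [show ((2, 2) : V) = (((2 : ℕ) : ZMod 4), ((2 : ℕ) : ZMod 4)) by decide, e]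

theorem ev_va (v : V) : ev a (cj h a) y (cj h y) (v, (false, false)) = va h a v := by
  simp [ev, va]

theorem ev_mem (p : Code) : ev a (cj h a) y (cj h y) p ∈ B.pre.Mg := by
  have hy := B.y_mem
  refine mul_mem (B.pre.le_Mg (B.pre.va_mem p.1)) (mul_mem ?_ ?_) <;> split_ifs
  exacts [hy, one_mem _, B.pre.Mg_h hy, one_mem _]

theorem ev_inj {p q : Code} (e : ev a (cj h a) y (cj h y) p = ev a (cj h a) y (cj h y) q) : p = q := by
  have P0 := B.pre
  obtain ⟨v, f⟩ := p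
  obtain ⟨w, g⟩ := q
  change va h a v * _ = va h a w * _ at e
  set F := (if f.1 then y else 1) * (if f.2 then cj h y else 1) with hF
  set G := (if g.1 then y else 1) * (if g.2 then cj h y else 1) with hG
  have h1 : F * a * F⁻¹ = va h a (tw f (1, 0)) := by
    have := B.rel.twist f (1, 0)
    simp only [pw_one, pw_zero, mul_one, ← hF] at this
    exact this
  have h2 : G * a * G⁻¹ = va h a (tw g (1, 0)) := by
    have := B.rel.twist g (1, 0)
    simp only [pw_one, pw_zero, mul_one, ← hG] at this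
    exact this
  have h3 : ∀ (u : V) (T : X) (t : V), T * a * T⁻¹ = va h a t →
      (va h a u * T) * a * (va h a u * T)⁻¹ = va h a t := fun u T t ht => by
    calc (va h a u * T) * a * (va h a u * T)⁻¹ = va h a u * (T * a * T⁻¹) * (va h a u)⁻¹ := by group
      _ = _ := by rw [ht, ← P0.va_neg, ← P0.va_add, ← P0.va_add]; congr 1; abel
  have hfg := P0.va_inj ((h3 v F _ h1).symm.trans (e ▸ h3 w G _ h2))
  obtain rfl : f = g := (by decide +kernel : ∀ f g : Bool × Bool, tw f (1, 0) = tw g (1, 0) → f = g) f g hfg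
  rw [P0.va_inj (mul_right_cancel e)]

theorem mem_Mg {c : X} (hc : c ∈ B.pre.Mg) : ∃ p, ev a (cj h a) y (cj h y) p = c := by
  have P0 := B.pre
  obtain ⟨P, hP⟩ := hc.2
  have hP' := hP.tP
  obtain ⟨f, hf⟩ : ∃ f : Bool × Bool, Dl h a ((if f.1 then y else 1) * (if f.2 then cj h y else 1))
      P (hv (hv P)) := by
    have d12 := P0.dl_mul B.dl B.dl'
    rcases (by decide +kernel : ∀ P : V, P + P = 0 → (P = 0 ∧ hv (hv P) = 0) ∨
      (P = (2, 0) ∧ hv (hv P) = (2, 2)) ∨ (P = (2, 2) ∧ hv (hv P) = (0, 2)) ∨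
      (P = (2, 0) + (2, 2) ∧ hv (hv P) = (2, 2) + (0, 2))) P hP' with
      ⟨e1, e2⟩ | ⟨e1, e2⟩ | ⟨e1, e2⟩ | ⟨e1, e2⟩ <;> rw [e2, e1]
    · exact ⟨(false, false), by simpa using P0.dl_zero A.one_mem⟩
    · exact ⟨(true, false), by simpa using B.dl⟩
    · exact ⟨(false, true), by simpa using B.dl'⟩
    · exact ⟨(true, true), by simpa using d12⟩
  set F := (if f.1 then y else 1) * (if f.2 then cj h y else 1) with hF
  have hFC : F ∈ cen S U := mul_mem (by split_ifs <;> first | exact B.mem | exact one_mem _)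
    (by split_ifs <;> first | exact B.mem' | exact one_mem _)
  obtain ⟨v, rfl⟩ := P0.eq_mod hFC hc.1 hf hP
  refine ⟨(tw f v, f), ?_⟩
  show pw a (tw f v).1 * pw (cj h a) (tw f v).2 * F = F * va h a v
  rw [← B.rel.twist f v, ← hF, inv_mul_cancel_right]
  rfl

end Bs

end Cfsg.Agent.Lib.NoEight59.Two
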